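import Mathlib
import Cfsg.Agent.H23.HN.Cube.Data

/-!
A derivation that a word fixes the first coset (generated data).
-/

set_option autoImplicit false
set_option maxRecDepth 100000
set_option linter.all false
set_option Elab.async false

namespace H23
namespace HN
namespace Cube

open H93.CosetI

noncomputable section

def st0 : List Step := [(0,[],[]),
(0,[],[]),
(0,[],[]),
(0,[],[]),
(0,[],[]),
(0,[],[]),
(0,[],[]),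
(0,[],[]),
(0,[],[]),
(0,[],[]),
(0,[],[]),
(0,[],[]),
(0,[],[]),
(0,[],[]),
(0,[],[]),
(0,[],[]),
(0,[],[]),
(0,[],[]),
(0,[],[]),
(0,[],[]),
(0,[],[]),
(0,[],[]),
(0,[],[]),
(0,[],[]),
(0,[],[]),
(0,[],[]),
(0,[],[]),
(0,[],[]),
(0,[],[]),
(0,[],[]),
(0,[],[]),
(0,[],[]),
(0,[],[]),
(0,[],[]),
(0,[],[]),
(0,[],[]),
(0,[],[]),
(0,[],[]),
(0,[],[]),
(0,[],[]),
(0,[],[]),
(0,[],[]),
(0,[],[]),
(0,[],[]),
(0,[],[]),
(0,[],[]),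
(0,[],[]),
(0,[],[]),
(0,[],[]),
(0,[],[]),
(0,[],[]),
(0,[],[]),
(0,[],[]),
(0,[],[]),
(0,[],[]),
(0,[],[]),
(0,[],[]),
(0,[],[]),
(0,[],[]),
(0,[],[]),
(0,[],[]),
(0,[],[]),
(0,[],[]),
(0,[],[]),
(0,[],[]),
(2,[120,122,124,126,128],[]),
(0,[],[]),
(0,[],[]),
(0,[],[]),
(0,[],[]),
(0,[],[]),
(0,[],[]),
(0,[],[]),
(0,[],[]),
(3,[0,2,132,134,136,138,140,142,144,146],[131]),
(0,[],[]),
(0,[],[]),
(0,[],[]),
(0,[],[]),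
(0,[],[]),
(0,[],[]),
(0,[],[]),
(0,[],[]),
(0,[],[]),
(0,[],[]),
(0,[],[]),
(0,[],[]),
(5,[131,149,150,152,154,156,158,160,162,164,166,168,170,172],[0]),
(0,[],[]),
(0,[],[]),
(0,[],[]),
(0,[],[]),
(0,[],[]),
(0,[],[]),
(0,[],[]),
(0,[],[]),
(0,[],[]),
(0,[],[]),
(0,[],[]),
(0,[],[]),
(0,[],[]),
(0,[],[]),
(0,[],[]),
(4,[0,175,176,178,180,182,184,186,188,190,192,194,196,198,200,202,204],[131,129,127]),
(0,[],[]),
(2,[175,176,208],[2,4]),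
(0,[],[]),
(0,[],[]),
(0,[],[]),
(0,[],[]),
(0,[],[]),
(0,[],[]),
(0,[],[]),
(0,[],[]),
(0,[],[]),
(0,[],[]),
(0,[],[]),
(5,[2,132,212,214,216,218,220,222,224,226,228,230,232],[1,120]),
(0,[],[]),
(0,[],[]),
(0,[],[]),
(0,[],[]),
(0,[],[]),
(0,[],[]),
(0,[],[]),
(0,[],[]),
(0,[],[]),
(0,[],[]),
(0,[],[]),
(0,[],[]),
(0,[],[]),
(0,[],[]),
(4,[1,120,122,236,238,240,242,244,246,248,250,252,254,256,258,260,262],[2,4,211]),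
(0,[],[]),
(0,[],[]),
(0,[],[]),
(0,[],[]),
(3,[132,212,214,266,268,270,272],[4,6,8,10]),
(0,[],[]),
(0,[],[]),
(0,[],[]),
(0,[],[]),
(0,[],[]),
(0,[],[]),
(0,[],[]),
(0,[],[]),
(0,[],[]),
(0,[],[]),
(5,[4,6,276,278,280,282,284,286,288,290,292,294],[132,134,136]),
(0,[],[]),
(0,[],[]),
(0,[],[]),
(0,[],[]),
(0,[],[]),
(0,[],[]),
(0,[],[]),
(0,[],[]),
(0,[],[]),
(0,[],[]),
(0,[],[]),
(0,[],[]),
(0,[],[]),
(0,[],[]),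
(4,[132,134,298,300,302,304,306,308,310,312,314,316,318,320,322,324],[4,211,209,178]),
(0,[],[]),
(0,[],[]),
(0,[],[]),
(0,[],[]),
(0,[],[]),
(0,[],[]),
(3,[6,276,278,328,330,332,334,336,338],[211,265]),
(0,[],[]),
(0,[],[]),
(0,[],[]),
(0,[],[]),
(0,[],[]),
(0,[],[]),
(0,[],[]),
(5,[211,265,263,342,344,346,348,350,352,354],[6,8,10,12,14]),
(0,[],[]),
(0,[],[]),
(0,[],[]),
(0,[],[]),
(0,[],[]),
(0,[],[]),
(0,[],[]),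
(0,[],[]),
(0,[],[]),
(0,[],[]),
(0,[],[]),
(0,[],[]),
(0,[],[]),
(0,[],[]),
(4,[6,8,358,360,362,364,366,368,370,372,374,376,378,380,382,384],[211,209,177,173]),
(0,[],[]),
(0,[],[]),
(2,[8,358,388,390],[276]),
(0,[],[]),
(0,[],[]),
(0,[],[]),
(0,[],[]),
(0,[],[]),
(0,[],[]),
(0,[],[]),
(0,[],[]),
(0,[],[]),
(4,[7,5,3,1,120,122,124,207,394,396,398,400,402,404,406,408,410],[276,393,391]),
(0,[],[]),
(0,[],[]),
(0,[],[]),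
(0,[],[]),
(0,[],[]),
(0,[],[]),
(0,[],[]),
(0,[],[]),
(0,[],[]),
(0,[],[]),
(0,[],[]),
(0,[],[]),
(0,[],[]),
(0,[],[]),
(0,[],[]),
(4,[10,12,414,416,418,420,422,424,426,428,430,432,434,436,438,440,442],[9,276,393]),
(0,[],[]),
(0,[],[]),
(2,[12,414,446,448],[275]),
(0,[],[]),
(0,[],[]),
(0,[],[]),
(0,[],[]),
(0,[],[]),
(0,[],[]),
(0,[],[]),
(0,[],[]),
(0,[],[]),
(5,[275,273,452,454,456,458,460,462,464,466,468],[11,358,360,362]),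
(0,[],[]),
(0,[],[]),
(0,[],[]),
(0,[],[]),
(0,[],[]),
(0,[],[]),
(0,[],[]),
(0,[],[]),
(0,[],[]),
(0,[],[]),
(0,[],[]),
(0,[],[]),
(0,[],[]),
(4,[11,358,388,413,472,474,476,478,480,482,484,486,488,490,492,494,496],[275,451,449])]
theorem ok0 : data.stepsOK st0 0 = true := by decide +kernel
def st1 : List Step := [(0,[],[]),
(0,[],[]),
(0,[],[]),
(0,[],[]),
(0,[],[]),
(3,[14,16,500,502,504,506,508],[13,11,358,360]),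
(0,[],[]),
(0,[],[]),
(0,[],[]),
(0,[],[]),
(0,[],[]),
(0,[],[]),
(0,[],[]),
(0,[],[]),
(0,[],[]),
(0,[],[]),
(0,[],[]),
(0,[],[]),
(0,[],[]),
(0,[],[]),
(0,[],[]),
(4,[14,357,512,514,516,518,520,522,524,526,528,530,532,534,536,538,540],[13,275,451]),
(0,[],[]),
(2,[357,512,544],[16,18]),
(0,[],[]),
(0,[],[]),
(0,[],[]),
(0,[],[]),
(0,[],[]),
(0,[],[]),
(0,[],[]),
(0,[],[]),
(0,[],[]),
(5,[16,500,548,550,552,554,556,558,560,562,564],[15,414,416,418]),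
(0,[],[]),
(0,[],[]),
(0,[],[]),
(0,[],[]),
(0,[],[]),
(0,[],[]),
(0,[],[]),
(0,[],[]),
(0,[],[]),
(0,[],[]),
(0,[],[]),
(0,[],[]),
(0,[],[]),
(4,[15,414,446,499,568,570,572,574,576,578,580,582,584,586,588,590,592],[16,18,547]),
(0,[],[]),
(0,[],[]),
(0,[],[]),
(0,[],[]),
(0,[],[]),
(3,[500,548,550,596,598,600,602,604],[18,20,22]),
(0,[],[]),
(0,[],[]),
(0,[],[]),
(0,[],[]),
(0,[],[]),
(0,[],[]),
(0,[],[]),
(0,[],[]),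
(0,[],[]),
(0,[],[]),
(5,[18,20,608,610,612,614,616,618,620,622,624,626],[500,502,504]),
(0,[],[]),
(0,[],[]),
(0,[],[]),
(0,[],[]),
(0,[],[]),
(0,[],[]),
(0,[],[]),
(0,[],[]),
(0,[],[]),
(0,[],[]),
(0,[],[]),
(0,[],[]),
(0,[],[]),
(0,[],[]),
(4,[500,502,630,632,634,636,638,640,642,644,646,648,650,652,654,656],[18,547,545,514]),
(0,[],[]),
(0,[],[]),
(0,[],[]),
(0,[],[]),
(0,[],[]),
(0,[],[]),
(3,[20,608,610,660,662,664,666,668,670],[547,595]),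
(0,[],[]),
(0,[],[]),
(0,[],[]),
(0,[],[]),
(0,[],[]),
(0,[],[]),
(0,[],[]),
(0,[],[]),
(0,[],[]),
(5,[547,595,593,674,676,678,680,682,684,686,688,690],[20,22,607]),
(0,[],[]),
(0,[],[]),
(0,[],[]),
(0,[],[]),
(0,[],[]),
(0,[],[]),
(0,[],[]),
(0,[],[]),
(0,[],[]),
(0,[],[]),
(0,[],[]),
(0,[],[]),
(4,[20,22,24,26,694,696,698,700,702,704,706,708,710,712,714,716],[547,545,513,355]),
(0,[],[]),
(0,[],[]),
(2,[22,24,720,722],[608]),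
(0,[],[]),
(0,[],[]),
(0,[],[]),
(0,[],[]),
(0,[],[]),
(0,[],[]),
(0,[],[]),
(0,[],[]),
(0,[],[]),
(4,[21,19,17,15,414,446,448,543,726,728,730,732,734,736,738,740,742],[608,725,723]),
(0,[],[]),
(0,[],[]),
(0,[],[]),
(0,[],[]),
(0,[],[]),
(0,[],[]),
(0,[],[]),
(0,[],[]),
(0,[],[]),
(0,[],[]),
(0,[],[]),
(0,[],[]),
(0,[],[]),
(0,[],[]),
(0,[],[]),
(4,[607,693,746,748,750,752,754,756,758,760,762,764,766,768,770,772,774],[23,608,725]),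
(0,[],[]),
(0,[],[]),
(0,[],[]),
(0,[],[]),
(3,[26,28,30,778,780,782,784],[25,607,693,691]),
(0,[],[]),
(0,[],[]),
(0,[],[]),
(0,[],[]),
(0,[],[]),
(0,[],[]),
(0,[],[]),
(0,[],[]),
(0,[],[]),
(5,[25,607,605,603,788,790,792,794,796,798,800,802,804],[26,694]),
(0,[],[]),
(0,[],[]),
(0,[],[]),
(0,[],[]),
(0,[],[]),
(0,[],[]),
(0,[],[]),
(0,[],[]),
(0,[],[]),
(0,[],[]),
(0,[],[]),
(0,[],[]),
(4,[26,694,696,808,810,812,814,816,818,820,822,824,826,828,830],[25,23,608,610,612]),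
(0,[],[]),
(2,[694,696,698,834],[28]),
(0,[],[]),
(0,[],[]),
(0,[],[]),
(0,[],[]),
(0,[],[]),
(0,[],[]),
(0,[],[]),
(0,[],[]),
(5,[28,30,32,34,838,840,842,844,846,848,850,852],[27,720,745]),
(0,[],[]),
(0,[],[]),
(0,[],[]),
(0,[],[]),
(0,[],[]),
(0,[],[]),
(0,[],[]),
(0,[],[]),
(0,[],[]),
(0,[],[]),
(0,[],[]),
(0,[],[]),
(0,[],[]),
(0,[],[]),
(0,[],[]),
(4,[30,778,858,860,862,864,866,868,870,872,874,876,878,880,882,884],[837,835,699,808]),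
(0,[],[]),
(0,[],[]),
(2,[778,858,888,890],[32]),
(0,[],[]),
(0,[],[]),
(0,[],[]),
(0,[],[]),
(0,[],[]),
(0,[],[]),
(0,[],[]),
(0,[],[]),
(0,[],[]),
(0,[],[]),
(0,[],[]),
(0,[],[]),
(4,[31,29,694,807,805,894,896,898,900,902,904,906,908,910,912,914,916],[32,893,891]),
(0,[],[]),
(0,[],[]),
(0,[],[]),
(0,[],[]),
(0,[],[]),
(0,[],[]),
(0,[],[]),
(3,[34,838,840,920,922,924,926,928,930,932],[893]),
(0,[],[]),
(0,[],[]),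
(0,[],[]),
(0,[],[]),
(0,[],[]),
(0,[],[]),
(0,[],[]),
(0,[],[]),
(0,[],[]),
(0,[],[]),
(5,[893,935,936,938,940,942,944,946,948,950,952,954],[34,36,856]),
(0,[],[]),
(0,[],[]),
(0,[],[]),
(0,[],[]),
(0,[],[]),
(0,[],[]),
(0,[],[]),
(0,[],[]),
(0,[],[]),
(0,[],[]),
(0,[],[]),
(0,[],[]),
(4,[34,36,38,40,958,960,962,964,966,968,970,972,974,976,978,980],[893,891,889,860]),
(0,[],[]),
(0,[],[]),
(2,[36,38,984,986],[838]),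
(0,[],[]),
(0,[],[]),
(0,[],[]),
(0,[],[]),
(0,[],[])]
theorem ok1 : data.stepsOK st1 250 = true := by decide +kernel
def st2 : List Step := [(0,[],[]),
(0,[],[]),
(0,[],[]),
(0,[],[]),
(0,[],[]),
(0,[],[]),
(0,[],[]),
(0,[],[]),
(0,[],[]),
(0,[],[]),
(4,[856,957,990,992,994,996,998,1000,1002,1004,1006,1008,1010,1012,1014,1016,1018],[37,838,989]),
(0,[],[]),
(0,[],[]),
(0,[],[]),
(0,[],[]),
(0,[],[]),
(0,[],[]),
(0,[],[]),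
(0,[],[]),
(0,[],[]),
(0,[],[]),
(0,[],[]),
(0,[],[]),
(0,[],[]),
(0,[],[]),
(4,[40,958,960,1026,1028,1030,1032,1034,1036,1038,1040,1042,1044,1046,1048],[39,37,838,840,842]),
(2,[958,960,962],[42,44]),
(0,[],[]),
(0,[],[]),
(0,[],[]),
(0,[],[]),
(0,[],[]),
(0,[],[]),
(0,[],[]),
(0,[],[]),
(0,[],[]),
(0,[],[]),
(0,[],[]),
(0,[],[]),
(0,[],[]),
(0,[],[]),
(0,[],[]),
(0,[],[]),
(4,[41,984,986,1021,1062,1064,1066,1068,1070,1072,1074,1076,1078,1080,1082,1084],[42,44,1053,964]),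
(0,[],[]),
(0,[],[]),
(0,[],[]),
(0,[],[]),
(3,[1022,1054,1056,1088,1090,1092,1094],[44,46,48,50]),
(0,[],[]),
(0,[],[]),
(0,[],[]),
(0,[],[]),
(0,[],[]),
(0,[],[]),
(0,[],[]),
(0,[],[]),
(0,[],[]),
(0,[],[]),
(0,[],[]),
(0,[],[]),
(0,[],[]),
(0,[],[]),
(0,[],[]),
(0,[],[]),
(0,[],[]),
(0,[],[]),
(4,[1022,1024,1106,1108,1110,1112,1114,1116,1118,1120,1122,1124,1126,1128,1130,1132],[44,1053,963,1026]),
(0,[],[]),
(0,[],[]),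
(0,[],[]),
(0,[],[]),
(0,[],[]),
(3,[46,1098,1100,1136,1138,1140,1142,1144],[1053,964,966]),
(0,[],[]),
(0,[],[]),
(0,[],[]),
(0,[],[]),
(0,[],[]),
(0,[],[]),
(0,[],[]),
(5,[1053,964,1087,1148,1150,1152,1154,1156,1158,1160],[46,48,50,52,54]),
(0,[],[]),
(0,[],[]),
(0,[],[]),
(0,[],[]),
(2,[48,1164,1168,1170],[1098]),
(0,[],[]),
(0,[],[]),
(0,[],[]),
(0,[],[]),
(0,[],[]),
(0,[],[]),
(0,[],[]),
(0,[],[]),
(4,[47,45,43,41,984,986,988,840,920,1174,1176,1178,1180,1182,1184,1186,1188],[1098,1173,1171]),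
(0,[],[]),
(0,[],[]),
(0,[],[]),
(0,[],[]),
(0,[],[]),
(0,[],[]),
(0,[],[]),
(0,[],[]),
(0,[],[]),
(0,[],[]),
(0,[],[]),
(0,[],[]),
(0,[],[]),
(0,[],[]),
(0,[],[]),
(4,[50,52,1192,1194,1196,1198,1200,1202,1204,1206,1208,1210,1212,1214,1216,1218,1220],[49,1098,1173]),
(0,[],[]),
(0,[],[]),
(2,[52,1192,1224,1226],[1097]),
(0,[],[]),
(0,[],[]),
(0,[],[]),
(0,[],[]),
(0,[],[]),
(0,[],[]),
(0,[],[]),
(0,[],[]),
(0,[],[]),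
(0,[],[]),
(0,[],[]),
(0,[],[]),
(0,[],[]),
(0,[],[]),
(0,[],[]),
(4,[51,1164,1168,1191,1234,1236,1238,1240,1242,1244,1246,1248,1250,1252,1254,1256,1258],[1097,1229,1227]),
(0,[],[]),
(0,[],[]),
(0,[],[]),
(0,[],[]),
(0,[],[]),
(3,[54,56,1262,1264,1266,1268,1270],[53,51,1164,1166]),
(0,[],[]),
(0,[],[]),
(0,[],[]),
(0,[],[]),
(0,[],[]),
(0,[],[]),
(0,[],[]),
(0,[],[]),
(0,[],[]),
(0,[],[]),
(0,[],[]),
(0,[],[]),
(0,[],[]),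
(0,[],[]),
(0,[],[]),
(4,[54,1163,1274,1276,1278,1280,1282,1284,1286,1288,1290,1292,1294,1296,1298,1300,1302],[53,1097,1229]),
(0,[],[]),
(2,[1163,1274,1306],[56,58]),
(0,[],[]),
(0,[],[]),
(0,[],[]),
(0,[],[]),
(0,[],[]),
(0,[],[]),
(0,[],[]),
(0,[],[]),
(0,[],[]),
(0,[],[]),
(0,[],[]),
(0,[],[]),
(0,[],[]),
(0,[],[]),
(0,[],[]),
(4,[55,1192,1224,1261,1314,1316,1318,1320,1322,1324,1326,1328,1330,1332,1334,1336,1338],[56,58,1309]),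
(0,[],[]),
(0,[],[]),
(0,[],[]),
(0,[],[]),
(0,[],[]),
(3,[1262,1310,1312,1342,1344,1346,1348,1350],[58,60,62]),
(0,[],[]),
(0,[],[]),
(0,[],[]),
(0,[],[]),
(0,[],[]),
(0,[],[]),
(0,[],[]),
(0,[],[]),
(0,[],[]),
(0,[],[]),
(0,[],[]),
(0,[],[]),
(0,[],[]),
(0,[],[]),
(0,[],[]),
(0,[],[]),
(0,[],[]),
(0,[],[]),
(0,[],[]),
(0,[],[]),
(4,[1262,1264,1366,1368,1370,1372,1374,1376,1378,1380,1382,1384,1386,1388,1390,1392],[58,1309,1307,1276]),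
(0,[],[]),
(0,[],[]),
(0,[],[]),
(0,[],[]),
(0,[],[]),
(0,[],[]),
(3,[60,1354,1356,1396,1398,1400,1402,1404,1406],[1309,1341]),
(0,[],[]),
(0,[],[]),
(0,[],[]),
(0,[],[]),
(0,[],[]),
(0,[],[]),
(0,[],[]),
(0,[],[]),
(0,[],[]),
(5,[1309,1341,1339,1410,1412,1414,1416,1418,1420,1422,1424,1426],[60,62,1353]),
(0,[],[]),
(0,[],[]),
(0,[],[]),
(0,[],[]),
(0,[],[]),
(0,[],[]),
(0,[],[]),
(0,[],[]),
(0,[],[]),
(0,[],[]),
(0,[],[]),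
(0,[],[]),
(4,[60,62,64,66,1430,1432,1434,1436,1438,1440,1442,1444,1446,1448,1450,1452],[1309,1307,1275,1161]),
(0,[],[]),
(0,[],[]),
(2,[62,64,1456,1458],[1354]),
(0,[],[]),
(0,[],[]),
(0,[],[]),
(0,[],[]),
(0,[],[]),
(0,[],[]),
(0,[],[]),
(0,[],[]),
(0,[],[]),
(4,[61,59,57,55,1192,1224,1226,1305,1462,1464,1466,1468,1470,1472,1474,1476,1478],[1354,1461,1459]),
(0,[],[]),
(0,[],[]),
(0,[],[]),
(0,[],[]),
(0,[],[]),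
(0,[],[]),
(0,[],[]),
(0,[],[]),
(0,[],[])]
theorem ok2 : data.stepsOK st2 500 = true := by decide +kernel
def st3 : List Step := [(0,[],[]),
(0,[],[]),
(0,[],[]),
(0,[],[]),
(0,[],[]),
(0,[],[]),
(4,[1353,1429,1482,1484,1486,1488,1490,1492,1494,1496,1498,1500,1502,1504,1506,1508,1510],[63,1354,1461]),
(0,[],[]),
(0,[],[]),
(0,[],[]),
(0,[],[]),
(3,[66,68,70,1514,1516,1518,1520],[65,1353,1429,1427]),
(0,[],[]),
(0,[],[]),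
(0,[],[]),
(0,[],[]),
(0,[],[]),
(0,[],[]),
(0,[],[]),
(0,[],[]),
(0,[],[]),
(5,[65,1353,1351,1349,1524,1526,1528,1530,1532,1534,1536,1538,1540],[66,1430]),
(0,[],[]),
(0,[],[]),
(0,[],[]),
(0,[],[]),
(0,[],[]),
(0,[],[]),
(0,[],[]),
(0,[],[]),
(0,[],[]),
(0,[],[]),
(0,[],[]),
(0,[],[]),
(4,[66,1430,1432,1544,1546,1548,1550,1552,1554,1556,1558,1560,1562,1564,1566],[65,63,1354,1356,1358]),
(0,[],[]),
(2,[1430,1432,1434,1570],[68]),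
(0,[],[]),
(0,[],[]),
(0,[],[]),
(0,[],[]),
(0,[],[]),
(0,[],[]),
(0,[],[]),
(0,[],[]),
(5,[68,70,72,74,1574,1576,1578,1580,1582,1584,1586,1588],[67,1456,1481]),
(0,[],[]),
(0,[],[]),
(0,[],[]),
(0,[],[]),
(0,[],[]),
(0,[],[]),
(0,[],[]),
(0,[],[]),
(0,[],[]),
(0,[],[]),
(0,[],[]),
(0,[],[]),
(4,[67,1456,1458,1513,1592,1594,1596,1598,1600,1602,1604,1606,1608,1610,1612,1614],[68,1573,1571,1436]),
(0,[],[]),
(0,[],[]),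
(0,[],[]),
(0,[],[]),
(0,[],[]),
(0,[],[]),
(3,[70,72,74,76,1618,1620,1622,1624,1626,1628],[1573]),
(0,[],[]),
(0,[],[]),
(0,[],[]),
(0,[],[]),
(0,[],[]),
(0,[],[]),
(0,[],[]),
(0,[],[]),
(0,[],[]),
(0,[],[]),
(0,[],[]),
(0,[],[]),
(0,[],[]),
(0,[],[]),
(4,[70,1514,1632,1634,1636,1638,1640,1642,1644,1646,1648,1650,1652,1654,1656,1658],[1573,1571,1435,1544]),
(0,[],[]),
(0,[],[]),
(2,[1514,1632,1662,1664],[72]),
(0,[],[]),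
(0,[],[]),
(0,[],[]),
(0,[],[]),
(0,[],[]),
(0,[],[]),
(0,[],[]),
(0,[],[]),
(0,[],[]),
(0,[],[]),
(0,[],[]),
(0,[],[]),
(4,[71,69,1430,1543,1541,1668,1670,1672,1674,1676,1678,1680,1682,1684,1686,1688,1690],[72,1667,1665]),
(0,[],[]),
(0,[],[]),
(0,[],[]),
(0,[],[]),
(0,[],[]),
(0,[],[]),
(0,[],[]),
(3,[74,1574,1576,1694,1696,1698,1700,1702,1704,1706],[1667]),
(0,[],[]),
(0,[],[]),
(0,[],[]),
(0,[],[]),
(0,[],[]),
(0,[],[]),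
(0,[],[]),
(0,[],[]),
(0,[],[]),
(0,[],[]),
(5,[1667,1709,1710,1712,1714,1716,1718,1720,1722,1724,1726,1728],[74,76,1618]),
(0,[],[]),
(0,[],[]),
(0,[],[]),
(0,[],[]),
(0,[],[]),
(0,[],[]),
(0,[],[]),
(0,[],[]),
(0,[],[]),
(0,[],[]),
(0,[],[]),
(0,[],[]),
(4,[74,76,78,80,1732,1734,1736,1738,1740,1742,1744,1746,1748,1750,1752,1754],[1667,1665,1663,1634]),
(0,[],[]),
(0,[],[]),
(2,[76,78,1758,1760],[1574]),
(0,[],[]),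
(0,[],[]),
(0,[],[]),
(0,[],[]),
(0,[],[]),
(0,[],[]),
(0,[],[]),
(0,[],[]),
(0,[],[]),
(0,[],[]),
(0,[],[]),
(0,[],[]),
(0,[],[]),
(0,[],[]),
(0,[],[]),
(4,[1618,1731,1764,1766,1768,1770,1772,1774,1776,1778,1780,1782,1784,1786,1788,1790,1792],[77,1574,1763]),
(0,[],[]),
(0,[],[]),
(0,[],[]),
(0,[],[]),
(0,[],[]),
(0,[],[]),
(0,[],[]),
(0,[],[]),
(0,[],[]),
(0,[],[]),
(0,[],[]),
(0,[],[]),
(0,[],[]),
(0,[],[]),
(4,[80,1732,1734,1800,1802,1804,1806,1808,1810,1812,1814,1816,1818,1820,1822],[79,77,1574,1576,1578]),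
(2,[1732,1734,1736],[82,84]),
(0,[],[]),
(0,[],[]),
(0,[],[]),
(0,[],[]),
(0,[],[]),
(0,[],[]),
(0,[],[]),
(0,[],[]),
(0,[],[]),
(0,[],[]),
(0,[],[]),
(0,[],[]),
(0,[],[]),
(0,[],[]),
(4,[81,1758,1760,1795,1832,1834,1836,1838,1840,1842,1844,1846,1848,1850,1852,1854],[82,84,1827,1738]),
(0,[],[]),
(0,[],[]),
(0,[],[]),
(0,[],[]),
(3,[1796,1828,1830,1858,1860,1862,1864],[84,86,88,90]),
(0,[],[]),
(0,[],[]),
(0,[],[]),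
(0,[],[]),
(0,[],[]),
(0,[],[]),
(0,[],[]),
(0,[],[]),
(0,[],[]),
(0,[],[]),
(0,[],[]),
(0,[],[]),
(0,[],[]),
(0,[],[]),
(0,[],[]),
(0,[],[]),
(0,[],[]),
(4,[1796,1798,1874,1876,1878,1880,1882,1884,1886,1888,1890,1892,1894,1896,1898,1900],[84,1827,1737,1800]),
(0,[],[]),
(0,[],[]),
(0,[],[]),
(0,[],[]),
(0,[],[]),
(0,[],[]),
(0,[],[]),
(0,[],[]),
(5,[1827,1738,1857,1906,1908,1910,1912,1914,1916,1918],[86,88,90,92,94]),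
(0,[],[]),
(0,[],[]),
(0,[],[]),
(0,[],[]),
(2,[88,1922,1926,1928],[1868]),
(0,[],[]),
(0,[],[]),
(0,[],[]),
(0,[],[]),
(0,[],[]),
(0,[],[]),
(0,[],[]),
(0,[],[]),
(4,[87,85,83,81,1758,1760,1762,1576,1694,1932,1934,1936,1938,1940,1942,1944,1946],[1868,1931,1929]),
(0,[],[]),
(0,[],[]),
(0,[],[]),
(0,[],[]),
(0,[],[]),
(0,[],[]),
(0,[],[]),
(0,[],[]),
(0,[],[]),
(0,[],[]),
(0,[],[]),
(0,[],[]),
(0,[],[]),
(0,[],[]),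
(0,[],[]),
(4,[90,92,1950,1952,1954,1956,1958,1960,1962,1964,1966,1968,1970,1972,1974,1976,1978],[89,1868,1931]),
(0,[],[]),
(0,[],[]),
(2,[92,1950,1982,1984],[1867]),
(0,[],[]),
(0,[],[]),
(0,[],[]),
(0,[],[]),
(0,[],[]),
(0,[],[])]
theorem ok3 : data.stepsOK st3 750 = true := by decide +kernel
def st4 : List Step := [(0,[],[]),
(0,[],[]),
(0,[],[]),
(0,[],[]),
(0,[],[]),
(0,[],[]),
(0,[],[]),
(4,[91,1922,1926,1949,1988,1990,1992,1994,1996,1998,2000,2002,2004,2006,2008,2010,2012],[1867,1987,1985]),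
(0,[],[]),
(0,[],[]),
(0,[],[]),
(0,[],[]),
(0,[],[]),
(3,[94,96,2016,2018,2020,2022,2024],[93,91,1922,1924]),
(0,[],[]),
(0,[],[]),
(0,[],[]),
(0,[],[]),
(0,[],[]),
(0,[],[]),
(0,[],[]),
(0,[],[]),
(0,[],[]),
(0,[],[]),
(0,[],[]),
(0,[],[]),
(0,[],[]),
(0,[],[]),
(0,[],[]),
(4,[94,1921,2028,2030,2032,2034,2036,2038,2040,2042,2044,2046,2048,2050,2052,2054,2056],[93,1867,1987]),
(0,[],[]),
(2,[1921,2028,2060],[96,98]),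
(0,[],[]),
(0,[],[]),
(0,[],[]),
(0,[],[]),
(0,[],[]),
(0,[],[]),
(0,[],[]),
(0,[],[]),
(0,[],[]),
(0,[],[]),
(0,[],[]),
(0,[],[]),
(0,[],[]),
(0,[],[]),
(0,[],[]),
(4,[95,1950,1982,2015,2068,2070,2072,2074,2076,2078,2080,2082,2084,2086,2088,2090,2092],[96,98,2063]),
(0,[],[]),
(0,[],[]),
(0,[],[]),
(0,[],[]),
(0,[],[]),
(3,[2016,2064,2066,2096,2098,2100,2102,2104],[98,100,102]),
(0,[],[]),
(0,[],[]),
(0,[],[]),
(0,[],[]),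
(0,[],[]),
(0,[],[]),
(0,[],[]),
(0,[],[]),
(0,[],[]),
(0,[],[]),
(0,[],[]),
(0,[],[]),
(0,[],[]),
(0,[],[]),
(0,[],[]),
(0,[],[]),
(0,[],[]),
(0,[],[]),
(0,[],[]),
(0,[],[]),
(0,[],[]),
(0,[],[]),
(4,[2016,2018,2124,2126,2128,2130,2132,2134,2136,2138,2140,2142,2144,2146,2148,2150],[98,2063,2061,2030]),
(0,[],[]),
(0,[],[]),
(0,[],[]),
(0,[],[]),
(0,[],[]),
(0,[],[]),
(3,[100,2108,2110,2154,2156,2158,2160,2162,2164],[2063,2095]),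
(0,[],[]),
(0,[],[]),
(0,[],[]),
(0,[],[]),
(0,[],[]),
(0,[],[]),
(0,[],[]),
(0,[],[]),
(0,[],[]),
(5,[2063,2095,2093,2168,2170,2172,2174,2176,2178,2180,2182,2184],[100,102,2107]),
(0,[],[]),
(0,[],[]),
(0,[],[]),
(0,[],[]),
(0,[],[]),
(0,[],[]),
(2,[102,104,2196,2198],[2108]),
(0,[],[]),
(0,[],[]),
(0,[],[]),
(0,[],[]),
(0,[],[]),
(0,[],[]),
(0,[],[]),
(0,[],[]),
(0,[],[]),
(4,[101,99,97,95,1950,1982,1984,2059,2202,2204,2206,2208,2210,2212,2214,2216,2218],[2108,2201,2199]),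
(0,[],[]),
(0,[],[]),
(0,[],[]),
(0,[],[]),
(0,[],[]),
(0,[],[]),
(0,[],[]),
(0,[],[]),
(0,[],[]),
(0,[],[]),
(0,[],[]),
(0,[],[]),
(0,[],[]),
(0,[],[]),
(0,[],[]),
(4,[2107,2187,2222,2224,2226,2228,2230,2232,2234,2236,2238,2240,2242,2244,2246,2248,2250],[103,2108,2201]),
(0,[],[]),
(0,[],[]),
(0,[],[]),
(0,[],[]),
(0,[],[]),
(0,[],[]),
(0,[],[]),
(0,[],[]),
(0,[],[]),
(0,[],[]),
(5,[105,2107,2105,2103,2256,2258,2260,2262,2264,2266,2268,2270,2272],[106,2188]),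
(0,[],[]),
(0,[],[]),
(0,[],[]),
(0,[],[]),
(0,[],[]),
(0,[],[]),
(0,[],[]),
(0,[],[]),
(0,[],[]),
(0,[],[]),
(0,[],[]),
(0,[],[]),
(4,[106,2188,2190,2276,2278,2280,2282,2284,2286,2288,2290,2292,2294,2296,2298],[105,103,2108,2110,2112]),
(0,[],[]),
(2,[2188,2190,2192,2302],[108]),
(0,[],[]),
(0,[],[]),
(0,[],[]),
(0,[],[]),
(0,[],[]),
(0,[],[]),
(0,[],[]),
(0,[],[]),
(5,[108,110,112,114,2306,2308,2310,2312,2314,2316,2318,2320],[107,2196,2221]),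
(0,[],[]),
(0,[],[]),
(0,[],[]),
(0,[],[]),
(0,[],[]),
(0,[],[]),
(0,[],[]),
(0,[],[]),
(0,[],[]),
(0,[],[]),
(0,[],[]),
(0,[],[]),
(4,[107,2196,2198,2253,2324,2326,2328,2330,2332,2334,2336,2338,2340,2342,2344,2346],[108,2305,2303,2194]),
(0,[],[]),
(0,[],[]),
(0,[],[]),
(0,[],[]),
(0,[],[]),
(0,[],[]),
(3,[110,112,114,116,2350,2352,2354,2356,2358,2360],[2305]),
(0,[],[]),
(0,[],[]),
(0,[],[]),
(0,[],[]),
(0,[],[]),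
(0,[],[]),
(0,[],[]),
(0,[],[]),
(0,[],[]),
(0,[],[]),
(0,[],[]),
(0,[],[]),
(0,[],[]),
(0,[],[]),
(4,[110,2254,2364,2366,2368,2370,2372,2374,2376,2378,2380,2382,2384,2386,2388,2390],[2305,2303,2193,2276]),
(0,[],[]),
(0,[],[]),
(0,[],[]),
(0,[],[]),
(0,[],[]),
(3,[235,2394,2396,2398,2400,2402],[121,0,175,173,387]),
(0,[],[]),
(0,[],[]),
(0,[],[]),
(0,[],[]),
(0,[],[]),
(0,[],[]),
(0,[],[]),
(0,[],[]),
(0,[],[]),
(0,[],[]),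
(0,[],[]),
(0,[],[]),
(0,[],[]),
(0,[],[]),
(0,[],[]),
(4,[235,233,2406,2408,2410,2412,2414,2416,2418,2420,2422,2424,2426,2428,2430,2432,2434],[121,131,129]),
(0,[],[]),
(0,[],[]),
(0,[],[]),
(0,[],[]),
(0,[],[]),
(0,[],[]),
(0,[],[]),
(0,[],[]),
(0,[],[]),
(0,[],[]),
(0,[],[]),
(5,[123,235,2394,2396,2442,2444,2446,2448,2450,2452,2454,2456,2458],[236,238]),
(0,[],[]),
(0,[],[]),
(0,[],[]),
(0,[],[]),
(0,[],[]),
(0,[],[]),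
(0,[],[]),
(0,[],[]),
(0,[],[]),
(0,[],[]),
(0,[],[]),
(0,[],[]),
(4,[236,238,240,2462,2464,2466,2468,2470,2472,2474,2476,2478,2480,2482,2484],[123,121,131,149,150]),
(0,[],[]),
(0,[],[]),
(0,[],[]),
(0,[],[]),
(0,[],[]),
(3,[207,205,2488,2490,2492,2494,2496],[125,236,238,2461])]
theorem ok4 : data.stepsOK st4 1000 = true := by decide +kernel
def st5 : List Step := [(0,[],[]),
(0,[],[]),
(0,[],[]),
(0,[],[]),
(0,[],[]),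
(0,[],[]),
(0,[],[]),
(0,[],[]),
(0,[],[]),
(5,[125,236,2438,2440,2500,2502,2504,2506,2508,2510,2512,2514,2516],[207,394]),
(0,[],[]),
(0,[],[]),
(0,[],[]),
(0,[],[]),
(0,[],[]),
(3,[2437,2435,2520,2522,2524,2526,2528],[127,207,394,2519]),
(0,[],[]),
(0,[],[]),
(0,[],[]),
(0,[],[]),
(0,[],[]),
(0,[],[]),
(0,[],[]),
(0,[],[]),
(0,[],[]),
(0,[],[]),
(5,[127,207,205,2488,2532,2534,2536,2538,2540,2542,2544,2546,2548,2550],[2437]),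
(0,[],[]),
(0,[],[]),
(0,[],[]),
(0,[],[]),
(0,[],[]),
(0,[],[]),
(0,[],[]),
(0,[],[]),
(0,[],[]),
(0,[],[]),
(0,[],[]),
(0,[],[]),
(0,[],[]),
(4,[2437,2553,2554,2556,2558,2560,2562,2564,2566,2568,2570,2572,2574,2576,2578],[127,125,123,235,2394]),
(0,[],[]),
(0,[],[]),
(0,[],[]),
(0,[],[]),
(3,[149,150,152,2582,2584,2586,2588],[129,2437,2553,2551]),
(0,[],[]),
(0,[],[]),
(0,[],[]),
(0,[],[]),
(0,[],[]),
(0,[],[]),
(0,[],[]),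
(0,[],[]),
(5,[129,2437,2435,2520,2592,2594,2596,2598,2600,2602,2604,2606],[149,147,145]),
(0,[],[]),
(0,[],[]),
(0,[],[]),
(0,[],[]),
(0,[],[]),
(0,[],[]),
(0,[],[]),
(0,[],[]),
(0,[],[]),
(0,[],[]),
(0,[],[]),
(0,[],[]),
(0,[],[]),
(4,[149,147,2610,2612,2614,2616,2618,2620,2622,2624,2626,2628,2630,2632,2634],[129,127,125,236,2438]),
(0,[],[]),
(0,[],[]),
(2,[134,298,2638,2640],[212]),
(0,[],[]),
(0,[],[]),
(0,[],[]),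
(0,[],[]),
(0,[],[]),
(0,[],[]),
(0,[],[]),
(0,[],[]),
(0,[],[]),
(0,[],[]),
(0,[],[]),
(0,[],[]),
(4,[133,3,175,173,171,2644,2646,2648,2650,2652,2654,2656,2658,2660,2662,2664,2666],[212,2643,2641]),
(0,[],[]),
(0,[],[]),
(0,[],[]),
(0,[],[]),
(0,[],[]),
(0,[],[]),
(0,[],[]),
(0,[],[]),
(0,[],[]),
(0,[],[]),
(0,[],[]),
(0,[],[]),
(0,[],[]),
(0,[],[]),
(0,[],[]),
(4,[136,297,2670,2672,2674,2676,2678,2680,2682,2684,2686,2688,2690,2692,2694,2696,2698],[135,212,2643]),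
(0,[],[]),
(0,[],[]),
(2,[297,2670,2702,2704],[138]),
(0,[],[]),
(0,[],[]),
(0,[],[]),
(0,[],[]),
(0,[],[]),
(0,[],[]),
(0,[],[]),
(0,[],[]),
(0,[],[]),
(5,[138,140,2708,2710,2712,2714,2716,2718,2720,2722,2724],[137,298,300,302]),
(0,[],[]),
(0,[],[]),
(0,[],[]),
(0,[],[]),
(0,[],[]),
(0,[],[]),
(0,[],[]),
(0,[],[]),
(0,[],[]),
(0,[],[]),
(0,[],[]),
(0,[],[]),
(0,[],[]),
(4,[137,298,2638,2669,2728,2730,2732,2734,2736,2738,2740,2742,2744,2746,2748,2750,2752],[138,2707,2705]),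
(0,[],[]),
(0,[],[]),
(2,[142,2609,2756,2758],[2708]),
(0,[],[]),
(0,[],[]),
(0,[],[]),
(0,[],[]),
(0,[],[]),
(0,[],[]),
(0,[],[]),
(0,[],[]),
(0,[],[]),
(0,[],[]),
(0,[],[]),
(0,[],[]),
(0,[],[]),
(0,[],[]),
(0,[],[]),
(4,[144,2610,2762,2764,2766,2768,2770,2772,2774,2776,2778,2780,2782,2784,2786,2788,2790],[143,2708,2761]),
(2,[2610,2762],[146,150,2487]),
(0,[],[]),
(0,[],[]),
(0,[],[]),
(0,[],[]),
(0,[],[]),
(0,[],[]),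
(0,[],[]),
(0,[],[]),
(0,[],[]),
(0,[],[]),
(4,[148,130,120,235,233,2406,2796,2798,2800,2802,2804,2806,2808,2810,2812,2814],[150,2487,2795,2764]),
(0,[],[]),
(0,[],[]),
(0,[],[]),
(2,[2582,2818,2820,2822],[154]),
(0,[],[]),
(0,[],[]),
(0,[],[]),
(0,[],[]),
(0,[],[]),
(0,[],[]),
(0,[],[]),
(0,[],[]),
(0,[],[]),
(4,[153,151,147,145,2609,2756,2758,2793,2826,2828,2830,2832,2834,2836,2838,2840,2842],[154,2825,2823]),
(0,[],[]),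
(0,[],[]),
(0,[],[]),
(0,[],[]),
(0,[],[]),
(0,[],[]),
(0,[],[]),
(0,[],[]),
(0,[],[]),
(0,[],[]),
(0,[],[]),
(0,[],[]),
(0,[],[]),
(0,[],[]),
(0,[],[]),
(2,[2846,2854,2872,2874],[166]),
(0,[],[]),
(0,[],[]),
(0,[],[]),
(0,[],[]),
(3,[168,170,172,176,178,327,2878,2880,2882,2884],[2877]),
(0,[],[]),
(0,[],[]),
(0,[],[]),
(0,[],[]),
(0,[],[]),
(0,[],[]),
(0,[],[]),
(0,[],[]),
(0,[],[]),
(0,[],[]),
(5,[2877,2887,2888,2890,2892,2894,2896,2898,2900,2902,2904,2906],[168,2644,2848]),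
(0,[],[]),
(0,[],[]),
(0,[],[]),
(0,[],[]),
(0,[],[]),
(0,[],[]),
(0,[],[]),
(0,[],[]),
(0,[],[]),
(0,[],[]),
(4,[168,2644,2646,2648,2650,2652,2910,2912,2914,2916,2918,2920,2922,2924,2926,2928],[2877,2875,2873,2856]),
(2,[2644,2646],[170,387,385]),
(0,[],[]),
(0,[],[]),
(0,[],[]),
(0,[],[]),
(0,[],[]),
(0,[],[]),
(0,[],[]),
(0,[],[]),
(0,[],[]),
(5,[387,2405,2934,2936,2938,2940,2942,2944,2946,2948,2950],[172,176,178,180]),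
(0,[],[]),
(0,[],[]),
(0,[],[]),
(0,[],[]),
(0,[],[]),
(0,[],[]),
(0,[],[]),
(0,[],[]),
(0,[],[]),
(0,[],[]),
(0,[],[]),
(4,[172,176,208,265,341,2954,2956,2958,2960,2962,2964,2966,2968,2970,2972,2974],[387,385,2933,2648]),
(0,[],[]),
(0,[],[]),
(0,[],[]),
(0,[],[]),
(0,[],[]),
(0,[],[]),
(4,[173,171,2644,2848,2909,2978,2980,2982,2984,2986,2988],[174,2,4,6,276,393,445,443,441]),
(0,[],[]),
(2,[180,182,184],[327,325]),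
(0,[],[]),
(0,[],[])]
theorem ok5 : data.stepsOK st5 1250 = true := by decide +kernel
def st6 : List Step := [(0,[],[]),
(0,[],[]),
(0,[],[]),
(0,[],[]),
(0,[],[]),
(0,[],[]),
(5,[327,2878,2996,2998,3000,3002,3004,3006,3008,3010],[179,208,265,341,339]),
(0,[],[]),
(0,[],[]),
(0,[],[]),
(0,[],[]),
(0,[],[]),
(0,[],[]),
(4,[179,208,210,6,8,358,388,413,472,474,3014,3016,3018,3020,3022,3024],[327,325,2995,186]),
(0,[],[]),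
(0,[],[]),
(0,[],[]),
(0,[],[]),
(3,[2953,3028,3030,3032,3034],[181,179,208,265,263,342]),
(0,[],[]),
(0,[],[]),
(0,[],[]),
(0,[],[]),
(0,[],[]),
(0,[],[]),
(0,[],[]),
(0,[],[]),
(0,[],[]),
(0,[],[]),
(0,[],[]),
(0,[],[]),
(5,[185,2992,3038,3040,3044,3046,3048,3050,3052,3054,3056,3058,3060],[186,188]),
(0,[],[]),
(2,[188,190,3064],[3027,3025]),
(0,[],[]),
(0,[],[]),
(0,[],[]),
(0,[],[]),
(0,[],[]),
(0,[],[]),
(0,[],[]),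
(0,[],[]),
(0,[],[]),
(0,[],[]),
(5,[3027,3042,3068,3070,3072,3074,3076,3078,3080,3082,3084,3086],[187,2994,323]),
(0,[],[]),
(0,[],[]),
(0,[],[]),
(0,[],[]),
(0,[],[]),
(3,[3063,3090,3092,3094,3096,3098],[189,187,2994,323,321]),
(0,[],[]),
(0,[],[]),
(0,[],[]),
(0,[],[]),
(0,[],[]),
(0,[],[]),
(0,[],[]),
(0,[],[]),
(0,[],[]),
(0,[],[]),
(5,[191,3063,3090,3092,3104,3106,3108,3110,3112,3114,3116,3118,3120],[192,194]),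
(0,[],[]),
(0,[],[]),
(0,[],[]),
(2,[194,196,198,3128],[3102]),
(0,[],[]),
(0,[],[]),
(0,[],[]),
(0,[],[]),
(0,[],[]),
(0,[],[]),
(0,[],[]),
(0,[],[]),
(0,[],[]),
(0,[],[]),
(0,[],[]),
(0,[],[]),
(4,[193,3064,3066,3023,3132,3134,3136,3138,3140,3142,3144,3146,3148,3150,3152,3154],[3102,3131,3129,200]),
(0,[],[]),
(0,[],[]),
(0,[],[]),
(0,[],[]),
(0,[],[]),
(0,[],[]),
(0,[],[]),
(0,[],[]),
(0,[],[]),
(0,[],[]),
(0,[],[]),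
(5,[197,3123,3158,3160,3162,3164,3166,3168,3170,3172,3174,3176,3178],[3124,3126]),
(0,[],[]),
(0,[],[]),
(0,[],[]),
(0,[],[]),
(0,[],[]),
(3,[200,3157,3182,3184,3186,3188,3190],[199,3124,3126,3181]),
(2,[202,204,394,396],[3157,3155]),
(1,[3195],[]),
(1,[3197,3153],[]),
(1,[399,3198],[]),
(1,[3197,3154],[]),
(1,[3201],[]),
(1,[3205,3151],[]),
(0,[],[]),
(0,[],[]),
(0,[],[]),
(0,[],[]),
(0,[],[]),
(0,[],[]),
(0,[],[]),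
(0,[],[]),
(0,[],[]),
(0,[],[]),
(0,[],[]),
(0,[],[]),
(4,[206,126,128,149,147,2610,2762,2764,2766,2768,3222,3224,3226,3228,3230],[205,203,3157,3182,3208]),
(0,[],[]),
(0,[],[]),
(0,[],[]),
(0,[],[]),
(0,[],[]),
(0,[],[]),
(0,[],[]),
(0,[],[]),
(4,[265,341,2954,3234,3236,3238,3240,3242,3244,3246,3248],[209,177,174,1,131,129,2437,2435,2433]),
(0,[],[]),
(0,[],[]),
(0,[],[]),
(0,[],[]),
(0,[],[]),
(0,[],[]),
(0,[],[]),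
(0,[],[]),
(0,[],[]),
(0,[],[]),
(5,[2643,2701,2699,3254,3256,3258,3260,3262,3264,3266,3268,3270],[214,266,268]),
(0,[],[]),
(0,[],[]),
(0,[],[]),
(0,[],[]),
(0,[],[]),
(0,[],[]),
(0,[],[]),
(0,[],[]),
(0,[],[]),
(0,[],[]),
(0,[],[]),
(0,[],[]),
(0,[],[]),
(0,[],[]),
(4,[214,266,3274,3276,3278,3280,3282,3284,3286,3288,3290,3292,3294,3296,3298,3300],[2643,2641,2639,300]),
(0,[],[]),
(0,[],[]),
(2,[266,3274,3304,3306],[216]),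
(0,[],[]),
(0,[],[]),
(0,[],[]),
(0,[],[]),
(0,[],[]),
(0,[],[]),
(0,[],[]),
(0,[],[]),
(0,[],[]),
(4,[215,213,134,136,297,2670,2702,2755,3310,3312,3314,3316,3318,3320,3322,3324,3326],[216,3309,3307]),
(0,[],[]),
(0,[],[]),
(0,[],[]),
(0,[],[]),
(0,[],[]),
(0,[],[]),
(0,[],[]),
(0,[],[]),
(0,[],[]),
(0,[],[]),
(0,[],[]),
(0,[],[]),
(0,[],[]),
(0,[],[]),
(0,[],[]),
(4,[218,3252,3332,3334,3336,3338,3340,3342,3344,3346,3348,3350,3352,3354,3356,3358],[3309,3307,3305,3276]),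
(0,[],[]),
(0,[],[]),
(0,[],[]),
(0,[],[]),
(0,[],[]),
(0,[],[]),
(0,[],[]),
(2,[3330,3370,3372,3374],[224]),
(0,[],[]),
(0,[],[]),
(0,[],[]),
(0,[],[]),
(0,[],[]),
(3,[226,228,230,2406,2408,3378,3380,3382,3384,3386],[3377]),
(0,[],[]),
(0,[],[]),
(0,[],[]),
(0,[],[]),
(0,[],[]),
(0,[],[]),
(0,[],[]),
(0,[],[]),
(0,[],[]),
(0,[],[]),
(5,[3377,3389,3390,3392,3394,3396,3398,3400,3402,3404,3406,3408],[226,3366,3368]),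
(0,[],[]),
(0,[],[]),
(0,[],[]),
(0,[],[]),
(0,[],[]),
(0,[],[]),
(0,[],[]),
(2,[2406,2796],[232,2394,2581]),
(0,[],[]),
(0,[],[]),
(0,[],[]),
(0,[],[]),
(0,[],[]),
(0,[],[]),
(0,[],[]),
(0,[],[]),
(0,[],[]),
(4,[231,229,3366,3368,3411,3428,3430,3432,3434,3436,3438,3440,3442,3444],[232,2394,2581,2579,2577,2575]),
(0,[],[]),
(0,[],[]),
(0,[],[]),
(0,[],[]),
(0,[],[]),
(0,[],[]),
(0,[],[]),
(4,[234,122,124,207,394,396,3202,3182,3184,3448,3450,3452,3454,3456,3458,3460],[2394,2581,3427,2798]),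
(2,[238,240,242],[2438,2637]),
(0,[],[]),
(0,[],[]),
(0,[],[]),
(0,[],[]),
(0,[],[]),
(0,[],[]),
(0,[],[]),
(0,[],[]),
(0,[],[]),
(0,[],[]),
(4,[237,124,126,2437,2553,2554,3466,3468,3470,3472,3474,3476,3478,3480,3482,3484],[2438,2637,3465,244]),
(0,[],[]),
(0,[],[]),
(0,[],[]),
(0,[],[]),
(0,[],[]),
(0,[],[])]
theorem ok6 : data.stepsOK st6 1500 = true := by decide +kernel
def st7 : List Step := [(0,[],[]),
(0,[],[]),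
(0,[],[]),
(0,[],[]),
(0,[],[]),
(0,[],[]),
(0,[],[]),
(0,[],[]),
(0,[],[]),
(5,[243,2462,3492,3494,3500,3502,3504,3506,3508,3510,3512,3514,3516],[244,246]),
(0,[],[]),
(2,[246,248,3520],[3487,3485]),
(0,[],[]),
(0,[],[]),
(0,[],[]),
(0,[],[]),
(0,[],[]),
(0,[],[]),
(0,[],[]),
(0,[],[]),
(0,[],[]),
(0,[],[]),
(0,[],[]),
(0,[],[]),
(0,[],[]),
(0,[],[]),
(0,[],[]),
(0,[],[]),
(0,[],[]),
(4,[250,252,254,3534,3536,3538,3540,3542,3544,3546,3548,3550,3552,3554,3556],[249,247,3487,3496,3524]),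
(0,[],[]),
(2,[252,254,256,3560],[3528]),
(0,[],[]),
(0,[],[]),
(0,[],[]),
(0,[],[]),
(0,[],[]),
(0,[],[]),
(0,[],[]),
(0,[],[]),
(0,[],[]),
(0,[],[]),
(0,[],[]),
(0,[],[]),
(4,[251,3520,3522,3483,3564,3566,3568,3570,3572,3574,3576,3578,3580,3582,3584,3586],[3528,3563,3561,258]),
(0,[],[]),
(0,[],[]),
(0,[],[]),
(0,[],[]),
(2,[260,262,341,2954,2956],[3589]),
(1,[3599],[]),
(1,[3601,3590],[]),
(1,[2959,3602],[]),
(1,[3601,3588],[]),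
(1,[3601,3587],[]),
(1,[2956,3608],[]),
(1,[3605],[]),
(1,[3613,3592],[]),
(1,[2961,3614],[]),
(1,[3611],[]),
(1,[3619,3585],[]),
(1,[3235,3620],[]),
(1,[3617],[]),
(1,[3625,3594],[]),
(1,[3623],[]),
(1,[3629,3583],[]),
(0,[],[]),
(0,[],[]),
(0,[],[]),
(0,[],[]),
(0,[],[]),
(0,[],[]),
(0,[],[]),
(0,[],[]),
(0,[],[]),
(0,[],[]),
(0,[],[]),
(0,[],[]),
(0,[],[]),
(4,[259,3560,3562,3530,3532,3638,3640,3642,3644,3646,3648,3650,3652,3654,3656],[3607,2957,2955,339,337]),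
(0,[],[]),
(0,[],[]),
(0,[],[]),
(0,[],[]),
(0,[],[]),
(0,[],[]),
(0,[],[]),
(0,[],[]),
(0,[],[]),
(0,[],[]),
(0,[],[]),
(0,[],[]),
(0,[],[]),
(4,[264,210,5,132,134,298,2638,2669,2728,2730,3676,3678,3680,3682,3684],[263,261,3607,2958,3632]),
(0,[],[]),
(0,[],[]),
(0,[],[]),
(2,[3273,3362,3364],[270,452]),
(0,[],[]),
(0,[],[]),
(0,[],[]),
(0,[],[]),
(0,[],[]),
(0,[],[]),
(0,[],[]),
(0,[],[]),
(0,[],[]),
(3,[272,451,543,726,3704,3706,3708,3710,3712],[452,454]),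
(0,[],[]),
(0,[],[]),
(0,[],[]),
(0,[],[]),
(0,[],[]),
(0,[],[]),
(0,[],[]),
(4,[272,274,12,14,357,512,544,595,673,3716,3718,3720,3722,3724,3726,3728],[452,3695,3365,3688]),
(0,[],[]),
(0,[],[]),
(0,[],[]),
(0,[],[]),
(0,[],[]),
(0,[],[]),
(0,[],[]),
(0,[],[]),
(0,[],[]),
(0,[],[]),
(0,[],[]),
(4,[273,271,3273,3271,3269,3732,3734,3736,3738,3740,3742,3744,3746,3748,3750,3752],[451,449,447,416]),
(0,[],[]),
(0,[],[]),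
(0,[],[]),
(0,[],[]),
(0,[],[]),
(0,[],[]),
(3,[278,280,282,3756,3758,3760,3762,3764,3766],[393,445]),
(0,[],[]),
(0,[],[]),
(0,[],[]),
(0,[],[]),
(0,[],[]),
(0,[],[]),
(0,[],[]),
(0,[],[]),
(0,[],[]),
(5,[393,445,443,3770,3772,3774,3776,3778,3780,3782,3784,3786],[278,328,330]),
(0,[],[]),
(0,[],[]),
(0,[],[]),
(0,[],[]),
(0,[],[]),
(0,[],[]),
(0,[],[]),
(0,[],[]),
(0,[],[]),
(0,[],[]),
(0,[],[]),
(0,[],[]),
(0,[],[]),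
(4,[278,328,3790,3792,3794,3796,3798,3800,3802,3804,3806,3808,3810,3812,3814],[393,391,389,360,511]),
(0,[],[]),
(0,[],[]),
(2,[328,3790,3818,3820],[280]),
(0,[],[]),
(0,[],[]),
(0,[],[]),
(0,[],[]),
(0,[],[]),
(0,[],[]),
(0,[],[]),
(4,[279,277,8,10,12,414,446,499,568,570,3824,3826,3828,3830,3832,3834,3836],[280,3823,3821]),
(0,[],[]),
(0,[],[]),
(0,[],[]),
(2,[3756,3840,3842,3844],[284]),
(0,[],[]),
(0,[],[]),
(0,[],[]),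
(0,[],[]),
(0,[],[]),
(0,[],[]),
(0,[],[]),
(0,[],[]),
(0,[],[]),
(0,[],[]),
(0,[],[]),
(0,[],[]),
(4,[283,281,328,330,3789,3848,3850,3852,3854,3856,3858,3860,3862,3864,3866,3868,3870],[284,3847,3845]),
(0,[],[]),
(0,[],[]),
(0,[],[]),
(0,[],[]),
(0,[],[]),
(0,[],[]),
(0,[],[]),
(0,[],[]),
(0,[],[]),
(0,[],[]),
(5,[3303,3874,3876,3878,3880,3882,3884,3886,3888,3890,3892],[301,2638,2669,2728]),
(0,[],[]),
(0,[],[]),
(0,[],[]),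
(0,[],[]),
(0,[],[]),
(3,[2727,3896,3898,3900,3902,3904],[303,301,2638,2669,2667]),
(0,[],[]),
(0,[],[]),
(0,[],[]),
(2,[316,318,320,3089],[3908]),
(0,[],[]),
(0,[],[]),
(0,[],[]),
(0,[],[]),
(0,[],[]),
(0,[],[]),
(0,[],[]),
(0,[],[]),
(5,[321,3101,3916,3918,3920,3922,3924,3926,3928,3930],[322,324,2878,2880,2882]),
(0,[],[]),
(0,[],[]),
(0,[],[]),
(0,[],[]),
(0,[],[]),
(0,[],[]),
(0,[],[]),
(0,[],[]),
(0,[],[]),
(0,[],[]),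
(4,[323,3089,3914,3910,3912,3934,3936,3938,3940,3942,3944,3946,3948,3950,3952],[2995,185,183,2953,3028]),
(0,[],[]),
(0,[],[]),
(0,[],[]),
(0,[],[]),
(2,[3789,3848,3850,3962],[332]),
(0,[],[]),
(0,[],[]),
(0,[],[]),
(0,[],[]),
(0,[],[]),
(0,[],[]),
(5,[332,334,3659,3657,3655,3966,3968,3970,3972,3974,3976],[331,3790,3792,3794]),
(0,[],[]),
(0,[],[]),
(0,[],[]),
(0,[],[]),
(0,[],[]),
(0,[],[]),
(0,[],[]),
(0,[],[]),
(0,[],[]),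
(0,[],[])]
theorem ok7 : data.stepsOK st7 1750 = true := by decide +kernel
def st8 : List Step := [(0,[],[]),
(0,[],[]),
(4,[331,3790,3818,3839,3980,3982,3984,3986,3988,3990,3992,3994,3996,3998,4000,4002],[332,3965,3963,3852]),
(0,[],[]),
(0,[],[]),
(0,[],[]),
(0,[],[]),
(0,[],[]),
(0,[],[]),
(0,[],[]),
(0,[],[]),
(0,[],[]),
(0,[],[]),
(0,[],[]),
(4,[334,336,3013,3011,3009,4006,4008,4010,4012,4014,4016,4018,4020,4022,4024,4026],[3965,3963,3851,3956]),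
(0,[],[]),
(0,[],[]),
(2,[336,3013,4030,4032],[3659]),
(0,[],[]),
(0,[],[]),
(0,[],[]),
(0,[],[]),
(0,[],[]),
(0,[],[]),
(0,[],[]),
(0,[],[]),
(0,[],[]),
(0,[],[]),
(0,[],[]),
(4,[338,2954,2956,2958,2960,2962,4036,4038,4040,4042,4044,4046,4048,4050,4052,4054,4056],[337,3659,4035]),
(0,[],[]),
(0,[],[]),
(2,[3037,3664,4060,4062],[344]),
(0,[],[]),
(0,[],[]),
(0,[],[]),
(0,[],[]),
(0,[],[]),
(0,[],[]),
(0,[],[]),
(0,[],[]),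
(0,[],[]),
(4,[343,262,341,339,3013,4030,4032,4059,4066,4068,4070,4072,4074,4076,4078,4080,4082],[344,4065,4063]),
(0,[],[]),
(0,[],[]),
(0,[],[]),
(0,[],[]),
(0,[],[]),
(0,[],[]),
(0,[],[]),
(3,[346,348,350,4086,4088,4090,4092,4094,4096,4098],[4065]),
(0,[],[]),
(0,[],[]),
(0,[],[]),
(0,[],[]),
(0,[],[]),
(0,[],[]),
(0,[],[]),
(0,[],[]),
(0,[],[]),
(0,[],[]),
(5,[4065,4101,4102,4104,4106,4108,4110,4112,4114,4116,4118,4120],[346,3660,3662]),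
(0,[],[]),
(0,[],[]),
(0,[],[]),
(0,[],[]),
(0,[],[]),
(0,[],[]),
(0,[],[]),
(0,[],[]),
(0,[],[]),
(0,[],[]),
(0,[],[]),
(0,[],[]),
(0,[],[]),
(0,[],[]),
(4,[346,3660,4124,4126,4128,4130,4132,4134,4136,4138,4140,4142,4144,4146,4148,4150],[4065,4063,4061,3666]),
(0,[],[]),
(0,[],[]),
(0,[],[]),
(0,[],[]),
(0,[],[]),
(0,[],[]),
(0,[],[]),
(0,[],[]),
(2,[4086,4156],[352,719,717]),
(0,[],[]),
(0,[],[]),
(0,[],[]),
(0,[],[]),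
(0,[],[]),
(0,[],[]),
(0,[],[]),
(0,[],[]),
(0,[],[]),
(4,[351,349,3660,3662,4123,4172,4174,4176,4178,4180,4182,4184,4186,4188],[352,719,717,715,713,711]),
(0,[],[]),
(0,[],[]),
(0,[],[]),
(0,[],[]),
(3,[354,356,15,414,416,3755,4192,4194,4196,4198],[719]),
(0,[],[]),
(0,[],[]),
(0,[],[]),
(0,[],[]),
(0,[],[]),
(0,[],[]),
(0,[],[]),
(0,[],[]),
(0,[],[]),
(0,[],[]),
(4,[354,512,544,595,673,3716,4202,4204,4206,4208,4210,4212,4214,4216,4218,4220],[719,717,4171,4158]),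
(0,[],[]),
(2,[362,364,366],[511,3817]),
(0,[],[]),
(0,[],[]),
(0,[],[]),
(0,[],[]),
(0,[],[]),
(0,[],[]),
(0,[],[]),
(0,[],[]),
(0,[],[]),
(5,[511,509,4228,4230,4232,4234,4236,4238,4240,4242,4244],[361,388,413,472]),
(0,[],[]),
(0,[],[]),
(0,[],[]),
(0,[],[]),
(0,[],[]),
(0,[],[]),
(0,[],[]),
(0,[],[]),
(0,[],[]),
(0,[],[]),
(0,[],[]),
(4,[361,388,390,445,3769,4248,4250,4252,4254,4256,4258,4260,4262,4264,4266,4268],[511,3817,4227,368]),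
(0,[],[]),
(0,[],[]),
(0,[],[]),
(0,[],[]),
(0,[],[]),
(3,[471,4272,4274,4276,4278,4280],[363,361,388,413,411]),
(0,[],[]),
(0,[],[]),
(0,[],[]),
(0,[],[]),
(0,[],[]),
(0,[],[]),
(0,[],[]),
(0,[],[]),
(0,[],[]),
(0,[],[]),
(0,[],[]),
(5,[367,4224,4284,4286,4288,4290,4292,4294,4296,4298,4300,4302,4304],[368,370]),
(0,[],[]),
(2,[370,372,4308],[4271,4269]),
(0,[],[]),
(0,[],[]),
(0,[],[]),
(0,[],[]),
(0,[],[]),
(0,[],[]),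
(0,[],[]),
(0,[],[]),
(0,[],[]),
(0,[],[]),
(0,[],[]),
(4,[369,4226,3816,509,507,629,4312,4314,4316,4318,4320,4322,4324,4326,4328,4330,4332],[4271,4269,4311]),
(0,[],[]),
(0,[],[]),
(0,[],[]),
(0,[],[]),
(0,[],[]),
(3,[4307,4336,4338,4340,4342,4344],[371,369,4226,3815,3813]),
(0,[],[]),
(0,[],[]),
(0,[],[]),
(0,[],[]),
(0,[],[]),
(0,[],[]),
(0,[],[]),
(0,[],[]),
(0,[],[]),
(3,[374,4354,4356,4358,4360,4362,4364],[373,4307,4305,4303]),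
(0,[],[]),
(0,[],[]),
(2,[376,378,380,4370],[4354]),
(0,[],[]),
(0,[],[]),
(0,[],[]),
(0,[],[]),
(0,[],[]),
(0,[],[]),
(0,[],[]),
(0,[],[]),
(0,[],[]),
(0,[],[]),
(5,[4354,4356,4374,4376,4378,4380,4382,4384,4386,4388,4390,4392],[375,4308,4335]),
(0,[],[]),
(0,[],[]),
(0,[],[]),
(0,[],[]),
(0,[],[]),
(0,[],[]),
(0,[],[]),
(0,[],[]),
(4,[375,4308,4310,4267,4396,4398,4400,4402,4404,4406,4408,4410],[4354,4373,4371,382,2933,2647,2848,2850]),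
(0,[],[]),
(0,[],[]),
(0,[],[]),
(0,[],[]),
(0,[],[]),
(0,[],[]),
(0,[],[]),
(0,[],[]),
(0,[],[]),
(0,[],[]),
(0,[],[]),
(5,[381,4368,4414,4416,4424,4426,4428,4430,4432,4434],[382,384,2405,2403,2401]),
(0,[],[]),
(0,[],[]),
(0,[],[]),
(0,[],[]),
(0,[],[]),
(0,[],[]),
(0,[],[]),
(0,[],[]),
(0,[],[]),
(3,[445,443,3770,4448,4450,4452,4454],[391,413,472,4247]),
(0,[],[]),
(0,[],[]),
(0,[],[]),
(0,[],[]),
(0,[],[]),
(0,[],[]),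
(0,[],[]),
(0,[],[]),
(0,[],[]),
(4,[445,3769,4248,4460,4462,4464,4466,4468,4470,4472,4474],[391,389,359,10,275,451,543,541,539]),
(0,[],[]),
(0,[],[]),
(0,[],[]),
(0,[],[]),
(0,[],[]),
(0,[],[]),
(0,[],[]),
(0,[],[]),
(0,[],[]),
(0,[],[]),
(0,[],[])]
theorem ok8 : data.stepsOK st8 2000 = true := by decide +kernel
def st9 : List Step := [(0,[],[]),
(5,[397,2519,2531,2529,4484,4486,4488,4490,4492,4494,4496,4498,4500],[398,400]),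
(0,[],[]),
(0,[],[]),
(0,[],[]),
(0,[],[]),
(0,[],[]),
(0,[],[]),
(0,[],[]),
(0,[],[]),
(0,[],[]),
(0,[],[]),
(0,[],[]),
(0,[],[]),
(4,[398,400,402,4504,4506,4508,4510,4512,4514,4516,4518,4520,4522,4524,4526],[397,395,205,2488,2532]),
(2,[400,402,404],[3206,3149,3147]),
(1,[4531],[]),
(1,[4533,3145],[]),
(1,[407,4534],[]),
(1,[4533,3146],[]),
(1,[4537],[]),
(1,[4541,3143],[]),
(0,[],[]),
(0,[],[]),
(0,[],[]),
(0,[],[]),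
(0,[],[]),
(0,[],[]),
(0,[],[]),
(0,[],[]),
(5,[3206,4480,4544,4546,4548,4550,4552,4554,4556,4558],[399,3202,3182,3184,3186]),
(0,[],[]),
(0,[],[]),
(0,[],[]),
(0,[],[]),
(3,[4503,4562,4564,4566,4568],[401,399,3202,3182,3208,3210]),
(0,[],[]),
(0,[],[]),
(0,[],[]),
(0,[],[]),
(0,[],[]),
(0,[],[]),
(0,[],[]),
(0,[],[]),
(0,[],[]),
(2,[408,410,472,474,476],[4542]),
(1,[4591],[]),
(1,[4593,4580],[]),
(1,[479,4594],[]),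
(1,[4593,4543],[]),
(1,[4597],[]),
(1,[4601,4582],[]),
(1,[481,4602],[]),
(1,[4605],[]),
(1,[4607,4584],[]),
(0,[],[]),
(0,[],[]),
(0,[],[]),
(0,[],[]),
(0,[],[]),
(0,[],[]),
(0,[],[]),
(0,[],[]),
(0,[],[]),
(0,[],[]),
(0,[],[]),
(4,[407,4538,3148,4480,4482,4612,4614,4616,4618,4620,4622,4624,4626,4628,4630],[4599,477,475,4247,4457]),
(0,[],[]),
(0,[],[]),
(0,[],[]),
(0,[],[]),
(0,[],[]),
(0,[],[]),
(4,[412,390,392,278,328,3790,3818,3839,3980,3982,4636,4638,4640,4642,4644],[411,409,4599,478,4610]),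
(0,[],[]),
(0,[],[]),
(0,[],[]),
(0,[],[]),
(0,[],[]),
(0,[],[]),
(0,[],[]),
(0,[],[]),
(0,[],[]),
(5,[3755,4192,4648,4650,4652,4654,4656,4658,4660,4662,4664],[417,446,499,568]),
(0,[],[]),
(0,[],[]),
(0,[],[]),
(0,[],[]),
(0,[],[]),
(0,[],[]),
(3,[567,4670,4672,4674,4676,4678],[419,417,446,499,497]),
(0,[],[]),
(0,[],[]),
(0,[],[]),
(0,[],[]),
(0,[],[]),
(3,[543,541,3696,4684,4686,4688,4690],[449,499,568,4667]),
(0,[],[]),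
(0,[],[]),
(0,[],[]),
(0,[],[]),
(0,[],[]),
(0,[],[]),
(0,[],[]),
(0,[],[]),
(5,[449,499,497,4681,4694,4696,4698,4700,4702,4704,4706,4708],[543,726,3704]),
(0,[],[]),
(0,[],[]),
(0,[],[]),
(0,[],[]),
(0,[],[]),
(0,[],[]),
(0,[],[]),
(0,[],[]),
(0,[],[]),
(0,[],[]),
(0,[],[]),
(0,[],[]),
(0,[],[]),
(0,[],[]),
(4,[454,3715,4712,4714,4716,4718,4720,4722,4724,4726,4728,4730,4732,4734,4736,4738],[3695,3365,3363,3271]),
(0,[],[]),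
(0,[],[]),
(0,[],[]),
(0,[],[]),
(0,[],[]),
(0,[],[]),
(0,[],[]),
(0,[],[]),
(0,[],[]),
(0,[],[]),
(0,[],[]),
(0,[],[]),
(0,[],[]),
(0,[],[]),
(0,[],[]),
(4,[3014,3016,3018,4748,4750,4752,4754,4756,4758,4760,4762,4764,4766,4768,4770],[475,473,411,4283,4458]),
(0,[],[]),
(2,[480,482,4774],[4610,4647]),
(0,[],[]),
(0,[],[]),
(0,[],[]),
(0,[],[]),
(0,[],[]),
(0,[],[]),
(0,[],[]),
(0,[],[]),
(0,[],[]),
(0,[],[]),
(0,[],[]),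
(4,[479,4598,408,4283,4281,4634,4778,4780,4782,4784,4786,4788,4790,4792,4794,4796,4798],[4610,4647,4777]),
(0,[],[]),
(0,[],[]),
(0,[],[]),
(0,[],[]),
(0,[],[]),
(0,[],[]),
(0,[],[]),
(0,[],[]),
(0,[],[]),
(0,[],[]),
(0,[],[]),
(0,[],[]),
(5,[483,4608,4586,4588,4808,4810,4812,4814,4816,4818,4820,4822,4824],[484,486]),
(0,[],[]),
(0,[],[]),
(0,[],[]),
(0,[],[]),
(2,[486,488,490,4834],[4802]),
(0,[],[]),
(0,[],[]),
(0,[],[]),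
(0,[],[]),
(0,[],[]),
(0,[],[]),
(0,[],[]),
(0,[],[]),
(0,[],[]),
(0,[],[]),
(5,[4802,4804,4838,4840,4842,4844,4846,4848,4850,4852,4854,4856],[485,4774,4801]),
(0,[],[]),
(0,[],[]),
(0,[],[]),
(0,[],[]),
(0,[],[]),
(0,[],[]),
(0,[],[]),
(0,[],[]),
(0,[],[]),
(0,[],[]),
(0,[],[]),
(0,[],[]),
(4,[485,4774,4776,4645,4860,4862,4864,4866,4868,4870,4872,4874,4876,4878,4880,4882],[4802,4837,4835,492]),
(0,[],[]),
(0,[],[]),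
(0,[],[]),
(0,[],[]),
(0,[],[]),
(3,[4827,4886,4888,4890,4892,4894],[487,485,4774,4801,4799]),
(0,[],[]),
(0,[],[]),
(0,[],[]),
(0,[],[]),
(0,[],[]),
(0,[],[]),
(0,[],[]),
(0,[],[]),
(0,[],[]),
(0,[],[]),
(0,[],[]),
(0,[],[]),
(0,[],[]),
(0,[],[]),
(0,[],[]),
(0,[],[]),
(0,[],[]),
(3,[4828,4920,4922,4924,4926,4928,4930],[489,4827,4825,4823]),
(0,[],[]),
(0,[],[]),
(0,[],[]),
(0,[],[]),
(0,[],[]),
(0,[],[]),
(0,[],[]),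
(0,[],[]),
(0,[],[]),
(0,[],[]),
(0,[],[]),
(0,[],[]),
(0,[],[]),
(0,[],[]),
(4,[4828,4830,4832,4938,4940,4942,4944,4946,4948,4950,4952,4954,4956,4958,4960],[489,487,4802,4804,4838]),
(0,[],[]),
(0,[],[]),
(0,[],[]),
(0,[],[]),
(0,[],[]),
(2,[494,496,568,570,572],[4885]),
(1,[4975],[]),
(1,[4977,4964],[]),
(1,[575,4978],[]),
(1,[4977,4884],[]),
(1,[4977,4883],[]),
(1,[572,4984],[]),
(1,[4981],[]),
(1,[4989,4966],[]),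
(1,[577,4990],[]),
(1,[4987],[]),
(1,[4995,4881],[]),
(1,[3825,4996],[])]
theorem ok9 : data.stepsOK st9 2250 = true := by decide +kernel
def st10 : List Step := [(1,[4993],[]),
(1,[5001,4968],[]),
(1,[4999],[]),
(1,[5005,4879],[]),
(0,[],[]),
(0,[],[]),
(0,[],[]),
(0,[],[]),
(0,[],[]),
(0,[],[]),
(0,[],[]),
(0,[],[]),
(0,[],[]),
(0,[],[]),
(0,[],[]),
(0,[],[]),
(4,[493,4834,4836,4804,4806,5012,5014,5016,5018,5020,5022,5024,5026,5028,5030],[4983,573,571,4667,4693]),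
(0,[],[]),
(0,[],[]),
(0,[],[]),
(0,[],[]),
(0,[],[]),
(0,[],[]),
(4,[498,448,450,273,271,3273,3362,3688,3690,3692,5036,5038,5040,5042,5044],[497,495,4983,574,5008]),
(0,[],[]),
(0,[],[]),
(2,[502,630,5048,5050],[548]),
(0,[],[]),
(0,[],[]),
(0,[],[]),
(0,[],[]),
(0,[],[]),
(0,[],[]),
(0,[],[]),
(4,[501,17,357,355,353,4086,4156,4158,4160,4162,5054,5056,5058,5060,5062,5064,5066],[548,5053,5051]),
(0,[],[]),
(0,[],[]),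
(0,[],[]),
(0,[],[]),
(0,[],[]),
(0,[],[]),
(0,[],[]),
(0,[],[]),
(0,[],[]),
(0,[],[]),
(0,[],[]),
(4,[504,629,4312,4314,4316,4318,5070,5072,5074,5076,5078,5080,5082,5084,5086,5088,5090],[503,548,5053]),
(0,[],[]),
(0,[],[]),
(0,[],[]),
(0,[],[]),
(0,[],[]),
(5,[506,508,3817,3815,3813,4347,5094,5096,5098,5100,5102],[505,630,632,634]),
(0,[],[]),
(0,[],[]),
(0,[],[]),
(2,[516,518,520],[659,657]),
(0,[],[]),
(0,[],[]),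
(0,[],[]),
(0,[],[]),
(0,[],[]),
(0,[],[]),
(0,[],[]),
(0,[],[]),
(5,[659,4154,5114,5116,5118,5120,5122,5124,5126,5128],[515,544,595,673,671]),
(0,[],[]),
(0,[],[]),
(0,[],[]),
(0,[],[]),
(0,[],[]),
(0,[],[]),
(0,[],[]),
(4,[515,544,546,20,22,24,720,745,855,5132,5134,5136,5138,5140,5142,5144],[659,657,5113,522]),
(0,[],[]),
(2,[524,526,5148],[5147,5145]),
(0,[],[]),
(0,[],[]),
(0,[],[]),
(2,[530,532,534,5156],[5152]),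
(0,[],[]),
(0,[],[]),
(0,[],[]),
(0,[],[]),
(0,[],[]),
(0,[],[]),
(0,[],[]),
(0,[],[]),
(0,[],[]),
(0,[],[]),
(0,[],[]),
(4,[529,5148,5150,5143,5160,5162,5164,5166,5168,5170,5172,5174,5176,5178,5180],[5152,5159,5157,536,4477]),
(0,[],[]),
(0,[],[]),
(0,[],[]),
(0,[],[]),
(0,[],[]),
(0,[],[]),
(0,[],[]),
(0,[],[]),
(5,[535,5154,5184,5186,5188,5190,5192,5194,5196,5198],[536,538,3696,4684,4686]),
(2,[538,540,726,728,4668],[4477]),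
(1,[5202],[]),
(1,[5205,4669],[]),
(1,[5182,5206],[]),
(1,[5208],[]),
(1,[5211,5181],[]),
(1,[731,5212],[]),
(1,[5215],[]),
(1,[5217,5179],[]),
(0,[],[]),
(0,[],[]),
(0,[],[]),
(0,[],[]),
(0,[],[]),
(0,[],[]),
(0,[],[]),
(0,[],[]),
(0,[],[]),
(0,[],[]),
(0,[],[]),
(0,[],[]),
(0,[],[]),
(0,[],[]),
(0,[],[]),
(0,[],[]),
(0,[],[]),
(0,[],[]),
(4,[550,596,5228,5230,5232,5234,5236,5238,5240,5242,5244,5246,5248,5250,5252,5254],[5053,5051,5049,632]),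
(0,[],[]),
(0,[],[]),
(0,[],[]),
(0,[],[]),
(0,[],[]),
(0,[],[]),
(0,[],[]),
(0,[],[]),
(0,[],[]),
(0,[],[]),
(4,[4667,4665,5258,5260,5262,5264,5266,5268,5270,5272,5274,5276],[569,497,495,493,491,489,4827,4886]),
(0,[],[]),
(0,[],[]),
(0,[],[]),
(0,[],[]),
(0,[],[]),
(3,[3824,5006,5280,5282,5284,5286,5288],[571,4667,4665,4663]),
(0,[],[]),
(0,[],[]),
(0,[],[]),
(0,[],[]),
(0,[],[]),
(0,[],[]),
(0,[],[]),
(0,[],[]),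
(0,[],[]),
(0,[],[]),
(0,[],[]),
(0,[],[]),
(4,[3824,3826,3828,5292,5294,5296,5298,5300,5302,5304,5306,5308,5310,5312,5314],[571,569,497,4681,4694]),
(0,[],[]),
(0,[],[]),
(2,[576,578,5320],[5008,5047]),
(0,[],[]),
(0,[],[]),
(0,[],[]),
(0,[],[]),
(0,[],[]),
(0,[],[]),
(0,[],[]),
(0,[],[]),
(0,[],[]),
(0,[],[]),
(0,[],[]),
(4,[575,4982,494,4681,4679,5034,5324,5326,5328,5330,5332,5334,5336,5338,5340,5342,5344],[5008,5047,5323]),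
(0,[],[]),
(0,[],[]),
(0,[],[]),
(0,[],[]),
(0,[],[]),
(0,[],[]),
(0,[],[]),
(0,[],[]),
(0,[],[]),
(0,[],[]),
(0,[],[]),
(0,[],[]),
(5,[579,5002,4970,4972,5354,5356,5358,5360,5362,5364,5366,5368,5370],[580,582]),
(0,[],[]),
(2,[582,584,586,5374],[5348]),
(0,[],[]),
(0,[],[]),
(0,[],[]),
(0,[],[]),
(0,[],[]),
(0,[],[]),
(0,[],[]),
(0,[],[]),
(0,[],[]),
(0,[],[]),
(5,[5348,5350,5378,5380,5382,5384,5386,5388,5390,5392,5394,5396],[581,5320,5347]),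
(0,[],[]),
(0,[],[]),
(0,[],[]),
(0,[],[]),
(0,[],[]),
(0,[],[]),
(0,[],[]),
(0,[],[]),
(0,[],[]),
(0,[],[]),
(0,[],[]),
(0,[],[]),
(4,[581,5320,5322,5045,5400,5402,5404,5406,5408,5410,5412,5414,5416,5418,5420,5422],[5348,5377,5375,588]),
(0,[],[]),
(0,[],[]),
(0,[],[]),
(0,[],[]),
(0,[],[]),
(3,[5373,5426,5428,5430,5432,5434],[583,581,5320,5347,5345]),
(0,[],[]),
(0,[],[]),
(0,[],[]),
(0,[],[]),
(0,[],[]),
(0,[],[]),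
(0,[],[]),
(0,[],[]),
(0,[],[]),
(0,[],[]),
(0,[],[]),
(0,[],[]),
(0,[],[]),
(0,[],[]),
(0,[],[]),
(4,[5373,5371,5438,5440,5442,5444,5446,5448,5450,5452,5454,5456,5458,5460,5462,5464,5466],[583,5348,5377]),
(0,[],[]),
(0,[],[]),
(0,[],[]),
(0,[],[]),
(0,[],[]),
(0,[],[]),
(0,[],[]),
(2,[590,592,673,3716,4202],[5425]),
(1,[5485],[]),
(1,[5487,5474],[]),
(1,[4205,5488],[]),
(1,[5487,5424],[]),
(1,[5487,5423],[]),
(1,[4202,5494],[]),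
(1,[5491],[])]
theorem ok10 : data.stepsOK st10 2500 = true := by decide +kernel
def st11 : List Step := [(1,[5499,5476],[]),
(1,[4207,5500],[]),
(1,[5497],[]),
(1,[5505,5421],[]),
(1,[3719,5506],[]),
(1,[5503],[]),
(1,[5511,5478],[]),
(1,[5509],[]),
(1,[5515,5419],[]),
(0,[],[]),
(0,[],[]),
(0,[],[]),
(0,[],[]),
(0,[],[]),
(0,[],[]),
(0,[],[]),
(0,[],[]),
(0,[],[]),
(0,[],[]),
(5,[5493,4204,5518,5520,5522,5524,5526,5528,5530,5532,5534,5536],[589,5374,5469]),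
(0,[],[]),
(0,[],[]),
(0,[],[]),
(0,[],[]),
(0,[],[]),
(0,[],[]),
(0,[],[]),
(0,[],[]),
(0,[],[]),
(0,[],[]),
(4,[589,5374,5376,5350,5352,5540,5542,5544,5546,5548,5550,5552,5554,5556,5558],[5493,4203,3717,671,669]),
(0,[],[]),
(0,[],[]),
(0,[],[]),
(0,[],[]),
(0,[],[]),
(0,[],[]),
(4,[594,546,19,500,502,630,5048,5069,5106,5108,5564,5566,5568,5570,5572],[593,591,5493,4204,5518]),
(0,[],[]),
(0,[],[]),
(0,[],[]),
(0,[],[]),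
(2,[604,693,746,5582],[5576]),
(0,[],[]),
(0,[],[]),
(0,[],[]),
(0,[],[]),
(0,[],[]),
(0,[],[]),
(0,[],[]),
(0,[],[]),
(0,[],[]),
(0,[],[]),
(0,[],[]),
(4,[606,24,720,745,855,5132,5586,5588,5590,5592,5594,5596,5598,5600,5602,5604,5606],[605,5576,5585]),
(0,[],[]),
(0,[],[]),
(0,[],[]),
(0,[],[]),
(0,[],[]),
(0,[],[]),
(0,[],[]),
(0,[],[]),
(0,[],[]),
(0,[],[]),
(5,[725,777,775,5612,5614,5616,5618,5620,5622,5624,5626,5628],[610,660,662]),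
(0,[],[]),
(0,[],[]),
(0,[],[]),
(2,[660,5632,5636],[612,833]),
(0,[],[]),
(0,[],[]),
(0,[],[]),
(0,[],[]),
(0,[],[]),
(0,[],[]),
(0,[],[]),
(0,[],[]),
(0,[],[]),
(4,[611,609,22,607,693,746,5582,5609,5640,5642,5644,5646,5648,5650,5652,5654,5656],[612,833,5639]),
(0,[],[]),
(0,[],[]),
(0,[],[]),
(0,[],[]),
(0,[],[]),
(0,[],[]),
(0,[],[]),
(0,[],[]),
(0,[],[]),
(0,[],[]),
(0,[],[]),
(0,[],[]),
(0,[],[]),
(0,[],[]),
(4,[614,5610,5660,5662,5664,5666,5668,5670,5672,5674,5676,5678,5680,5682,5684,5686],[833,5639,5637,5634]),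
(0,[],[]),
(0,[],[]),
(0,[],[]),
(0,[],[]),
(0,[],[]),
(0,[],[]),
(0,[],[]),
(0,[],[]),
(0,[],[]),
(0,[],[]),
(0,[],[]),
(0,[],[]),
(0,[],[]),
(0,[],[]),
(5,[5257,5698,5700,5702,5704,5706,5708,5710,5712,5714,5716],[633,5048,5069,5106]),
(0,[],[]),
(0,[],[]),
(0,[],[]),
(0,[],[]),
(0,[],[]),
(3,[5105,5720,5722,5724,5726,5728],[635,633,5048,5069,5067]),
(0,[],[]),
(0,[],[]),
(0,[],[]),
(0,[],[]),
(0,[],[]),
(0,[],[]),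
(2,[5631,5690,5692,5742],[664]),
(0,[],[]),
(0,[],[]),
(0,[],[]),
(0,[],[]),
(0,[],[]),
(0,[],[]),
(0,[],[]),
(0,[],[]),
(0,[],[]),
(0,[],[]),
(0,[],[]),
(0,[],[]),
(4,[663,5632,5636,5659,5746,5748,5750,5752,5754,5756,5758,5760,5762,5764,5766,5768],[664,5745,5743,5694]),
(0,[],[]),
(0,[],[]),
(0,[],[]),
(0,[],[]),
(0,[],[]),
(0,[],[]),
(0,[],[]),
(3,[666,5561,5559,5772,5774,5776,5778,5780,5782,5784],[5745]),
(0,[],[]),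
(0,[],[]),
(0,[],[]),
(0,[],[]),
(0,[],[]),
(0,[],[]),
(0,[],[]),
(5,[5745,5787,5788,5790,5792,5794,5796,5798,5800],[666,668,670,3716,3718,3720]),
(0,[],[]),
(0,[],[]),
(0,[],[]),
(0,[],[]),
(0,[],[]),
(0,[],[]),
(0,[],[]),
(0,[],[]),
(0,[],[]),
(0,[],[]),
(0,[],[]),
(4,[666,668,5131,5129,5127,5804,5806,5808,5810,5812,5814,5816,5818,5820,5822,5824],[5745,5743,5693,5732]),
(0,[],[]),
(0,[],[]),
(2,[668,5131,5828,5830],[5561]),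
(0,[],[]),
(0,[],[]),
(0,[],[]),
(0,[],[]),
(0,[],[]),
(0,[],[]),
(0,[],[]),
(0,[],[]),
(0,[],[]),
(0,[],[]),
(0,[],[]),
(0,[],[]),
(4,[667,665,5631,5629,5627,5834,5836,5838,5840,5842,5844,5846,5848,5850,5852,5854,5856],[5561,5833,5831]),
(0,[],[]),
(0,[],[]),
(0,[],[]),
(0,[],[]),
(0,[],[]),
(0,[],[]),
(0,[],[]),
(0,[],[]),
(0,[],[]),
(0,[],[]),
(0,[],[]),
(4,[670,3716,4202,4204,4206,4208,5860,5862,5864,5866,5868,5870,5872,5874,5876,5878,5880],[669,5561,5833]),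
(0,[],[]),
(0,[],[]),
(0,[],[]),
(0,[],[]),
(0,[],[]),
(0,[],[]),
(0,[],[]),
(0,[],[]),
(4,[671,5131,5828,5859,5884,5886,5888,5890,5892,5894,5896,5898],[672,593,591,589,587,585,5373,5426]),
(0,[],[]),
(0,[],[]),
(0,[],[]),
(0,[],[]),
(0,[],[]),
(0,[],[]),
(0,[],[]),
(2,[5562,5910,5912,5914],[680]),
(0,[],[]),
(0,[],[]),
(0,[],[]),
(0,[],[]),
(0,[],[]),
(0,[],[]),
(3,[682,684,686,5578,5918,5920,5922,5924,5926,5928],[5917]),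
(0,[],[]),
(0,[],[]),
(0,[],[]),
(0,[],[]),
(0,[],[]),
(0,[],[]),
(0,[],[]),
(0,[],[]),
(0,[],[]),
(0,[],[]),
(5,[5917,5931,5932,5934,5936,5938,5940,5942,5944,5946,5948,5950],[682,5906,5908]),
(0,[],[]),
(2,[5578,5580,5954],[688,787]),
(0,[],[]),
(0,[],[]),
(0,[],[]),
(0,[],[]),
(0,[],[]),
(0,[],[]),
(0,[],[]),
(0,[],[]),
(0,[],[]),
(0,[],[]),
(0,[],[]),
(0,[],[]),
(4,[687,685,5906,5908,5953,5958,5960,5962,5964,5966,5968,5970,5972,5974,5976,5978,5980],[688,787,5957]),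
(0,[],[]),
(0,[],[]),
(0,[],[]),
(0,[],[]),
(0,[],[]),
(0,[],[]),
(0,[],[]),
(0,[],[])]
theorem ok11 : data.stepsOK st11 2750 = true := by decide +kernel
end

end Cube
end HN
end H23
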