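import Mathlib
import Cfsg.Agent.H23.HN.Cube.Data

/-!
A derivation that a word fixes the first coset (generated data).
-/

set_option autoImplicit false
set_option maxRecDepth 100000
set_option linter.all false
set_option Elab.async false

namespace H23
namespace HN
namespace Cube

open H93.CosetI

noncomputable section

def st12 : List Step := [(0,[],[]),
(0,[],[]),
(5,[699,808,887,5984,5986,5988,5990,5992,5994,5996,5998,6000,6002],[700,702]),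
(0,[],[]),
(0,[],[]),
(0,[],[]),
(0,[],[]),
(0,[],[]),
(0,[],[]),
(0,[],[]),
(0,[],[]),
(0,[],[]),
(0,[],[]),
(0,[],[]),
(0,[],[]),
(0,[],[]),
(5,[705,6005,6006,6008,6016,6018,6020,6022,6024,6026,6028,6030],[706,708,4191]),
(0,[],[]),
(0,[],[]),
(0,[],[]),
(0,[],[]),
(0,[],[]),
(0,[],[]),
(2,[708,710,712,6044],[6010]),
(0,[],[]),
(0,[],[]),
(0,[],[]),
(0,[],[]),
(0,[],[]),
(0,[],[]),
(0,[],[]),
(0,[],[]),
(0,[],[]),
(0,[],[]),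
(0,[],[]),
(0,[],[]),
(0,[],[]),
(0,[],[]),
(0,[],[]),
(0,[],[]),
(4,[4191,6033,6050,6052,6054,6056,6058,6060,6062,6064,6066,6068,6070,6072,6074,6076,6078],[709,6010,6047]),
(0,[],[]),
(0,[],[]),
(0,[],[]),
(0,[],[]),
(0,[],[]),
(0,[],[]),
(0,[],[]),
(0,[],[]),
(0,[],[]),
(0,[],[]),
(5,[711,4191,4189,6048,6084,6086,6088,6090,6092,6094,6096,6098,6100],[6034,6036]),
(0,[],[]),
(0,[],[]),
(0,[],[]),
(3,[714,4171,4158,4160,6104,6106,6108],[713,6034,6036,6103]),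
(0,[],[]),
(0,[],[]),
(0,[],[]),
(0,[],[]),
(0,[],[]),
(0,[],[]),
(0,[],[]),
(0,[],[]),
(0,[],[]),
(5,[4171,4158,4223,6112,6114,6116,6118,6120,6122,6124,6126,6128],[715,6044,6081]),
(0,[],[]),
(0,[],[]),
(0,[],[]),
(0,[],[]),
(0,[],[]),
(0,[],[]),
(3,[777,775,5612,6136,6138,6140,6142],[723,745,855,853]),
(0,[],[]),
(0,[],[]),
(0,[],[]),
(0,[],[]),
(0,[],[]),
(0,[],[]),
(0,[],[]),
(0,[],[]),
(0,[],[]),
(0,[],[]),
(0,[],[]),
(0,[],[]),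
(0,[],[]),
(0,[],[]),
(0,[],[]),
(4,[730,732,734,6152,6154,6156,6158,6160,6162,6164,6166,6168,6170,6172,6174],[729,727,541,3696,3698]),
(2,[732,734,736],[5218,5177,5175]),
(1,[6179],[]),
(1,[6181,5173],[]),
(1,[739,6182],[]),
(1,[6181,5174],[]),
(1,[6185],[]),
(1,[6189,5171],[]),
(2,[740,742,855,5132,5586],[6190]),
(1,[6192],[]),
(1,[6195,5587],[]),
(1,[5168,6196],[]),
(1,[6198],[]),
(1,[6201,5168],[]),
(0,[],[]),
(0,[],[]),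
(0,[],[]),
(0,[],[]),
(0,[],[]),
(0,[],[]),
(0,[],[]),
(0,[],[]),
(0,[],[]),
(0,[],[]),
(4,[739,6186,5176,6148,6150,6204,6206,6208,6210,6212,6214,6216,6218,6220,6222],[6190,6203,5133,853,6145]),
(0,[],[]),
(0,[],[]),
(0,[],[]),
(0,[],[]),
(0,[],[]),
(0,[],[]),
(5,[782,784,5957,5983,5981,6226,6228,6230,6232,6234,6236],[781,858,860,862]),
(0,[],[]),
(0,[],[]),
(0,[],[]),
(2,[920,1174,6244],[842,1051]),
(0,[],[]),
(0,[],[]),
(0,[],[]),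
(0,[],[]),
(0,[],[]),
(0,[],[]),
(3,[844,846,848,6248,6250,6252,6254,6256,6258],[1051,1049]),
(0,[],[]),
(0,[],[]),
(0,[],[]),
(0,[],[]),
(0,[],[]),
(0,[],[]),
(0,[],[]),
(0,[],[]),
(0,[],[]),
(5,[1051,1049,1047,6262,6264,6266,6268,6270,6272,6274,6276,6278],[844,6240,6242]),
(0,[],[]),
(0,[],[]),
(0,[],[]),
(0,[],[]),
(0,[],[]),
(0,[],[]),
(0,[],[]),
(0,[],[]),
(0,[],[]),
(0,[],[]),
(0,[],[]),
(0,[],[]),
(0,[],[]),
(0,[],[]),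
(4,[844,6240,6282,6284,6286,6288,6290,6292,6294,6296,6298,6300,6302,6304,6306,6308],[1051,6247,6245,1176]),
(0,[],[]),
(0,[],[]),
(0,[],[]),
(2,[6248,6312],[850,6145,6225]),
(0,[],[]),
(0,[],[]),
(0,[],[]),
(0,[],[]),
(0,[],[]),
(0,[],[]),
(0,[],[]),
(0,[],[]),
(0,[],[]),
(4,[849,847,6240,6242,6281,6320,6322,6324,6326,6328,6330,6332,6334,6336],[850,6145,6225,6223,6221,6219]),
(0,[],[]),
(0,[],[]),
(0,[],[]),
(0,[],[]),
(0,[],[]),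
(0,[],[]),
(0,[],[]),
(0,[],[]),
(4,[860,862,864,6340,6342,6344,6346,6348,6350,6352,6354],[859,779,32,34,838,989,1021,1019,1017]),
(2,[862,864,866],[983,981]),
(0,[],[]),
(0,[],[]),
(0,[],[]),
(0,[],[]),
(0,[],[]),
(0,[],[]),
(0,[],[]),
(0,[],[]),
(0,[],[]),
(0,[],[]),
(0,[],[]),
(4,[861,888,890,935,933,6360,6362,6364,6366,6368,6370,6372,6374,6376,6378,6380],[983,981,6359,868]),
(0,[],[]),
(0,[],[]),
(0,[],[]),
(0,[],[]),
(0,[],[]),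
(3,[6239,6384,6386,6388,6390,6392],[863,861,888,919,917]),
(0,[],[]),
(0,[],[]),
(0,[],[]),
(0,[],[]),
(0,[],[]),
(0,[],[]),
(0,[],[]),
(0,[],[]),
(0,[],[]),
(0,[],[]),
(0,[],[]),
(0,[],[]),
(4,[6239,6237,6396,6398,6400,6402,6404,6406,6408,6410,6412,6414,6416,6418],[863,983,981,979,977,975]),
(0,[],[]),
(0,[],[]),
(0,[],[]),
(0,[],[]),
(0,[],[]),
(0,[],[]),
(0,[],[]),
(0,[],[]),
(0,[],[]),
(0,[],[]),
(0,[],[]),
(0,[],[]),
(0,[],[]),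
(5,[6383,6426,6428,6430,6432,6434,6436,6438,6440,6442,6444,6446],[869,6358,979]),
(0,[],[]),
(0,[],[]),
(0,[],[]),
(0,[],[]),
(0,[],[]),
(0,[],[]),
(0,[],[]),
(0,[],[]),
(0,[],[]),
(0,[],[]),
(5,[911,6452,6454,6456,6458,6460,6462,6464,6466,6468],[912,914,6395,6393,6391]),
(0,[],[]),
(0,[],[]),
(0,[],[]),
(0,[],[]),
(0,[],[]),
(0,[],[]),
(0,[],[]),
(0,[],[]),
(0,[],[]),
(0,[],[]),
(5,[924,926,6474,6476,6478,6480,6482,6484,6486,6488,6490],[923,1174,1176,1178]),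
(0,[],[]),
(0,[],[]),
(0,[],[])]
theorem ok12 : data.stepsOK st12 3000 = true := by decide +kernel
def st13 : List Step := [(0,[],[]),
(0,[],[]),
(0,[],[]),
(0,[],[]),
(0,[],[]),
(0,[],[]),
(0,[],[]),
(0,[],[]),
(0,[],[]),
(0,[],[]),
(4,[1026,1028,1030,6496,6498,6500,6502,6504,6506,6508,6510,6512,6514,6516,6518],[961,959,42,1022,1054]),
(0,[],[]),
(0,[],[]),
(0,[],[]),
(0,[],[]),
(0,[],[]),
(0,[],[]),
(0,[],[]),
(0,[],[]),
(0,[],[]),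
(0,[],[]),
(5,[963,1026,1135,6494,6526,6528,6530,6532,6534,6536,6538,6540],[964,966,1147]),
(0,[],[]),
(0,[],[]),
(0,[],[]),
(0,[],[]),
(0,[],[]),
(0,[],[]),
(0,[],[]),
(0,[],[]),
(0,[],[]),
(0,[],[]),
(0,[],[]),
(0,[],[]),
(4,[1147,6543,6544,6546,6548,6550,6552,6554,6556,6558,6560,6562,6564,6566],[967,1087,1085,1083,1081,1079]),
(0,[],[]),
(0,[],[]),
(0,[],[]),
(0,[],[]),
(0,[],[]),
(0,[],[]),
(0,[],[]),
(0,[],[]),
(0,[],[]),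
(0,[],[]),
(0,[],[]),
(5,[969,1147,1145,1143,6576,6578,6580,6582,6584,6586,6588,6590],[970,972,6421]),
(2,[972,974,976,6449],[6570]),
(0,[],[]),
(0,[],[]),
(0,[],[]),
(0,[],[]),
(0,[],[]),
(0,[],[]),
(0,[],[]),
(0,[],[]),
(0,[],[]),
(0,[],[]),
(0,[],[]),
(0,[],[]),
(0,[],[]),
(0,[],[]),
(0,[],[]),
(4,[979,6449,6594,6572,6574,6606,6608,6610,6612,6614,6616,6618,6620,6622,6624],[6359,867,865,6239,6384]),
(0,[],[]),
(0,[],[]),
(0,[],[]),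
(0,[],[]),
(2,[1016,1018,1062,1064,1066],[6357]),
(1,[6637],[]),
(1,[6639,6355],[]),
(1,[1069,6640],[]),
(1,[6643],[]),
(1,[6645,6628],[]),
(1,[1071,6646],[]),
(1,[6649],[]),
(1,[6651,6630],[]),
(2,[1028,1030,1032],[1135,1133]),
(0,[],[]),
(0,[],[]),
(0,[],[]),
(0,[],[]),
(0,[],[]),
(0,[],[]),
(4,[1027,962,1052,46,48,1164,1168,1191,1234,1236,6656,6658,6660,6662,6664,6666],[1135,1133,6655,1034]),
(0,[],[]),
(2,[1036,1038,6670],[6669,6667]),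
(0,[],[]),
(2,[1042,1044,1046,6261],[6674]),
(0,[],[]),
(0,[],[]),
(0,[],[]),
(0,[],[]),
(0,[],[]),
(0,[],[]),
(0,[],[]),
(4,[1041,6670,6672,6665,6678,6680,6682,6684,6686,6688,6690],[6674,6677,6260,1048,6247,6245,1176,6311,6309]),
(0,[],[]),
(0,[],[]),
(0,[],[]),
(0,[],[]),
(0,[],[]),
(0,[],[]),
(0,[],[]),
(0,[],[]),
(0,[],[]),
(0,[],[]),
(5,[6521,6519,6517,6696,6698,6700,6702,6704,6706,6708,6710,6712],[1056,1088,1090]),
(0,[],[]),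
(0,[],[]),
(0,[],[]),
(0,[],[]),
(2,[1088,6716,6720,6722],[1058]),
(0,[],[]),
(0,[],[]),
(0,[],[]),
(0,[],[]),
(0,[],[]),
(0,[],[]),
(0,[],[]),
(0,[],[]),
(0,[],[]),
(0,[],[]),
(0,[],[]),
(0,[],[]),
(0,[],[]),
(0,[],[]),
(4,[1060,6694,6726,6728,6730,6732,6734,6736,6738,6740,6742,6744,6746,6748,6750,6752],[6725,6723,6721,6718]),
(0,[],[]),
(0,[],[]),
(0,[],[]),
(0,[],[]),
(0,[],[]),
(0,[],[]),
(0,[],[]),
(0,[],[]),
(0,[],[]),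
(0,[],[]),
(0,[],[]),
(5,[1073,6652,6632,6634,6762,6764,6766,6768,6770,6772,6774,6776],[1074,1076,6569]),
(0,[],[]),
(2,[1076,1078,1080,6596,6598,6600],[]),
(1,[6782],[]),
(1,[6785,6601],[]),
(1,[6761,6786],[]),
(1,[6788],[]),
(1,[6791,6761],[]),
(0,[],[]),
(0,[],[]),
(0,[],[]),
(0,[],[]),
(0,[],[]),
(0,[],[]),
(0,[],[]),
(0,[],[]),
(0,[],[]),
(0,[],[]),
(0,[],[]),
(0,[],[]),
(0,[],[]),
(0,[],[]),
(0,[],[]),
(4,[6569,6779,6794,6796,6798,6800,6802,6804,6806,6808,6810,6812,6814,6816,6818,6820,6822],[1077,6793,6599]),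
(0,[],[]),
(0,[],[]),
(0,[],[]),
(0,[],[]),
(0,[],[]),
(0,[],[]),
(0,[],[]),
(0,[],[]),
(5,[1081,6780,6826,6828,6830,6832,6834,6836,6838,6840],[1082,1084,1148,6522,6524]),
(0,[],[]),
(0,[],[]),
(0,[],[]),
(3,[1148,1150,1152,6844,6846,6848],[1085,1083,6596,6825,6823]),
(0,[],[]),
(0,[],[]),
(0,[],[]),
(2,[6715,6756,6758],[1092,1230]),
(0,[],[]),
(0,[],[]),
(0,[],[]),
(0,[],[]),
(0,[],[]),
(3,[1094,1229,1305,1462,6860,6862,6864,6866,6868],[1230,1232]),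
(0,[],[]),
(0,[],[]),
(0,[],[]),
(0,[],[]),
(0,[],[]),
(0,[],[]),
(0,[],[]),
(4,[1094,1096,52,54,1163,1274,1306,1341,1409,6872,6874,6876,6878,6880,6882,6884],[1230,6859,6759,6852]),
(0,[],[]),
(0,[],[]),
(0,[],[]),
(0,[],[]),
(0,[],[]),
(0,[],[]),
(0,[],[]),
(0,[],[]),
(0,[],[]),
(0,[],[]),
(0,[],[]),
(4,[1095,1093,6715,6713,6711,6888,6890,6892,6894,6896,6898,6900,6902,6904,6906,6908],[1229,1227,1225,1194]),
(0,[],[]),
(0,[],[]),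
(0,[],[]),
(0,[],[]),
(0,[],[]),
(0,[],[]),
(3,[1100,1102,1104,6912,6914,6916,6918,6920,6922],[1173,1223]),
(0,[],[]),
(0,[],[]),
(0,[],[]),
(0,[],[]),
(0,[],[]),
(0,[],[]),
(0,[],[]),
(0,[],[]),
(2,[1136,6936,6938,6940],[1102]),
(0,[],[]),
(0,[],[]),
(0,[],[]),
(0,[],[]),
(0,[],[]),
(0,[],[]),
(0,[],[]),
(4,[1101,1099,48,50,52,1192,1224,1261,1314,1316,6944,6946,6948,6950,6952,6954,6956],[1102,6943,6941]),
(0,[],[]),
(0,[],[]),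
(0,[],[]),
(0,[],[]),
(0,[],[]),
(0,[],[]),
(0,[],[]),
(0,[],[]),
(0,[],[]),
(0,[],[]),
(0,[],[]),
(0,[],[]),
(2,[6844,6966,6980,6982],[1154]),
(0,[],[]),
(0,[],[]),
(0,[],[]),
(0,[],[]),
(0,[],[]),
(0,[],[]),
(0,[],[])]
theorem ok13 : data.stepsOK st13 3250 = true := by decide +kernel
def st14 : List Step := [(0,[],[]),
(0,[],[]),
(0,[],[]),
(0,[],[]),
(0,[],[]),
(4,[1153,1151,6522,6524,6843,6986,6988,6990,6992,6994,6996,6998,7000,7002,7004,7006,7008],[1154,6985,6983]),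
(0,[],[]),
(0,[],[]),
(0,[],[]),
(0,[],[]),
(0,[],[]),
(0,[],[]),
(0,[],[]),
(0,[],[]),
(0,[],[]),
(0,[],[]),
(0,[],[]),
(0,[],[]),
(0,[],[]),
(0,[],[]),
(0,[],[]),
(4,[1156,6964,7014,7016,7018,7020,7022,7024,7026,7028,7030,7032,7034,7036,7038,7040],[6985,6983,6981,6968]),
(2,[6964,7014],[1158,1455,1453]),
(0,[],[]),
(0,[],[]),
(0,[],[]),
(0,[],[]),
(3,[1160,1162,55,1192,1194,6911,7046,7048,7050,7052],[1455]),
(0,[],[]),
(0,[],[]),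
(0,[],[]),
(0,[],[]),
(0,[],[]),
(0,[],[]),
(0,[],[]),
(0,[],[]),
(0,[],[]),
(0,[],[]),
(4,[1160,1274,1306,1341,1409,6872,7056,7058,7060,7062,7064,7066,7068,7070,7072,7074],[1455,1453,7045,7016]),
(0,[],[]),
(0,[],[]),
(0,[],[]),
(0,[],[]),
(0,[],[]),
(0,[],[]),
(0,[],[]),
(0,[],[]),
(0,[],[]),
(5,[1273,1271,7078,7080,7082,7084,7086,7088,7090,7092,7094],[1167,1168,1191,1234]),
(0,[],[]),
(0,[],[]),
(0,[],[]),
(0,[],[]),
(0,[],[]),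
(3,[1223,1221,6926,7100,7102,7104,7106],[1171,1191,1234,7097]),
(0,[],[]),
(0,[],[]),
(0,[],[]),
(0,[],[]),
(0,[],[]),
(0,[],[]),
(0,[],[]),
(0,[],[]),
(4,[1223,6925,7098,7110,7112,7114,7116,7118,7120,7122,7124],[1171,1169,1165,50,1097,1229,1305,1303,1301]),
(0,[],[]),
(0,[],[]),
(0,[],[]),
(0,[],[]),
(0,[],[]),
(2,[1178,1180,1182],[6311,6309,6693]),
(1,[7139],[]),
(1,[7141,6691],[]),
(1,[1185,7142],[]),
(1,[7141,6692],[]),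
(1,[7145],[]),
(1,[7149,6689],[]),
(0,[],[]),
(0,[],[]),
(0,[],[]),
(0,[],[]),
(0,[],[]),
(0,[],[]),
(0,[],[]),
(0,[],[]),
(0,[],[]),
(0,[],[]),
(0,[],[]),
(0,[],[]),
(0,[],[]),
(0,[],[]),
(0,[],[]),
(0,[],[]),
(4,[7132,7134,7136,7160,7162,7164,7166,7168,7170,7172,7174,7176,7178,7180,7182],[1181,1179,6311,7128,7152]),
(2,[1186,1188,1234,1236,1238],[7150]),
(1,[7187],[]),
(1,[7189,7151],[]),
(0,[],[]),
(0,[],[]),
(0,[],[]),
(0,[],[]),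
(0,[],[]),
(0,[],[]),
(0,[],[]),
(0,[],[]),
(0,[],[]),
(0,[],[]),
(0,[],[]),
(4,[1185,7146,6308,7128,7130,7194,7196,7198,7200,7202,7204,7206,7208,7210,7212],[7191,1239,1237,7097,7109]),
(0,[],[]),
(0,[],[]),
(0,[],[]),
(0,[],[]),
(0,[],[]),
(4,[1190,1170,1172,1100,1136,6936,6938,6959,6960,6962,7216,7218,7220,7222,7224],[1189,1187,7191,1240,7192]),
(0,[],[]),
(0,[],[]),
(0,[],[]),
(0,[],[]),
(0,[],[]),
(0,[],[]),
(0,[],[]),
(0,[],[]),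
(0,[],[]),
(0,[],[]),
(5,[1215,7230,7232,7234,7236,7238,7240,7242,7244,7246],[1216,1218,6926,7100,7102]),
(0,[],[]),
(0,[],[]),
(0,[],[]),
(0,[],[]),
(0,[],[]),
(0,[],[]),
(0,[],[]),
(0,[],[]),
(0,[],[]),
(0,[],[]),
(0,[],[]),
(0,[],[]),
(0,[],[]),
(0,[],[]),
(0,[],[]),
(4,[1232,6871,7252,7254,7256,7258,7260,7262,7264,7266,7268,7270,7272,7274,7276,7278],[6859,6759,6757,6713]),
(0,[],[]),
(0,[],[]),
(0,[],[]),
(0,[],[]),
(0,[],[]),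
(0,[],[]),
(0,[],[]),
(0,[],[]),
(0,[],[]),
(0,[],[]),
(4,[7097,7095,7282,7284,7286,7288,7290,7292,7294,7296,7298,7300],[1235,1189,1187,1185,1183,1181,6493,7154]),
(0,[],[]),
(2,[1242,1244,7304],[7192,7227]),
(0,[],[]),
(0,[],[]),
(2,[1248,1250,1252,7310],[7308]),
(0,[],[]),
(0,[],[]),
(0,[],[]),
(0,[],[]),
(0,[],[]),
(0,[],[]),
(0,[],[]),
(0,[],[]),
(0,[],[]),
(0,[],[]),
(0,[],[]),
(0,[],[]),
(4,[1247,7304,7306,7225,7314,7316,7318,7320,7322,7324,7326,7328,7330,7332,7334,7336],[7308,7313,7311,1254]),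
(2,[1256,1258,1314,1316,1318],[7339]),
(1,[7341],[]),
(1,[7343,7338],[]),
(0,[],[]),
(0,[],[]),
(0,[],[]),
(0,[],[]),
(0,[],[]),
(0,[],[]),
(4,[1260,1226,1228,1095,1093,6715,6756,6852,6854,6856,7348,7350,7352,7354,7356],[1259,1257,7345,1320,7346]),
(0,[],[]),
(0,[],[]),
(2,[1264,1366,7360,7362],[1310]),
(0,[],[]),
(0,[],[]),
(0,[],[]),
(0,[],[]),
(0,[],[]),
(0,[],[]),
(0,[],[]),
(4,[1263,57,1163,1161,1159,6964,7014,7016,7018,7020,7366,7368,7370,7372,7374,7376,7378],[1310,7365,7363]),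
(0,[],[]),
(0,[],[]),
(2,[1278,1280,1282],[1395,1393]),
(0,[],[]),
(0,[],[]),
(0,[],[]),
(0,[],[]),
(0,[],[]),
(0,[],[]),
(0,[],[]),
(0,[],[]),
(5,[1395,7012,7388,7390,7392,7394,7396,7398,7400,7402],[1277,1306,1341,1409,1407]),
(0,[],[]),
(0,[],[]),
(0,[],[]),
(0,[],[]),
(0,[],[]),
(0,[],[]),
(0,[],[]),
(4,[1277,1306,1308,60,62,64,1456,1481,1591,7406,7408,7410,7412,7414,7416,7418],[1395,1393,7387,1284]),
(0,[],[]),
(2,[1286,1288,7422],[7421,7419]),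
(0,[],[]),
(0,[],[]),
(2,[1292,1294,1296,7428],[7426]),
(0,[],[]),
(0,[],[]),
(0,[],[]),
(0,[],[]),
(0,[],[]),
(0,[],[]),
(0,[],[]),
(0,[],[]),
(0,[],[]),
(0,[],[]),
(0,[],[]),
(4,[1291,7422,7424,7417,7432,7434,7436,7438,7440,7442,7444,7446,7448,7450,7452],[7426,7431,7429,1298,7127]),
(2,[1300,1302,1462,1464,7228],[7127]),
(1,[7456],[]),
(1,[7459,7229],[]),
(1,[7454,7460],[]),
(1,[7462],[]),
(1,[7465,7453],[]),
(1,[1467,7466],[]),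
(1,[7469],[]),
(1,[7471,7451],[]),
(0,[],[]),
(2,[1322,1324,7474],[7346,7359]),
(0,[],[]),
(0,[],[]),
(0,[],[]),
(0,[],[]),
(2,[1328,1330,1332,7484],[7478]),
(0,[],[]),
(0,[],[]),
(0,[],[]),
(0,[],[]),
(0,[],[]),
(0,[],[])]
theorem ok14 : data.stepsOK st14 3500 = true := by decide +kernel
def st15 : List Step := [(0,[],[]),
(0,[],[]),
(0,[],[]),
(0,[],[]),
(0,[],[]),
(0,[],[]),
(4,[1327,7474,7476,7357,7488,7490,7492,7494,7496,7498,7500,7502,7504,7506,7508,7510],[7478,7487,7485,1334]),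
(0,[],[]),
(0,[],[]),
(0,[],[]),
(0,[],[]),
(2,[1336,1338,1409,6872,7056],[7513]),
(1,[7523],[]),
(1,[7525,7514],[]),
(1,[7059,7526],[]),
(1,[7525,7512],[]),
(1,[7525,7511],[]),
(1,[7056,7532],[]),
(1,[7529],[]),
(1,[7537,7516],[]),
(1,[7061,7538],[]),
(1,[7535],[]),
(1,[7543,7509],[]),
(1,[6875,7544],[]),
(1,[7541],[]),
(1,[7549,7518],[]),
(1,[7547],[]),
(1,[7553,7507],[]),
(0,[],[]),
(0,[],[]),
(0,[],[]),
(0,[],[]),
(0,[],[]),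
(0,[],[]),
(0,[],[]),
(0,[],[]),
(0,[],[]),
(0,[],[]),
(0,[],[]),
(0,[],[]),
(0,[],[]),
(0,[],[]),
(0,[],[]),
(0,[],[]),
(4,[1335,7484,7486,7480,7482,7568,7570,7572,7574,7576,7578,7580,7582,7584,7586],[7531,7057,6873,1407,1405]),
(0,[],[]),
(0,[],[]),
(0,[],[]),
(0,[],[]),
(0,[],[]),
(0,[],[]),
(4,[1340,1308,59,1262,1264,1366,7360,7381,7382,7384,7592,7594,7596,7598,7600],[1339,1337,7531,7058,7556]),
(0,[],[]),
(0,[],[]),
(0,[],[]),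
(0,[],[]),
(2,[1350,1429,1482,7610],[7604]),
(0,[],[]),
(0,[],[]),
(0,[],[]),
(0,[],[]),
(0,[],[]),
(0,[],[]),
(0,[],[]),
(0,[],[]),
(0,[],[]),
(0,[],[]),
(0,[],[]),
(4,[1352,64,1456,1481,1591,7406,7614,7616,7618,7620,7622,7624,7626,7628,7630,7632,7634],[1351,7604,7613]),
(0,[],[]),
(0,[],[]),
(0,[],[]),
(0,[],[]),
(0,[],[]),
(0,[],[]),
(0,[],[]),
(0,[],[]),
(0,[],[]),
(5,[1461,1513,1511,7638,7640,7642,7644,7646,7648,7650,7652,7654],[1356,1396,1398]),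
(0,[],[]),
(0,[],[]),
(2,[1396,7658,7660],[1358,1569]),
(0,[],[]),
(0,[],[]),
(0,[],[]),
(0,[],[]),
(0,[],[]),
(0,[],[]),
(0,[],[]),
(0,[],[]),
(0,[],[]),
(4,[1357,1355,62,1353,1429,1482,7610,7637,7664,7666,7668,7670,7672,7674,7676,7678,7680],[1358,1569,7663]),
(0,[],[]),
(0,[],[]),
(0,[],[]),
(0,[],[]),
(0,[],[]),
(0,[],[]),
(3,[1360,1362,1364,7684,7686,7688,7690,7692,7694],[1569,1567]),
(0,[],[]),
(0,[],[]),
(0,[],[]),
(0,[],[]),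
(0,[],[]),
(0,[],[]),
(0,[],[]),
(0,[],[]),
(0,[],[]),
(0,[],[]),
(0,[],[]),
(0,[],[]),
(0,[],[]),
(0,[],[]),
(0,[],[]),
(0,[],[]),
(4,[1398,7657,7700,7708,7710,7712,7714,7716,7718,7720,7722,7724,7726,7728],[1397,1358,1569,1567,1565,1563]),
(0,[],[]),
(2,[7657,7700,7702,7732],[1400]),
(0,[],[]),
(0,[],[]),
(0,[],[]),
(0,[],[]),
(0,[],[]),
(0,[],[]),
(0,[],[]),
(3,[1402,7589,7587,7736,7738,7740,7742,7744,7746,7748],[7735]),
(0,[],[]),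
(0,[],[]),
(0,[],[]),
(0,[],[]),
(0,[],[]),
(0,[],[]),
(0,[],[]),
(5,[7735,7751,7752,7754,7756,7758,7760,7762,7764],[1402,1404,1406,6872,6874,6876]),
(0,[],[]),
(0,[],[]),
(0,[],[]),
(0,[],[]),
(0,[],[]),
(0,[],[]),
(0,[],[]),
(0,[],[]),
(0,[],[]),
(0,[],[]),
(0,[],[]),
(4,[1402,1404,7405,7403,7401,7768,7770,7772,7774,7776,7778,7780,7782,7784,7786,7788],[7735,7733,7703,7708]),
(0,[],[]),
(0,[],[]),
(2,[1404,7405,7792,7794],[7589]),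
(0,[],[]),
(0,[],[]),
(0,[],[]),
(0,[],[]),
(0,[],[]),
(0,[],[]),
(0,[],[]),
(0,[],[]),
(0,[],[]),
(0,[],[]),
(0,[],[]),
(0,[],[]),
(4,[1403,1401,7657,7655,7653,7798,7800,7802,7804,7806,7808,7810,7812,7814,7816,7818,7820],[7589,7797,7795]),
(0,[],[]),
(0,[],[]),
(0,[],[]),
(0,[],[]),
(0,[],[]),
(0,[],[]),
(0,[],[]),
(0,[],[]),
(0,[],[]),
(0,[],[]),
(0,[],[]),
(4,[1406,6872,7056,7058,7060,7062,7824,7826,7828,7830,7832,7834,7836,7838,7840,7842,7844],[1405,7589,7797]),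
(0,[],[]),
(0,[],[]),
(0,[],[]),
(0,[],[]),
(0,[],[]),
(0,[],[]),
(2,[7590,7854,7856,7858],[1416]),
(0,[],[]),
(0,[],[]),
(0,[],[]),
(0,[],[]),
(0,[],[]),
(0,[],[]),
(3,[1418,1420,1422,7606,7862,7864,7866,7868,7870,7872],[7861]),
(0,[],[]),
(0,[],[]),
(0,[],[]),
(0,[],[]),
(0,[],[]),
(0,[],[]),
(0,[],[]),
(0,[],[]),
(0,[],[]),
(0,[],[]),
(5,[7861,7875,7876,7878,7880,7882,7884,7886,7888,7890,7892,7894],[1418,7850,7852]),
(0,[],[]),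
(2,[7606,7608,7898],[1424,1523]),
(0,[],[]),
(0,[],[]),
(0,[],[]),
(0,[],[]),
(0,[],[]),
(0,[],[]),
(0,[],[]),
(0,[],[]),
(0,[],[]),
(0,[],[]),
(0,[],[]),
(0,[],[]),
(4,[1423,1421,7850,7852,7897,7902,7904,7906,7908,7910,7912,7914,7916,7918,7920,7922,7924],[1424,1523,7901]),
(0,[],[]),
(0,[],[]),
(0,[],[]),
(0,[],[]),
(0,[],[]),
(0,[],[]),
(0,[],[]),
(0,[],[]),
(0,[],[]),
(0,[],[]),
(0,[],[]),
(5,[1433,1543,7928,7930,7932,7934,7936,7938,7940,7942,7944,7946,7948],[1544,1546]),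
(0,[],[]),
(0,[],[]),
(0,[],[]),
(0,[],[]),
(0,[],[]),
(0,[],[]),
(0,[],[]),
(3,[1436,1617,7956,7958,7960,7962,7964],[1435,1544,1546,7951]),
(0,[],[]),
(2,[1438,1440,7968],[1617,1615]),
(0,[],[]),
(0,[],[]),
(0,[],[]),
(0,[],[]),
(0,[],[]),
(0,[],[]),
(0,[],[]),
(0,[],[]),
(0,[],[]),
(4,[1437,1570,1572,70,1514,1632,1662,1693,7972,7974,7976,7978,7980,7982,7984,7986,7988],[1617,1615,7971]),
(0,[],[]),
(0,[],[]),
(0,[],[]),
(2,[1444,1446,1448,7996],[7992])]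
theorem ok15 : data.stepsOK st15 3750 = true := by decide +kernel
def st16 : List Step := [(0,[],[]),
(0,[],[]),
(0,[],[]),
(0,[],[]),
(0,[],[]),
(0,[],[]),
(0,[],[]),
(0,[],[]),
(0,[],[]),
(0,[],[]),
(5,[7992,7994,8000,8002,8004,8006,8008,8010,8012,8014,8016,8018],[1443,7968,7991]),
(0,[],[]),
(0,[],[]),
(0,[],[]),
(0,[],[]),
(0,[],[]),
(3,[1513,1511,7638,8024,8026,8028,8030],[1459,1481,1591,1589]),
(0,[],[]),
(0,[],[]),
(2,[1468,1470,1472],[7472,7449,7447]),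
(1,[8039],[]),
(1,[8041,7445],[]),
(1,[1475,8042],[]),
(1,[8041,7446],[]),
(1,[8045],[]),
(1,[8049,7443],[]),
(2,[1476,1478,1591,7406,7614],[8050]),
(1,[8052],[]),
(1,[8055,7615],[]),
(1,[7440,8056],[]),
(1,[8058],[]),
(1,[8061,7440],[]),
(0,[],[]),
(0,[],[]),
(0,[],[]),
(0,[],[]),
(0,[],[]),
(0,[],[]),
(0,[],[]),
(0,[],[]),
(0,[],[]),
(0,[],[]),
(4,[1475,8046,7448,8034,8036,8064,8066,8068,8070,8072,8074,8076,8078,8080,8082],[8050,8063,7407,1589,8033]),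
(0,[],[]),
(0,[],[]),
(0,[],[]),
(0,[],[]),
(0,[],[]),
(0,[],[]),
(5,[1518,1520,7901,7927,7925,8086,8088,8090,8092,8094,8096],[1517,1632,1634,1636]),
(0,[],[]),
(0,[],[]),
(0,[],[]),
(2,[1668,1670,8104],[1540,7928]),
(0,[],[]),
(0,[],[]),
(0,[],[]),
(0,[],[]),
(0,[],[]),
(0,[],[]),
(0,[],[]),
(4,[1542,1432,1434,1436,1438,1440,7968,7991,8021,8108,8110,8112,8114,8116,8118,8120],[7928,8107,8105,1672]),
(2,[1546,1548,1550],[1661,1659]),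
(0,[],[]),
(0,[],[]),
(0,[],[]),
(0,[],[]),
(0,[],[]),
(0,[],[]),
(0,[],[]),
(0,[],[]),
(0,[],[]),
(0,[],[]),
(0,[],[]),
(4,[1545,1434,1570,1631,1629,8126,8128,8130,8132,8134,8136,8138,8140,8142,8144,8146],[1661,1659,8125,1552]),
(0,[],[]),
(0,[],[]),
(0,[],[]),
(0,[],[]),
(0,[],[]),
(0,[],[]),
(0,[],[]),
(0,[],[]),
(0,[],[]),
(0,[],[]),
(0,[],[]),
(5,[1549,7951,7967,7965,8154,8156,8158,8160,8162,8164,8166,8168,8170],[7952,7954]),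
(0,[],[]),
(0,[],[]),
(0,[],[]),
(0,[],[]),
(0,[],[]),
(3,[1552,8149,8174,8176,8178,8180,8182],[1551,7952,7954,8173]),
(0,[],[]),
(0,[],[]),
(0,[],[]),
(0,[],[]),
(0,[],[]),
(0,[],[]),
(0,[],[]),
(0,[],[]),
(0,[],[]),
(5,[1551,7952,8150,8152,8186,8188,8190,8192,8194,8196,8198,8200,8202],[1552,1554]),
(0,[],[]),
(2,[1554,1556,8206],[8149,8147]),
(0,[],[]),
(0,[],[]),
(0,[],[]),
(0,[],[]),
(0,[],[]),
(0,[],[]),
(0,[],[]),
(0,[],[]),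
(0,[],[]),
(0,[],[]),
(0,[],[]),
(0,[],[]),
(0,[],[]),
(0,[],[]),
(0,[],[]),
(5,[1557,8205,8212,8214,8224,8226,8228,8230,8232,8234,8236,8238],[1558,1560,7731]),
(0,[],[]),
(0,[],[]),
(0,[],[]),
(0,[],[]),
(0,[],[]),
(0,[],[]),
(0,[],[]),
(0,[],[]),
(0,[],[]),
(0,[],[]),
(0,[],[]),
(4,[1558,1560,1562,7698,8242,8244,8246,8248,8250,8252,8254,8256,8258,8260,8262],[1557,1555,8149,8174,8210]),
(2,[1560,1562,1564,7697],[8218]),
(0,[],[]),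
(0,[],[]),
(0,[],[]),
(0,[],[]),
(0,[],[]),
(0,[],[]),
(0,[],[]),
(0,[],[]),
(0,[],[]),
(0,[],[]),
(0,[],[]),
(0,[],[]),
(0,[],[]),
(4,[7731,8241,8268,8270,8272,8274,8276,8278,8280,8282,8284,8286,8288,8290,8292],[1561,8218,8267,7695,7693]),
(0,[],[]),
(0,[],[]),
(0,[],[]),
(0,[],[]),
(0,[],[]),
(0,[],[]),
(0,[],[]),
(0,[],[]),
(0,[],[]),
(5,[7663,7683,7681,8296,8298,8300,8302,8304,8306,8308,8310,8312],[1567,7697,7695]),
(0,[],[]),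
(0,[],[]),
(0,[],[]),
(0,[],[]),
(0,[],[]),
(0,[],[]),
(0,[],[]),
(4,[1567,7697,8266,8220,8222,8316,8318,8320,8322,8324,8326,8328],[7663,7661,7659,1398,1400,7735,7751,7752]),
(0,[],[]),
(0,[],[]),
(0,[],[]),
(2,[1694,1932,8336],[1578,1825]),
(0,[],[]),
(0,[],[]),
(0,[],[]),
(0,[],[]),
(0,[],[]),
(0,[],[]),
(3,[1580,1582,1584,8340,8342,8344,8346,8348,8350],[1825,1823]),
(0,[],[]),
(0,[],[]),
(0,[],[]),
(0,[],[]),
(0,[],[]),
(0,[],[]),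
(0,[],[]),
(0,[],[]),
(0,[],[]),
(5,[1825,1823,1821,8354,8356,8358,8360,8362,8364,8366,8368,8370],[1580,8332,8334]),
(0,[],[]),
(0,[],[]),
(0,[],[]),
(0,[],[]),
(0,[],[]),
(0,[],[]),
(0,[],[]),
(0,[],[]),
(0,[],[]),
(0,[],[]),
(0,[],[]),
(0,[],[]),
(0,[],[]),
(0,[],[]),
(4,[1580,8332,8374,8376,8378,8380,8382,8384,8386,8388,8390,8392,8394,8396,8398,8400],[1825,8339,8337,1934]),
(0,[],[]),
(0,[],[]),
(0,[],[]),
(2,[8340,8404],[1586,8033,8085]),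
(0,[],[]),
(0,[],[]),
(0,[],[]),
(0,[],[]),
(0,[],[]),
(0,[],[]),
(0,[],[]),
(0,[],[]),
(0,[],[]),
(4,[1585,1583,8332,8334,8373,8412,8414,8416,8418,8420,8422,8424,8426,8428],[1586,8033,8085,8083,8081,8079]),
(0,[],[]),
(0,[],[]),
(0,[],[]),
(0,[],[]),
(0,[],[]),
(0,[],[]),
(0,[],[]),
(0,[],[]),
(0,[],[]),
(0,[],[]),
(0,[],[]),
(5,[1757,8434,8436,8438,8440,8442,8444,8446,8448,8450,8452],[1635,1662,1693,7972]),
(0,[],[]),
(0,[],[]),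
(0,[],[]),
(0,[],[]),
(0,[],[]),
(3,[8099,8456,8458,8460,8462,8464],[1637,1635,1662,1693,1691]),
(0,[],[]),
(0,[],[]),
(0,[],[]),
(0,[],[]),
(3,[1709,1710,1712,8468,8470,8472,8474],[1665,1693,7972,8455]),
(0,[],[]),
(2,[1674,1676,8102],[8123,8121]),
(0,[],[]),
(0,[],[]),
(2,[1680,1682,1684,8484],[8482]),
(0,[],[]),
(0,[],[]),
(0,[],[]),
(0,[],[]),
(0,[],[]),
(0,[],[])]
theorem ok16 : data.stepsOK st16 4000 = true := by decide +kernel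
def st17 : List Step := [(0,[],[]),
(0,[],[]),
(0,[],[]),
(0,[],[]),
(0,[],[]),
(0,[],[]),
(4,[1679,8102,8480,8119,8488,8490,8492,8494,8496,8498,8500,8502,8504,8506,8508,8510],[8482,8487,8485,1686]),
(2,[1688,1690,7972,7974,8100],[8513]),
(1,[8515],[]),
(1,[8517,8512],[]),
(1,[8517,8511],[]),
(1,[8100,8520],[]),
(1,[8523],[]),
(1,[8525,8509],[]),
(1,[7977,8526],[]),
(1,[8529],[]),
(1,[8531,8507],[]),
(0,[],[]),
(0,[],[]),
(0,[],[]),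
(0,[],[]),
(0,[],[]),
(0,[],[]),
(0,[],[]),
(0,[],[]),
(0,[],[]),
(0,[],[]),
(0,[],[]),
(0,[],[]),
(4,[8467,8465,8534,8536,8538,8540,8542,8544,8546,8548,8550,8552,8554,8556],[1689,8519,8101,7976,8532,8505]),
(0,[],[]),
(0,[],[]),
(0,[],[]),
(0,[],[]),
(0,[],[]),
(0,[],[]),
(0,[],[]),
(0,[],[]),
(0,[],[]),
(5,[1698,1700,8560,8562,8564,8566,8568,8570,8572,8574,8576],[1697,1932,1934,1936]),
(0,[],[]),
(0,[],[]),
(0,[],[]),
(0,[],[]),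
(0,[],[]),
(0,[],[]),
(0,[],[]),
(0,[],[]),
(0,[],[]),
(0,[],[]),
(0,[],[]),
(0,[],[]),
(4,[1800,1802,1804,8580,8582,8584,8586,8588,8590,8592,8594,8596,8598,8600,8602],[1735,1733,82,1796,1828]),
(2,[1802,1804,1806],[1903,1901]),
(0,[],[]),
(0,[],[]),
(0,[],[]),
(0,[],[]),
(0,[],[]),
(0,[],[]),
(4,[1801,1736,1826,86,88,1922,1926,1949,1988,1990,8608,8610,8612,8614,8616,8618],[1903,1901,8607,1808]),
(0,[],[]),
(2,[1810,1812,8622],[8621,8619]),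
(0,[],[]),
(2,[1816,1818,1820,8353],[8626]),
(0,[],[]),
(0,[],[]),
(0,[],[]),
(0,[],[]),
(0,[],[]),
(0,[],[]),
(0,[],[]),
(4,[1815,8622,8624,8617,8630,8632,8634,8636,8638,8640,8642],[8626,8629,8352,1822,8339,8337,1934,8403,8401]),
(0,[],[]),
(0,[],[]),
(0,[],[]),
(0,[],[]),
(0,[],[]),
(0,[],[]),
(0,[],[]),
(0,[],[]),
(0,[],[]),
(5,[8605,8603,8601,8646,8648,8650,8652,8654,8656,8658,8660,8662],[1830,1858,1860]),
(0,[],[]),
(0,[],[]),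
(0,[],[]),
(0,[],[]),
(0,[],[]),
(0,[],[]),
(0,[],[]),
(0,[],[]),
(0,[],[]),
(0,[],[]),
(0,[],[]),
(0,[],[]),
(0,[],[]),
(2,[1904,8686,8688,8690],[1872]),
(0,[],[]),
(0,[],[]),
(0,[],[]),
(0,[],[]),
(0,[],[]),
(0,[],[]),
(0,[],[]),
(4,[1871,1869,88,90,92,1950,1982,2015,2068,2070,8694,8696,8698,8700,8702,8704,8706],[1872,8693,8691]),
(0,[],[]),
(0,[],[]),
(0,[],[]),
(0,[],[]),
(0,[],[]),
(0,[],[]),
(0,[],[]),
(0,[],[]),
(0,[],[]),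
(0,[],[]),
(0,[],[]),
(0,[],[]),
(0,[],[]),
(0,[],[]),
(0,[],[]),
(0,[],[]),
(5,[2027,2025,8724,8726,8728,8730,8732,8734,8736,8738,8740],[1925,1926,1949,1988]),
(0,[],[]),
(0,[],[]),
(0,[],[]),
(0,[],[]),
(3,[1981,1979,8676,8744,8746,8748,8750],[1929,1949,1988,8743]),
(0,[],[]),
(0,[],[]),
(0,[],[]),
(0,[],[]),
(0,[],[]),
(2,[1936,1938,1940],[8403,8401,8645]),
(1,[8765],[]),
(1,[8767,8643],[]),
(1,[1943,8768],[]),
(1,[8767,8644],[]),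
(1,[8771],[]),
(1,[8775,8641],[]),
(0,[],[]),
(0,[],[]),
(0,[],[]),
(0,[],[]),
(0,[],[]),
(0,[],[]),
(0,[],[]),
(0,[],[]),
(0,[],[]),
(0,[],[]),
(0,[],[]),
(0,[],[]),
(0,[],[]),
(0,[],[]),
(0,[],[]),
(0,[],[]),
(4,[8758,8760,8762,8786,8788,8790,8792,8794,8796,8798,8800,8802,8804,8806,8808],[1939,1937,8403,8754,8778]),
(2,[1944,1946,1988,1990,1992],[8776]),
(1,[8813],[]),
(1,[8815,8777],[]),
(0,[],[]),
(0,[],[]),
(0,[],[]),
(0,[],[]),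
(0,[],[]),
(0,[],[]),
(0,[],[]),
(0,[],[]),
(0,[],[]),
(0,[],[]),
(0,[],[]),
(4,[1943,8772,8400,8754,8756,8820,8822,8824,8826,8828,8830,8832,8834,8836,8838],[8817,1993,1991,8743,8753]),
(0,[],[]),
(0,[],[]),
(0,[],[]),
(0,[],[]),
(0,[],[]),
(4,[1948,1928,1930,1870,1904,8686,8688,8709,8710,8712,8842,8844,8846,8848,8850],[1947,1945,8817,1994,8818]),
(0,[],[]),
(0,[],[]),
(0,[],[]),
(0,[],[]),
(0,[],[]),
(0,[],[]),
(0,[],[]),
(0,[],[]),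
(0,[],[]),
(5,[1973,8854,8856,8858,8860,8862,8864,8866,8868,8870],[1974,1976,8676,8744,8746]),
(0,[],[]),
(0,[],[]),
(0,[],[]),
(0,[],[]),
(0,[],[]),
(0,[],[]),
(0,[],[]),
(0,[],[]),
(0,[],[]),
(0,[],[]),
(0,[],[]),
(4,[8743,8741,8876,8878,8880,8882,8884,8886,8888,8890,8892,8894],[1989,1947,1945,1943,1941,1939,8579,8780]),
(0,[],[]),
(2,[1996,1998,8898],[8818,8853]),
(0,[],[]),
(0,[],[]),
(2,[2002,2004,2006,8904],[8902]),
(0,[],[]),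
(0,[],[]),
(0,[],[]),
(0,[],[]),
(0,[],[]),
(0,[],[]),
(0,[],[]),
(0,[],[]),
(0,[],[]),
(0,[],[]),
(0,[],[]),
(0,[],[]),
(4,[2001,8898,8900,8851,8908,8910,8912,8914,8916,8918,8920,8922,8924,8926,8928,8930],[8902,8907,8905,2008]),
(2,[2010,2012,2068,2070,2072],[8933]),
(1,[8935],[]),
(1,[8937,8932],[]),
(0,[],[]),
(0,[],[]),
(0,[],[]),
(0,[],[]),
(0,[],[]),
(0,[],[]),
(4,[2014,1984,1986,1865,1863,8665,8666,8668,8670,8672,8942,8944,8946,8948,8950],[2013,2011,8939,2074,8940]),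
(0,[],[]),
(0,[],[]),
(0,[],[]),
(0,[],[]),
(0,[],[]),
(0,[],[]),
(0,[],[]),
(0,[],[]),
(0,[],[]),
(5,[2153,8714,8956,8958,8960,8962,8964,8966,8968,8970],[2031,2060,2095,2167,2165]),
(0,[],[]),
(0,[],[]),
(2,[2076,2078,8976],[8940,8953]),
(0,[],[]),
(0,[],[]),
(0,[],[]),
(0,[],[]),
(2,[2082,2084,2086,8986],[8980]),
(0,[],[]),
(0,[],[]),
(0,[],[]),
(0,[],[]),
(0,[],[])]
theorem ok17 : data.stepsOK st17 4250 = true := by decide +kernel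
def st18 : List Step := [(0,[],[]),
(0,[],[]),
(0,[],[]),
(0,[],[]),
(0,[],[]),
(0,[],[]),
(0,[],[]),
(4,[2081,8976,8978,8951,8990,8992,8994,8996,8998,9000,9002,9004,9006,9008,9010,9012],[8980,8989,8987,2088]),
(2,[2090,2092,2167,8674,8716],[9015]),
(1,[9017],[]),
(1,[9019,9014],[]),
(0,[],[]),
(0,[],[]),
(0,[],[]),
(0,[],[]),
(0,[],[]),
(0,[],[]),
(0,[],[]),
(0,[],[]),
(0,[],[]),
(0,[],[]),
(4,[2089,8986,8988,8982,8984,9022,9024,9026,9028,9030,9032,9034,9036,9038,9040],[9021,8717,8675,2165,2163]),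
(0,[],[]),
(0,[],[]),
(2,[2104,2187,2222,9046],[9044]),
(0,[],[]),
(0,[],[]),
(0,[],[]),
(0,[],[]),
(0,[],[]),
(0,[],[]),
(0,[],[]),
(0,[],[]),
(0,[],[]),
(0,[],[]),
(0,[],[]),
(4,[2106,104,2196,2221,2323,8974,9050,9052,9054,9056,9058,9060,9062,9064,9066,9068,9070],[2105,9044,9049]),
(0,[],[]),
(0,[],[]),
(0,[],[]),
(0,[],[]),
(0,[],[]),
(0,[],[]),
(0,[],[]),
(0,[],[]),
(0,[],[]),
(0,[],[]),
(5,[2201,2253,2251,9076,9078,9080,9082,9084,9086,9088,9090,9092],[2110,2154,2156]),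
(0,[],[]),
(0,[],[]),
(2,[2154,9096,9098],[2112,2301]),
(0,[],[]),
(0,[],[]),
(0,[],[]),
(0,[],[]),
(0,[],[]),
(0,[],[]),
(0,[],[]),
(0,[],[]),
(0,[],[]),
(4,[2111,2109,102,2107,2187,2222,9046,9073,9102,9104,9106,9108,9110,9112,9114,9116,9118],[2112,2301,9101]),
(0,[],[]),
(0,[],[]),
(0,[],[]),
(0,[],[]),
(0,[],[]),
(0,[],[]),
(3,[2114,2116,2118,9122,9124,9126,9128,9130,9132],[2301,2299]),
(0,[],[]),
(0,[],[]),
(0,[],[]),
(0,[],[]),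
(0,[],[]),
(2,[9074,9140,9142,9144],[2116]),
(0,[],[]),
(0,[],[]),
(0,[],[]),
(0,[],[]),
(0,[],[]),
(0,[],[]),
(0,[],[]),
(3,[2118,2120,2122,8954,9150,9152,9154,9156,9158,9160],[9147]),
(0,[],[]),
(0,[],[]),
(0,[],[]),
(0,[],[]),
(0,[],[]),
(0,[],[]),
(0,[],[]),
(0,[],[]),
(0,[],[]),
(0,[],[]),
(5,[9147,9163,9164,9166,9168,9170,9172,9174,9176,9178,9180,9182],[2118,9122,9124]),
(0,[],[]),
(0,[],[]),
(0,[],[]),
(0,[],[]),
(0,[],[]),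
(0,[],[]),
(0,[],[]),
(0,[],[]),
(0,[],[]),
(0,[],[]),
(0,[],[]),
(0,[],[]),
(4,[2156,9095,9148,9188,9190,9192,9194,9196,9198,9200,9202,9204,9206,9208],[2155,2112,2301,2299,2297,2295]),
(0,[],[]),
(0,[],[]),
(2,[2162,8973,9212,9214],[9043]),
(0,[],[]),
(0,[],[]),
(0,[],[]),
(0,[],[]),
(0,[],[]),
(0,[],[]),
(0,[],[]),
(0,[],[]),
(0,[],[]),
(0,[],[]),
(0,[],[]),
(0,[],[]),
(4,[2161,2159,9095,9093,9091,9218,9220,9222,9224,9226,9228,9230,9232,9234,9236,9238,9240],[9043,9217,9215]),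
(0,[],[]),
(0,[],[]),
(0,[],[]),
(0,[],[]),
(0,[],[]),
(0,[],[]),
(0,[],[]),
(0,[],[]),
(0,[],[]),
(0,[],[]),
(0,[],[]),
(4,[2164,8674,8716,8718,8720,8722,9244,9246,9248,9250,9252,9254,9256,9258,9260,9262,9264],[2163,9043,9217]),
(0,[],[]),
(0,[],[]),
(0,[],[]),
(0,[],[]),
(0,[],[]),
(0,[],[]),
(0,[],[]),
(0,[],[]),
(0,[],[]),
(0,[],[]),
(0,[],[]),
(0,[],[]),
(5,[2191,2275,9270,9272,9274,9276,9278,9280,9282,9284,9286,9288,9290],[2276,2278]),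
(0,[],[]),
(0,[],[]),
(0,[],[]),
(0,[],[]),
(0,[],[]),
(0,[],[]),
(0,[],[]),
(3,[2194,2349,9298,9300,9302,9304,9306],[2193,2276,2278,9293]),
(2,[2278,2280,2282],[2393,2391]),
(0,[],[]),
(0,[],[]),
(0,[],[]),
(0,[],[]),
(0,[],[]),
(0,[],[]),
(0,[],[]),
(0,[],[]),
(0,[],[]),
(0,[],[]),
(0,[],[]),
(4,[2277,2192,2302,2363,2361,9312,9314,9316,9318,9320,9322,9324,9326,9328,9330,9332],[2393,2391,9311,2284]),
(0,[],[]),
(0,[],[]),
(0,[],[]),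
(0,[],[]),
(0,[],[]),
(0,[],[]),
(0,[],[]),
(0,[],[]),
(0,[],[]),
(0,[],[]),
(0,[],[]),
(0,[],[]),
(4,[9293,9291,9336,9338,9340,9342,9344,9346,9348,9350,9352,9354,9356,9358],[2279,2393,2391,2389,2387,2385]),
(0,[],[]),
(0,[],[]),
(0,[],[]),
(0,[],[]),
(0,[],[]),
(0,[],[]),
(0,[],[]),
(0,[],[]),
(0,[],[]),
(0,[],[]),
(0,[],[]),
(5,[2281,9293,9309,9307,9366,9368,9370,9372,9374,9376,9378,9380,9382],[9294,9296]),
(0,[],[]),
(0,[],[]),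
(0,[],[]),
(0,[],[]),
(0,[],[]),
(3,[2284,9335,9386,9388,9390,9392,9394],[2283,9294,9296,9385]),
(0,[],[]),
(0,[],[]),
(0,[],[]),
(0,[],[]),
(0,[],[]),
(0,[],[]),
(0,[],[]),
(0,[],[]),
(0,[],[]),
(5,[2283,9294,9362,9364,9398,9400,9402,9404,9406,9408,9410,9412,9414],[2284,2286]),
(0,[],[]),
(2,[2286,2288,9418],[9335,9333]),
(0,[],[]),
(0,[],[]),
(0,[],[]),
(0,[],[]),
(0,[],[]),
(0,[],[]),
(0,[],[]),
(0,[],[]),
(0,[],[]),
(0,[],[]),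
(5,[9335,9386,9422,9424,9426,9428,9430,9432,9434,9436,9438,9440],[2285,9310,2389]),
(0,[],[]),
(0,[],[]),
(0,[],[]),
(0,[],[]),
(0,[],[]),
(0,[],[]),
(0,[],[]),
(0,[],[]),
(0,[],[]),
(0,[],[]),
(0,[],[]),
(5,[2289,9417,9444,9446,9450,9452,9454,9456,9458,9460,9462,9464],[2290,2292,9211]),
(0,[],[]),
(0,[],[]),
(0,[],[]),
(0,[],[]),
(0,[],[]),
(0,[],[]),
(0,[],[]),
(0,[],[]),
(0,[],[]),
(0,[],[]),
(0,[],[]),
(4,[2290,2292,2294,9136,9468,9470,9472,9474,9476,9478,9480,9482,9484,9486,9488],[2289,2287,9335,9386,9422]),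
(2,[2292,2294,2296,9135],[9448]),
(0,[],[]),
(0,[],[]),
(0,[],[])]
theorem ok18 : data.stepsOK st18 4500 = true := by decide +kernel
def st19 : List Step := [(0,[],[]),
(0,[],[]),
(0,[],[]),
(0,[],[]),
(0,[],[]),
(0,[],[]),
(0,[],[]),
(0,[],[]),
(0,[],[]),
(0,[],[]),
(4,[9211,9467,9494,9496,9498,9500,9502,9504,9506,9508,9510,9512,9514,9516,9518],[2293,9448,9493,9133,9131]),
(0,[],[]),
(0,[],[]),
(0,[],[]),
(0,[],[]),
(0,[],[]),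
(0,[],[]),
(0,[],[]),
(0,[],[]),
(0,[],[]),
(5,[9101,9121,9119,9522,9524,9526,9528,9530,9532,9534,9536,9538],[2299,9135,9133]),
(0,[],[]),
(0,[],[]),
(0,[],[]),
(0,[],[]),
(0,[],[]),
(0,[],[]),
(0,[],[]),
(0,[],[]),
(0,[],[]),
(0,[],[]),
(0,[],[]),
(0,[],[]),
(5,[2373,9542,9544,9546,9548,9550,9552,9554,9556,9558,9560,9562,9564],[2374,2376]),
(0,[],[]),
(0,[],[]),
(0,[],[]),
(0,[],[]),
(0,[],[]),
(0,[],[]),
(0,[],[]),
(0,[],[]),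
(0,[],[]),
(0,[],[]),
(0,[],[]),
(5,[2379,9567,9568,9570,9574,9576,9578,9580,9582,9584,9586,9588],[2380,2382,9361]),
(2,[2382,2384,2386,9443],[9572]),
(0,[],[]),
(0,[],[]),
(0,[],[]),
(0,[],[]),
(0,[],[]),
(0,[],[]),
(0,[],[]),
(0,[],[]),
(0,[],[]),
(0,[],[]),
(0,[],[]),
(0,[],[]),
(0,[],[]),
(0,[],[]),
(0,[],[]),
(0,[],[]),
(4,[9361,9591,9598,9600,9602,9604,9606,9608,9610,9612,9614,9616,9618,9620,9622,9624],[2383,9572,9593,9441]),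
(0,[],[]),
(0,[],[]),
(0,[],[]),
(0,[],[]),
(0,[],[]),
(0,[],[]),
(3,[2396,2442,2444,9628,9630,9632,9634,9636,9638],[2581,2579]),
(0,[],[]),
(0,[],[]),
(0,[],[]),
(0,[],[]),
(0,[],[]),
(0,[],[]),
(5,[2581,2579,2577,9642,9644,9646,9648,9650,9652],[2396,2398,2400,4442,4444,4446]),
(0,[],[]),
(0,[],[]),
(0,[],[]),
(0,[],[]),
(0,[],[]),
(0,[],[]),
(0,[],[]),
(0,[],[]),
(0,[],[]),
(0,[],[]),
(4,[2396,2398,4437,4435,4433,9656,9658,9660,9662,9664,9666,9668,9670,9672,9674],[2581,3427,2797,2408,3378]),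
(0,[],[]),
(0,[],[]),
(2,[2398,4437,9678,9680],[2442]),
(0,[],[]),
(0,[],[]),
(0,[],[]),
(0,[],[]),
(0,[],[]),
(0,[],[]),
(0,[],[]),
(4,[2397,2395,233,231,229,3366,3412,3414,3416,3418,9684,9686,9688,9690,9692,9694,9696],[2442,9683,9681]),
(0,[],[]),
(0,[],[]),
(0,[],[]),
(0,[],[]),
(0,[],[]),
(0,[],[]),
(0,[],[]),
(0,[],[]),
(0,[],[]),
(2,[4442,9700,9716],[2402,2934]),
(0,[],[]),
(0,[],[]),
(0,[],[]),
(0,[],[]),
(0,[],[]),
(0,[],[]),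
(0,[],[]),
(0,[],[]),
(4,[2404,386,171,169,167,2846,2854,2856,2858,2860,9724,9726,9728,9730,9732,9734],[2934,9719,9717,9702]),
(2,[2410,2412,2414],[3378,9677]),
(0,[],[]),
(0,[],[]),
(0,[],[]),
(0,[],[]),
(0,[],[]),
(0,[],[]),
(0,[],[]),
(0,[],[]),
(0,[],[]),
(5,[3378,3380,9740,9742,9744,9746,9748,9750,9752,9754,9756],[2409,2796,2798,2800]),
(0,[],[]),
(0,[],[]),
(0,[],[]),
(0,[],[]),
(0,[],[]),
(0,[],[]),
(0,[],[]),
(0,[],[]),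
(0,[],[]),
(0,[],[]),
(0,[],[]),
(4,[2409,2796,3426,2579,9641,9760,9762,9764,9766,9768,9770,9772,9774,9776,9778,9780],[3378,9677,9739,2416]),
(0,[],[]),
(2,[2418,2420,9784],[9783,9781]),
(0,[],[]),
(0,[],[]),
(0,[],[]),
(0,[],[]),
(2,[2424,2426,2428,9794],[9788]),
(0,[],[]),
(0,[],[]),
(0,[],[]),
(0,[],[]),
(0,[],[]),
(0,[],[]),
(0,[],[]),
(0,[],[]),
(0,[],[]),
(0,[],[]),
(0,[],[]),
(4,[2423,9784,9786,9779,9798,9800,9802,9804,9806,9808,9810,9812,9814,9816,9818],[9788,9797,9795,2430,3251]),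
(0,[],[]),
(0,[],[]),
(0,[],[]),
(2,[2432,2434,2553,2554,3466],[3251]),
(1,[9828],[]),
(1,[9831,3468],[]),
(1,[3248,9832],[]),
(1,[9831,3467],[]),
(1,[9820,9836],[]),
(1,[9835],[]),
(1,[9841,3470],[]),
(1,[9823,9842],[]),
(1,[9838],[]),
(1,[9847,9819],[]),
(1,[2557,9848],[]),
(1,[9847,9820],[]),
(1,[9844],[]),
(1,[9855,9824],[]),
(1,[9855,9823],[]),
(1,[9851],[]),
(1,[9861,9817],[]),
(0,[],[]),
(0,[],[]),
(0,[],[]),
(0,[],[]),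
(0,[],[]),
(0,[],[]),
(0,[],[]),
(0,[],[]),
(0,[],[]),
(0,[],[]),
(0,[],[]),
(0,[],[]),
(4,[2431,9794,9796,9790,9792,9868,9870,9872,9874,9876,9878,9880,9882,9884,9886],[3251,9853,2555,2551,2591]),
(0,[],[]),
(0,[],[]),
(0,[],[]),
(0,[],[]),
(0,[],[]),
(0,[],[]),
(0,[],[]),
(0,[],[]),
(2,[9894,9900,9902,9904],[2450]),
(0,[],[]),
(0,[],[]),
(0,[],[]),
(0,[],[]),
(0,[],[]),
(3,[2452,2454,2456,3488,3490,9908,9910,9912,9914,9916],[9907]),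
(0,[],[]),
(0,[],[]),
(0,[],[]),
(0,[],[]),
(0,[],[]),
(0,[],[]),
(0,[],[]),
(0,[],[]),
(0,[],[]),
(0,[],[]),
(5,[9907,9919,9920,9922,9924,9926,9928,9930,9932,9934,9936,9938],[2452,9896,9898]),
(0,[],[]),
(2,[3488,9892,9942],[2458,2499]),
(0,[],[]),
(0,[],[]),
(0,[],[]),
(0,[],[]),
(0,[],[]),
(0,[],[]),
(0,[],[]),
(0,[],[]),
(0,[],[]),
(0,[],[]),
(0,[],[]),
(0,[],[]),
(4,[2457,2455,9896,9898,9941,9946,9948,9950,9952,9954,9956,9958,9960,9962,9964,9966,9968],[2458,2499,9945]),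
(0,[],[]),
(2,[2490,3216,9972],[2532,4529]),
(0,[],[]),
(0,[],[]),
(0,[],[]),
(0,[],[]),
(0,[],[]),
(0,[],[]),
(0,[],[]),
(0,[],[]),
(0,[],[]),
(0,[],[]),
(0,[],[]),
(4,[2489,204,394,2519,2517,4478,9976,9978,9980,9982,9984,9986,9988,9990,9992,9994,9996],[2532,4529,9975])]
theorem ok19 : data.stepsOK st19 4750 = true := by decide +kernel
def st20 : List Step := [(0,[],[]),
(0,[],[]),
(0,[],[]),
(0,[],[]),
(0,[],[]),
(0,[],[]),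
(5,[2494,2496,9945,9971,9969,10000,10002,10004,10006,10008,10010],[2493,3216,3218,3220]),
(0,[],[]),
(0,[],[]),
(0,[],[]),
(0,[],[]),
(0,[],[]),
(0,[],[]),
(0,[],[]),
(0,[],[]),
(0,[],[]),
(2,[2522,9890,10028,10030],[2592]),
(0,[],[]),
(0,[],[]),
(0,[],[]),
(0,[],[]),
(0,[],[]),
(0,[],[]),
(0,[],[]),
(0,[],[]),
(0,[],[]),
(0,[],[]),
(0,[],[]),
(0,[],[]),
(4,[2521,2434,2553,2551,2549,10034,10036,10038,10040,10042,10044,10046,10048,10050,10052,10054,10056],[2592,10033,10031]),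
(0,[],[]),
(0,[],[]),
(0,[],[]),
(0,[],[]),
(0,[],[]),
(0,[],[]),
(2,[10034,10036],[2548,2591,9889]),
(0,[],[]),
(0,[],[]),
(0,[],[]),
(0,[],[]),
(0,[],[]),
(0,[],[]),
(0,[],[]),
(0,[],[]),
(0,[],[]),
(5,[2591,2589,10074,10076,10078,10080,10082,10084,10086,10088,10090],[2550,2554,2556,2558]),
(0,[],[]),
(0,[],[]),
(0,[],[]),
(0,[],[]),
(0,[],[]),
(0,[],[]),
(0,[],[]),
(0,[],[]),
(0,[],[]),
(0,[],[]),
(4,[2550,2554,9852,3249,9859,3472,10094,10096,10098,10100,10102,10104,10106,10108,10110,10112],[2591,9889,10073,10038]),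
(0,[],[]),
(0,[],[]),
(0,[],[]),
(0,[],[]),
(0,[],[]),
(0,[],[]),
(0,[],[]),
(0,[],[]),
(5,[9862,10070,10116,10118,10120,10122,10124,10126,10128,10130],[2557,9852,3249,9859,9856]),
(0,[],[]),
(0,[],[]),
(0,[],[]),
(0,[],[]),
(3,[10093,10134,10136,10138,10140],[2559,2557,9852,3249,3247,9864]),
(0,[],[]),
(0,[],[]),
(0,[],[]),
(0,[],[]),
(0,[],[]),
(0,[],[]),
(0,[],[]),
(0,[],[]),
(0,[],[]),
(0,[],[]),
(0,[],[]),
(5,[2575,3447,3445,10146,10148,10150,10152,10154,10156,10158,10160,10162,10164],[9642,10144]),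
(0,[],[]),
(0,[],[]),
(3,[2578,3427,2798,2800,9759,10168,10170],[2577,9642,10144,10167]),
(0,[],[]),
(0,[],[]),
(0,[],[]),
(0,[],[]),
(0,[],[]),
(0,[],[]),
(3,[2701,2699,3254,10178,10180,10182,10184],[2641,2669,2728,3895]),
(0,[],[]),
(0,[],[]),
(0,[],[]),
(0,[],[]),
(0,[],[]),
(0,[],[]),
(0,[],[]),
(0,[],[]),
(0,[],[]),
(0,[],[]),
(5,[2647,2848,2850,2852,10192,10194,10196,10198,10200,10202,10204,10206],[2648,2650,4418]),
(2,[2650,2652,2910],[2977,2975]),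
(0,[],[]),
(0,[],[]),
(0,[],[]),
(0,[],[]),
(0,[],[]),
(0,[],[]),
(4,[2649,2932,384,2405,2403,4442,9700,9702,9704,9706,10212,10214,10216,10218,10220,10222],[2977,2975,10211,2912]),
(0,[],[]),
(0,[],[]),
(0,[],[]),
(0,[],[]),
(0,[],[]),
(0,[],[]),
(0,[],[]),
(0,[],[]),
(0,[],[]),
(0,[],[]),
(0,[],[]),
(0,[],[]),
(4,[4418,10209,10226,10228,10230,10232,10234,10236,10238,10240,10242,10244,10246,10248],[2651,2977,2975,2973,2971,2969]),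
(0,[],[]),
(0,[],[]),
(0,[],[]),
(0,[],[]),
(0,[],[]),
(0,[],[]),
(2,[2656,2658,2660,10262],[10252]),
(0,[],[]),
(0,[],[]),
(0,[],[]),
(0,[],[]),
(0,[],[]),
(0,[],[]),
(0,[],[]),
(0,[],[]),
(0,[],[]),
(5,[10252,10254,10266,10268,10270,10272,10274,10276,10278,10280,10282],[2655,2910,2912,2914]),
(0,[],[]),
(0,[],[]),
(0,[],[]),
(0,[],[]),
(0,[],[]),
(0,[],[]),
(0,[],[]),
(0,[],[]),
(0,[],[]),
(0,[],[]),
(0,[],[]),
(0,[],[]),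
(4,[2655,2910,10210,2973,10286,10288,10290,10292,10294,10296,10298,10300,10302,10304,10306,10308],[10252,10265,10263,2662]),
(2,[2664,2666,2728,2730,2732],[10311]),
(1,[10313],[]),
(1,[10315,10310],[]),
(0,[],[]),
(0,[],[]),
(0,[],[]),
(0,[],[]),
(0,[],[]),
(0,[],[]),
(0,[],[]),
(0,[],[]),
(0,[],[]),
(0,[],[]),
(0,[],[]),
(4,[2663,10262,10264,10254,10256,10320,10322,10324,10326,10328,10330,10332,10334,10336,10338],[10317,2733,2731,3895,10187]),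
(0,[],[]),
(0,[],[]),
(0,[],[]),
(0,[],[]),
(0,[],[]),
(0,[],[]),
(4,[2668,2640,2642,214,266,3274,3304,3329,3700,3702,10344,10346,10348,10350,10352],[2667,2665,10317,2734,10318]),
(0,[],[]),
(0,[],[]),
(0,[],[]),
(0,[],[]),
(0,[],[]),
(0,[],[]),
(0,[],[]),
(0,[],[]),
(0,[],[]),
(0,[],[]),
(0,[],[]),
(0,[],[]),
(0,[],[]),
(4,[3676,3678,3680,10358,10360,10362,10364,10366,10368,10370,10372,10374,10376,10378,10380],[2731,2729,2667,3907,10188]),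
(0,[],[]),
(2,[2736,2738,10384],[10318,10355]),
(0,[],[]),
(0,[],[]),
(0,[],[]),
(0,[],[]),
(0,[],[]),
(0,[],[]),
(0,[],[]),
(0,[],[]),
(0,[],[]),
(0,[],[]),
(0,[],[]),
(4,[2735,10316,2664,3907,3905,10342,10388,10390,10392,10394,10396,10398,10400,10402,10404,10406,10408],[10318,10355,10387]),
(0,[],[]),
(0,[],[]),
(0,[],[]),
(0,[],[]),
(0,[],[]),
(0,[],[]),
(0,[],[]),
(0,[],[]),
(0,[],[]),
(0,[],[]),
(0,[],[]),
(0,[],[]),
(5,[10412,10414,10416,10418,10420,10422,10424,10426,10428,10430,10432,10434],[2741,10384,10411]),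
(2,[2766,2768,2770],[2817,2815]),
(0,[],[]),
(0,[],[]),
(0,[],[]),
(0,[],[]),
(0,[],[]),
(0,[],[]),
(4,[2765,2794,2486,152,2582,2818,2820,2845,10174,10176,10440,10442,10444,10446,10448,10450],[2817,2815,10439,2772]),
(0,[],[]),
(0,[],[]),
(0,[],[]),
(0,[],[]),
(0,[],[]),
(0,[],[]),
(0,[],[]),
(0,[],[]),
(0,[],[]),
(0,[],[]),
(0,[],[]),
(0,[],[]),
(0,[],[]),
(5,[10453,10458,10460,10462,10464,10466,10468,10470,10472,10474,10476,10478],[2773,10438,2813]),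
(2,[2800,2802,3420],[3463,3461]),
(0,[],[]),
(0,[],[]),
(0,[],[]),
(0,[],[]),
(0,[],[]),
(0,[],[]),
(0,[],[]),
(0,[],[])]
theorem ok20 : data.stepsOK st20 5000 = true := by decide +kernel
def st21 : List Step := [(0,[],[]),
(0,[],[]),
(0,[],[]),
(0,[],[]),
(0,[],[]),
(0,[],[]),
(0,[],[]),
(4,[9759,9757,10490,10492,10494,10496,10498,10500,10502,10504,10506,10508,10510,10512],[2801,3463,3461,3459,3457,3455]),
(0,[],[]),
(0,[],[]),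
(0,[],[]),
(0,[],[]),
(0,[],[]),
(0,[],[]),
(3,[2804,10516,10518,10520,10522,10524,10526],[2803,9759,9757,9755]),
(0,[],[]),
(2,[2806,2808,2810,10481],[10516]),
(0,[],[]),
(0,[],[]),
(0,[],[]),
(0,[],[]),
(0,[],[]),
(0,[],[]),
(0,[],[]),
(0,[],[]),
(0,[],[]),
(5,[10516,10518,10534,10536,10538,10540,10542,10544,10546,10548,10550],[2805,3420,3422,3424]),
(0,[],[]),
(0,[],[]),
(0,[],[]),
(0,[],[]),
(0,[],[]),
(0,[],[]),
(0,[],[]),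
(0,[],[]),
(4,[2805,3420,10482,3459,10554,10556,10558,10560,10562,10564,10566,10568],[10516,10533,10480,2812,10439,2771,3222,10454]),
(2,[2909,2978,2980],[2850,4413,4411]),
(1,[10573],[]),
(1,[10575,4409],[]),
(1,[2983,10576],[]),
(1,[10575,4410],[]),
(1,[10579],[]),
(1,[10583,4407],[]),
(0,[],[]),
(0,[],[]),
(2,[2858,2860,2862],[2931,2929]),
(0,[],[]),
(0,[],[]),
(0,[],[]),
(0,[],[]),
(0,[],[]),
(0,[],[]),
(0,[],[]),
(0,[],[]),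
(0,[],[]),
(0,[],[]),
(4,[2857,2872,2874,2887,2885,3933,10592,10594,10596,10598,10600,10602,10604,10606,10608,10610],[2931,2929,10591,2864]),
(0,[],[]),
(0,[],[]),
(0,[],[]),
(2,[2866,2868,10618],[10613,10611]),
(0,[],[]),
(0,[],[]),
(0,[],[]),
(0,[],[]),
(0,[],[]),
(0,[],[]),
(0,[],[]),
(0,[],[]),
(0,[],[]),
(0,[],[]),
(5,[10613,10616,10622,10624,10626,10628,10630,10632,10634,10636,10638,10640],[2865,10590,2927]),
(0,[],[]),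
(0,[],[]),
(0,[],[]),
(0,[],[]),
(0,[],[]),
(0,[],[]),
(0,[],[]),
(0,[],[]),
(0,[],[]),
(0,[],[]),
(0,[],[]),
(0,[],[]),
(4,[2865,10590,2928,10586,10588,10644,10646,10648,10650,10652,10654,10656,10658,10660,10662,10664,10666],[10613,10611,10621]),
(0,[],[]),
(0,[],[]),
(0,[],[]),
(0,[],[]),
(0,[],[]),
(0,[],[]),
(0,[],[]),
(0,[],[]),
(0,[],[]),
(0,[],[]),
(0,[],[]),
(0,[],[]),
(5,[10670,10672,10674,10676,10678,10680,10682,10684,10686,10688,10690,10692],[2871,10618,10669]),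
(0,[],[]),
(2,[2914,2916,10696],[10225,10223]),
(0,[],[]),
(0,[],[]),
(0,[],[]),
(0,[],[]),
(0,[],[]),
(0,[],[]),
(0,[],[]),
(0,[],[]),
(0,[],[]),
(0,[],[]),
(0,[],[]),
(0,[],[]),
(4,[2913,10210,2974,4438,10190,10700,10702,10704,10706,10708,10710,10712,10714,10716,10718,10720,10722],[10225,10223,10699]),
(0,[],[]),
(0,[],[]),
(0,[],[]),
(0,[],[]),
(0,[],[]),
(3,[10285,10726,10728,10730,10732,10734],[2915,2913,10210,2973,2971]),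
(0,[],[]),
(0,[],[]),
(0,[],[]),
(0,[],[]),
(0,[],[]),
(0,[],[]),
(0,[],[]),
(0,[],[]),
(0,[],[]),
(0,[],[]),
(0,[],[]),
(0,[],[]),
(4,[10285,10283,10738,10740,10742,10744,10746,10748,10750,10752,10754,10756,10758,10760],[2915,10225,10223,10221,10219,10217]),
(0,[],[]),
(0,[],[]),
(0,[],[]),
(0,[],[]),
(2,[2920,2922,2924,10643],[10764]),
(0,[],[]),
(0,[],[]),
(0,[],[]),
(0,[],[]),
(0,[],[]),
(0,[],[]),
(0,[],[]),
(0,[],[]),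
(0,[],[]),
(0,[],[]),
(5,[10764,10766,10774,10776,10778,10780,10782,10784,10786,10788,10790,10792],[2919,10696,10725]),
(0,[],[]),
(0,[],[]),
(0,[],[]),
(0,[],[]),
(0,[],[]),
(0,[],[]),
(0,[],[]),
(0,[],[]),
(4,[2919,10696,10698,10221,10796,10798,10800,10802,10804,10806,10808,10810],[10764,10773,10642,2926,10591,2863,9724,10614]),
(0,[],[]),
(0,[],[]),
(0,[],[]),
(0,[],[]),
(0,[],[]),
(0,[],[]),
(0,[],[]),
(0,[],[]),
(0,[],[]),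
(0,[],[]),
(0,[],[]),
(0,[],[]),
(0,[],[]),
(0,[],[]),
(4,[2936,4440,10814,10816,10818,10820,10822,10824,10826,10828,10830,10832,10834,10836,10838,10840],[9719,9717,9701,4444]),
(0,[],[]),
(0,[],[]),
(0,[],[]),
(0,[],[]),
(0,[],[]),
(0,[],[]),
(0,[],[]),
(0,[],[]),
(0,[],[]),
(0,[],[]),
(0,[],[]),
(5,[2957,3234,3630,10844,10850,10852,10854,10856,10858,10860,10862,10864],[2958,2960,3626]),
(2,[2960,2962,4036],[3632,3687]),
(0,[],[]),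
(0,[],[]),
(0,[],[]),
(0,[],[]),
(0,[],[]),
(0,[],[]),
(0,[],[]),
(0,[],[]),
(4,[2959,3606,260,342,3037,3664,4060,4085,10870,10872,10874,10876,10878,10880,10882,10884],[3632,3687,10869,4038]),
(0,[],[]),
(0,[],[]),
(0,[],[]),
(0,[],[]),
(0,[],[]),
(0,[],[]),
(0,[],[]),
(0,[],[]),
(0,[],[]),
(0,[],[]),
(0,[],[]),
(0,[],[]),
(0,[],[]),
(0,[],[]),
(4,[2964,2966,2968,10737,10735,10896,10898,10900,10902,10904,10906,10908,10910,10912,10914],[2963,2961,3632,3634,3636]),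
(2,[2966,2968,2970,10286,10288,10290],[]),
(1,[10918],[]),
(1,[10921,10291],[]),
(1,[10891,10922],[]),
(1,[10924],[]),
(1,[10927,10892],[]),
(1,[10927,10891],[]),
(0,[],[]),
(0,[],[]),
(0,[],[]),
(0,[],[]),
(0,[],[]),
(0,[],[]),
(0,[],[]),
(0,[],[]),
(0,[],[]),
(5,[10931,10928,10932,10934,10936,10938,10940,10942,10944,10946,10948],[2965,4036,4038,4040]),
(0,[],[]),
(0,[],[]),
(0,[],[]),
(0,[],[]),
(0,[],[]),
(0,[],[]),
(0,[],[]),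
(0,[],[]),
(0,[],[]),
(0,[],[]),
(0,[],[]),
(0,[],[]),
(5,[2969,10251,10249,10952,10960,10962,10964,10966,10968,10970,10972,10974],[10737,10735,10733]),
(0,[],[]),
(0,[],[]),
(0,[],[]),
(0,[],[]),
(0,[],[]),
(0,[],[]),
(0,[],[]),
(0,[],[]),
(0,[],[]),
(0,[],[]),
(0,[],[])]
theorem ok21 : data.stepsOK st21 5250 = true := by decide +kernel
def st22 : List Step := [(0,[],[]),
(4,[10737,10735,10896,10978,10980,10982,10984,10986,10988,10990,10992,10994,10996,10998,11000],[2969,2967,10931,10928,10932]),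
(0,[],[]),
(0,[],[]),
(0,[],[]),
(0,[],[]),
(0,[],[]),
(0,[],[]),
(0,[],[]),
(0,[],[]),
(0,[],[]),
(0,[],[]),
(4,[2973,10286,10288,10928,10894,11004,11006,11008,11010,11012,11014,11016,11018,11020,11022],[10211,2911,2653,4418,4420]),
(0,[],[]),
(0,[],[]),
(0,[],[]),
(0,[],[]),
(0,[],[]),
(0,[],[]),
(0,[],[]),
(0,[],[]),
(0,[],[]),
(0,[],[]),
(0,[],[]),
(0,[],[]),
(4,[2988,2990,440,3770,4448,4682,11032,11034,11036,11038,11040,11042,11044,11046,11048],[2987,2985,10584,11026,11030]),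
(0,[],[]),
(0,[],[]),
(0,[],[]),
(0,[],[]),
(0,[],[]),
(0,[],[]),
(0,[],[]),
(5,[3955,3953,3951,11054,11056,11058,11060,11062,11064],[3030,3032,3034,3664,3666,3668]),
(0,[],[]),
(0,[],[]),
(0,[],[]),
(0,[],[]),
(0,[],[]),
(0,[],[]),
(0,[],[]),
(0,[],[]),
(0,[],[]),
(0,[],[]),
(0,[],[]),
(0,[],[]),
(2,[11080,11086,11088,11090],[3170]),
(0,[],[]),
(0,[],[]),
(0,[],[]),
(0,[],[]),
(0,[],[]),
(3,[3172,3174,3176,11072,11074,11094,11096,11098,11100,11102],[11093]),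
(0,[],[]),
(0,[],[]),
(0,[],[]),
(0,[],[]),
(0,[],[]),
(0,[],[]),
(0,[],[]),
(0,[],[]),
(0,[],[]),
(0,[],[]),
(5,[11093,11105,11106,11108,11110,11112,11114,11116,11118,11120,11122,11124],[3172,11082,11084]),
(0,[],[]),
(2,[11072,11078,11128],[3178,3193]),
(0,[],[]),
(0,[],[]),
(0,[],[]),
(0,[],[]),
(0,[],[]),
(0,[],[]),
(0,[],[]),
(0,[],[]),
(0,[],[]),
(0,[],[]),
(0,[],[]),
(0,[],[]),
(4,[3177,3175,11082,11084,11127,11132,11134,11136,11138,11140,11142,11144,11146,11148,11150,11152,11154],[3178,3193,11131]),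
(2,[3184,3448,10020],[3208,3233]),
(0,[],[]),
(0,[],[]),
(0,[],[]),
(0,[],[]),
(0,[],[]),
(0,[],[]),
(4,[3183,3156,202,2488,2490,3216,9972,9999,10014,10016,11160,11162,11164,11166,11168,11170],[3208,3233,11159,10022]),
(0,[],[]),
(0,[],[]),
(2,[4561,11174,11176],[3188,11076]),
(0,[],[]),
(0,[],[]),
(0,[],[]),
(0,[],[]),
(0,[],[]),
(5,[3188,3190,11131,11157,11155,11180,11182,11184,11186,11188],[3187,3448,3450,3452,10515]),
(0,[],[]),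
(0,[],[]),
(0,[],[]),
(0,[],[]),
(0,[],[]),
(0,[],[]),
(0,[],[]),
(0,[],[]),
(0,[],[]),
(0,[],[]),
(0,[],[]),
(4,[3187,3448,10020,10022,10024,10026,11192,11194,11196,11198,11200,11202,11204,11206,11208,11210,11212],[3188,11076,11179]),
(0,[],[]),
(0,[],[]),
(0,[],[]),
(0,[],[]),
(0,[],[]),
(0,[],[]),
(3,[3210,3212,3214,11216,11218,11220,11222,11224,11226],[3233,3231]),
(0,[],[]),
(0,[],[]),
(0,[],[]),
(0,[],[]),
(0,[],[]),
(0,[],[]),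
(0,[],[]),
(0,[],[]),
(5,[3233,3231,3229,10456,11230,11232,11234,11236,11238,11240,11242,11244],[3210,4571,4569]),
(0,[],[]),
(0,[],[]),
(0,[],[]),
(0,[],[]),
(0,[],[]),
(0,[],[]),
(0,[],[]),
(0,[],[]),
(0,[],[]),
(0,[],[]),
(0,[],[]),
(0,[],[]),
(0,[],[]),
(0,[],[]),
(4,[3210,4571,11248,11250,11252,11254,11256,11258,11260,11262,11264,11266,11268,11270,11272,11274],[3233,11159,10021,3450]),
(0,[],[]),
(0,[],[]),
(0,[],[]),
(0,[],[]),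
(0,[],[]),
(0,[],[]),
(0,[],[]),
(0,[],[]),
(0,[],[]),
(0,[],[]),
(0,[],[]),
(0,[],[]),
(0,[],[]),
(0,[],[]),
(0,[],[]),
(0,[],[]),
(0,[],[]),
(0,[],[]),
(0,[],[]),
(0,[],[]),
(0,[],[]),
(3,[10013,11310,11312,11314,11316,11318],[3221,3219,9972,9999,9997]),
(2,[3224,3226,3228,11229],[10454,10571]),
(1,[11322],[]),
(1,[11325,11228],[]),
(1,[10568,11326],[]),
(1,[11328],[]),
(1,[11331,10567],[]),
(1,[3231,11332],[]),
(1,[11335],[]),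
(1,[11337,10565],[]),
(1,[11158,11338],[]),
(1,[11341],[]),
(1,[11343,10563],[]),
(1,[10020,11344],[]),
(1,[11347],[]),
(1,[11349,10561],[]),
(1,[3451,11350],[]),
(1,[11353],[]),
(1,[11355,10559],[]),
(1,[11276,11356],[]),
(1,[11358],[]),
(1,[11361,11276],[]),
(0,[],[]),
(2,[3236,3238,3240],[3630,3581,3579]),
(1,[11367],[]),
(1,[11369,3577],[]),
(1,[3243,11370],[]),
(1,[11369,3578],[]),
(1,[11373],[]),
(1,[11377,3575],[]),
(0,[],[]),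
(0,[],[]),
(0,[],[]),
(0,[],[]),
(0,[],[]),
(2,[3244,3246,9859,3472,10094],[11378]),
(1,[11390],[]),
(1,[11393,10096],[]),
(1,[11381,11394],[]),
(1,[11393,10095],[]),
(1,[3572,11398],[]),
(1,[11396],[]),
(1,[11403,11381],[]),
(1,[11403,11382],[]),
(1,[10099,11406],[]),
(1,[11400],[]),
(1,[11411,3572],[]),
(1,[11409],[]),
(1,[11415,11384],[]),
(0,[],[]),
(0,[],[]),
(0,[],[]),
(0,[],[]),
(0,[],[]),
(0,[],[]),
(0,[],[]),
(0,[],[]),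
(0,[],[]),
(0,[],[]),
(0,[],[]),
(4,[3243,11374,3580,10844,10846,11420,11422,11424,11426,11428,11430,11432,11434,11436,11438],[11378,11413,3473,9856,9826]),
(0,[],[]),
(0,[],[]),
(0,[],[]),
(0,[],[]),
(0,[],[]),
(0,[],[]),
(4,[3248,3250,2432,2520,2522,9890,10028,10059,10060,10062,11444,11446,11448,11450,11452],[3247,3245,11378,11405,11418]),
(0,[],[]),
(0,[],[]),
(0,[],[]),
(0,[],[]),
(3,[3270,3272,269,3274,3276,3361,11456,11458,11460,11462],[4741]),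
(0,[],[]),
(0,[],[]),
(0,[],[]),
(0,[],[]),
(0,[],[]),
(0,[],[]),
(0,[],[]),
(0,[],[]),
(0,[],[]),
(5,[4741,11465,11466,11468,11470,11472,11474,11476,11478,11480,11482],[3270,3362,3688,3690]),
(0,[],[]),
(0,[],[]),
(0,[],[]),
(0,[],[]),
(0,[],[]),
(3,[10553,11486,11488,11490,11492,11494],[3425,3423,10482,3459,3457]),
(0,[],[])]
theorem ok22 : data.stepsOK st22 5500 = true := by decide +kernel
def st23 : List Step := [(0,[],[]),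
(0,[],[]),
(0,[],[]),
(0,[],[]),
(0,[],[]),
(0,[],[]),
(0,[],[]),
(0,[],[]),
(0,[],[]),
(0,[],[]),
(5,[11363,11498,11504,11506,11508,11510,11512,11514,11516,11518],[3451,10020,10022,10024,11364]),
(0,[],[]),
(0,[],[]),
(0,[],[]),
(0,[],[]),
(0,[],[]),
(0,[],[]),
(0,[],[]),
(0,[],[]),
(0,[],[]),
(0,[],[]),
(0,[],[]),
(0,[],[]),
(0,[],[]),
(4,[11497,11495,11502,11524,11526,11528,11530,11532,11534,11536,11538,11540,11542,11544,11546],[3455,3453,11363,11498,11504]),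
(0,[],[]),
(0,[],[]),
(0,[],[]),
(0,[],[]),
(0,[],[]),
(0,[],[]),
(0,[],[]),
(0,[],[]),
(0,[],[]),
(0,[],[]),
(4,[3459,10554,10556,11498,11500,11550,11552,11554,11556,11558,11560,11562,11564,11566,11568],[10483,3421,2803,9759,10168]),
(0,[],[]),
(0,[],[]),
(0,[],[]),
(0,[],[]),
(0,[],[]),
(0,[],[]),
(0,[],[]),
(0,[],[]),
(0,[],[]),
(0,[],[]),
(0,[],[]),
(0,[],[]),
(0,[],[]),
(4,[3474,3476,3478,11574,11576,11578,11580,11582,11584,11586,11588,11590,11592,11594,11596],[3473,9858,3247,9864,9866]),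
(0,[],[]),
(0,[],[]),
(2,[3498,11600,11602],[3524,3559]),
(0,[],[]),
(0,[],[]),
(0,[],[]),
(0,[],[]),
(0,[],[]),
(0,[],[]),
(0,[],[]),
(0,[],[]),
(0,[],[]),
(0,[],[]),
(0,[],[]),
(4,[3497,3486,246,3519,3517,3526,11606,11608,11610,11612,11614,11616,11618,11620,11622,11624,11626],[3524,3559,11605]),
(6,[3497,3486,245,3464,2636,2439,237,124,207,394,396,3202,3182,3184,3186,4561,11174,11176,11215,11278],[3524,3559,11605,11629]),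
(1,[11631],[]),
(1,[11633,11628],[]),
(0,[],[]),
(0,[],[]),
(2,[10867,10888,11638],[3596,11636]),
(0,[],[]),
(0,[],[]),
(0,[],[]),
(0,[],[]),
(0,[],[]),
(0,[],[]),
(0,[],[]),
(0,[],[]),
(0,[],[]),
(0,[],[]),
(0,[],[]),
(4,[3627,2962,4036,4038,4040,4042,11642,11644,11646,11648,11650,11652,11654,11656,11658,11660,11662],[3596,11636,11641]),
(0,[],[]),
(0,[],[]),
(2,[10848,11666,11668],[3636,10917]),
(0,[],[]),
(0,[],[]),
(0,[],[]),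
(0,[],[]),
(0,[],[]),
(0,[],[]),
(0,[],[]),
(0,[],[]),
(0,[],[]),
(4,[3635,3633,2960,3626,10867,10888,11638,11665,11672,11674,11676,11678,11680,11682,11684,11686,11688],[3636,10917,11671]),
(2,[3668,3670,3672],[4153,4151]),
(0,[],[]),
(0,[],[]),
(0,[],[]),
(0,[],[]),
(0,[],[]),
(0,[],[]),
(0,[],[]),
(0,[],[]),
(0,[],[]),
(0,[],[]),
(4,[3667,4060,4062,4101,4099,11070,11694,11696,11698,11700,11702,11704,11706,11708,11710,11712],[4153,4151,11693,3674]),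
(0,[],[]),
(0,[],[]),
(0,[],[]),
(0,[],[]),
(0,[],[]),
(3,[11067,11716,11718,11720,11722,11724],[3669,3667,4060,4085,4083]),
(0,[],[]),
(0,[],[]),
(0,[],[]),
(0,[],[]),
(0,[],[]),
(0,[],[]),
(0,[],[]),
(0,[],[]),
(0,[],[]),
(0,[],[]),
(0,[],[]),
(0,[],[]),
(0,[],[]),
(0,[],[]),
(0,[],[]),
(5,[11715,11736,11738,11740,11742,11744,11746,11748,11750,11752,11754,11756],[3675,11692,4149]),
(0,[],[]),
(0,[],[]),
(0,[],[]),
(0,[],[]),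
(0,[],[]),
(0,[],[]),
(0,[],[]),
(0,[],[]),
(0,[],[]),
(0,[],[]),
(0,[],[]),
(0,[],[]),
(0,[],[]),
(4,[11485,11483,11764,11766,11768,11770,11772,11774,11776,11778,11780,11782,11784],[3691,3731,3729,3727,3725,3723,5803]),
(0,[],[]),
(2,[4684,5220,11788],[3698,6177]),
(0,[],[]),
(0,[],[]),
(0,[],[]),
(0,[],[]),
(0,[],[]),
(0,[],[]),
(0,[],[]),
(0,[],[]),
(0,[],[]),
(0,[],[]),
(0,[],[]),
(4,[3697,540,726,3704,4711,6146,11792,11794,11796,11798,11800,11802,11804,11806,11808,11810,11812],[3698,6177,11791]),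
(0,[],[]),
(0,[],[]),
(0,[],[]),
(0,[],[]),
(0,[],[]),
(3,[3718,5516,11816,11818,11820,11822,11824],[3717,671,5131,5129]),
(0,[],[]),
(0,[],[]),
(0,[],[]),
(0,[],[]),
(0,[],[]),
(0,[],[]),
(0,[],[]),
(0,[],[]),
(5,[5516,11816,11828,11830,11832,11834,11836,11838,11840,11842],[3719,4202,4204,4206,5512]),
(0,[],[]),
(0,[],[]),
(0,[],[]),
(3,[5803,11787,11846,11848,11850],[3721,3719,4202,4204,5518,5520]),
(0,[],[]),
(0,[],[]),
(0,[],[]),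
(0,[],[]),
(0,[],[]),
(0,[],[]),
(0,[],[]),
(0,[],[]),
(2,[4448,4682,11032,11868],[3772]),
(6,[3771,442,444,392,277,8,10,12,14,357,512,544,595,673,671,5131,5828,5830,5883,5902],[3772,11871,11869,11034]),
(1,[11873],[]),
(1,[11875,11036],[]),
(1,[5905,11876],[]),
(1,[11879],[]),
(1,[11881,11038],[]),
(0,[],[]),
(0,[],[]),
(0,[],[]),
(0,[],[]),
(0,[],[]),
(0,[],[]),
(3,[3979,11886,11888,11890,11892,11894],[3795,3793,3818,3839,3837]),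
(2,[3826,3828,3830],[5006,4877,4875]),
(1,[11899],[]),
(1,[11901,4873],[]),
(1,[3833,11902],[]),
(1,[11905],[]),
(1,[11907,4871],[]),
(2,[3834,3836,3980,3982,3984],[11908]),
(1,[11911],[]),
(1,[11913,11909],[]),
(1,[11913,4869],[]),
(1,[3984,11916],[]),
(1,[11919],[]),
(1,[11921,4867],[]),
(1,[4637,11922],[]),
(1,[11925],[]),
(1,[11927,4865],[]),
(0,[],[]),
(0,[],[]),
(0,[],[]),
(0,[],[]),
(0,[],[]),
(0,[],[]),
(0,[],[]),
(4,[3838,3820,3822,282,3756,3840,3842,3873,11862,11864,11934,11936,11938,11940,11942],[3837,3835,11915,3986,11930]),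
(0,[],[]),
(0,[],[]),
(0,[],[]),
(0,[],[]),
(0,[],[]),
(0,[],[]),
(0,[],[]),
(0,[],[]),
(4,[3956,3958,3960,11946,11948,11950,11952,11954,11956,11958,11960],[3849,3788,332,334,3659,4035,4059,4057,4055]),
(0,[],[]),
(0,[],[]),
(0,[],[]),
(0,[],[]),
(0,[],[]),
(0,[],[]),
(0,[],[]),
(0,[],[]),
(0,[],[]),
(5,[3851,3956,4029,11884,11964,11966,11968,11970,11972,11974,11976,11978,11980],[3852,3854]),
(0,[],[]),
(0,[],[]),
(0,[],[]),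
(0,[],[]),
(0,[],[]),
(0,[],[]),
(0,[],[]),
(0,[],[])]
theorem ok23 : data.stepsOK st23 5750 = true := by decide +kernel
end

end Cube
end HN
end H23
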