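import Mathlib
import Cfsg.Agent.H23.HN.Cube.Data

/-!
A derivation that a word fixes the first coset (generated data).
-/

set_option autoImplicit false
set_option maxRecDepth 100000
set_option linter.all false
set_option Elab.async false

namespace H23
namespace HN
namespace Cube

open H93.CosetI

noncomputable section

def st24 : List Step := [(0,[],[]),
(0,[],[]),
(0,[],[]),
(0,[],[]),
(4,[11983,11981,11984,11986,11988,11990,11992,11994,11996,11998,12000,12002,12004,12006],[3855,4005,4003,4001,3999,3997]),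
(0,[],[]),
(0,[],[]),
(0,[],[]),
(0,[],[]),
(0,[],[]),
(0,[],[]),
(0,[],[]),
(0,[],[]),
(0,[],[]),
(0,[],[]),
(0,[],[]),
(0,[],[]),
(0,[],[]),
(0,[],[]),
(2,[10356,12020],[3892,10187,10341]),
(0,[],[]),
(0,[],[]),
(0,[],[]),
(0,[],[]),
(0,[],[]),
(0,[],[]),
(0,[],[]),
(4,[3894,2730,2732,2734,2736,2738,10384,10411,10437,12040,12042,12044,12046,12048,12050,12052],[10187,10341,12039,12022]),
(2,[10342,10388],[3904,10188,10383]),
(6,[3906,2666,2668,2640,2642,213,133,3,1,120,122,124,207,394,2519,2517,4478,9976,9978,9980,11308],[10188,10383,12057]),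
(1,[12058],[]),
(1,[12061,11309],[]),
(1,[10391,12062],[]),
(1,[12064],[]),
(1,[12067,10391],[]),
(0,[],[]),
(2,[3988,3990,12070],[11930,11945]),
(0,[],[]),
(0,[],[]),
(0,[],[]),
(0,[],[]),
(0,[],[]),
(0,[],[]),
(0,[],[]),
(0,[],[]),
(0,[],[]),
(0,[],[]),
(0,[],[]),
(4,[3987,11914,3834,11897,11895,11932,12074,12076,12078,12080,12082,12084,12086,12088,12090,12092,12094],[11930,11945,12073]),
(0,[],[]),
(0,[],[]),
(2,[3994,3996,3998,12010,12012,12014],[]),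
(1,[12102],[]),
(1,[12105,12016],[]),
(1,[3992,12106],[]),
(1,[12105,12015],[]),
(1,[12099,12110],[]),
(1,[12109],[]),
(1,[12115,12018],[]),
(1,[12071,12116],[]),
(1,[12112],[]),
(1,[12121,12100],[]),
(1,[12121,12099],[]),
(1,[12118],[]),
(1,[12127,12097],[]),
(1,[12127,12071],[]),
(0,[],[]),
(0,[],[]),
(0,[],[]),
(0,[],[]),
(0,[],[]),
(0,[],[]),
(0,[],[]),
(0,[],[]),
(0,[],[]),
(0,[],[]),
(5,[12125,12122,12132,12134,12136,12138,12140,12142,12144,12146,12148,12150],[3993,12131,12128]),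
(0,[],[]),
(0,[],[]),
(0,[],[]),
(0,[],[]),
(3,[12009,12007,12154,12156,12158,12160],[3995,3993,12131,12128,12095]),
(2,[4040,4042,11642],[10887,10885]),
(0,[],[]),
(0,[],[]),
(0,[],[]),
(0,[],[]),
(0,[],[]),
(0,[],[]),
(0,[],[]),
(0,[],[]),
(4,[4039,10868,3686,3634,10848,11666,11668,11691,12166,12168,12170,12172,12174,12176,12178,12180],[10887,10885,12165,11644]),
(0,[],[]),
(0,[],[]),
(0,[],[]),
(0,[],[]),
(0,[],[]),
(0,[],[]),
(0,[],[]),
(0,[],[]),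
(0,[],[]),
(0,[],[]),
(0,[],[]),
(5,[4043,10951,11760,11762,12188,12190,12192,12194,12196,12198,12200,12202,12204],[4044,4046]),
(0,[],[]),
(2,[4046,4048,4050,12208],[12186]),
(0,[],[]),
(0,[],[]),
(0,[],[]),
(0,[],[]),
(0,[],[]),
(0,[],[]),
(0,[],[]),
(0,[],[]),
(0,[],[]),
(0,[],[]),
(0,[],[]),
(4,[4045,11642,12164,10883,12212,12214,12216,12218,12220,12222,12224,12226,12228,12230,12232],[12186,12211,12209,4052,11963]),
(0,[],[]),
(0,[],[]),
(0,[],[]),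
(0,[],[]),
(0,[],[]),
(3,[12207,12236,12238,12240,12242,12244],[4047,4045,11642,11644,12183]),
(2,[4054,4056,4066,4068,11052],[11963]),
(1,[12249],[]),
(1,[12251,12235],[]),
(1,[11052,12252],[]),
(1,[12255],[]),
(1,[12257,12233],[]),
(1,[4071,12258],[]),
(1,[12261],[]),
(1,[12263,12231],[]),
(0,[],[]),
(0,[],[]),
(0,[],[]),
(0,[],[]),
(2,[4072,4074,4076],[12264,12229,12227]),
(1,[12275],[]),
(1,[12277,12225],[]),
(1,[4079,12278],[]),
(1,[12281],[]),
(1,[12283,12223],[]),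
(0,[],[]),
(0,[],[]),
(0,[],[]),
(0,[],[]),
(0,[],[]),
(0,[],[]),
(0,[],[]),
(0,[],[]),
(5,[4077,12272,12286,12288,12290,12292,12294,12296,12298,12300],[4078,4080,11727,11725,11723]),
(2,[4080,4082,10870,10872,11068],[12284]),
(1,[12305],[]),
(1,[12307,12285],[]),
(1,[12307,12221],[]),
(1,[11068,12310],[]),
(1,[12313],[]),
(1,[12315,12219],[]),
(1,[10875,12316],[]),
(1,[12319],[]),
(1,[12321,12217],[]),
(0,[],[]),
(0,[],[]),
(0,[],[]),
(0,[],[]),
(0,[],[]),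
(0,[],[]),
(0,[],[]),
(0,[],[]),
(0,[],[]),
(0,[],[]),
(0,[],[]),
(0,[],[]),
(4,[11727,11725,12324,12326,12328,12330,12332,12334,12336,12338,12340,12342,12344,12346],[4081,12309,11069,10874,12322,12215]),
(0,[],[]),
(0,[],[]),
(0,[],[]),
(0,[],[]),
(0,[],[]),
(0,[],[]),
(0,[],[]),
(0,[],[]),
(5,[4090,4092,12350,12352,12354,12356,12358,12360,12362,12364],[4089,4156,4158,4160,6104]),
(0,[],[]),
(0,[],[]),
(0,[],[]),
(2,[4142,4144,4146,11759],[12368]),
(0,[],[]),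
(0,[],[]),
(0,[],[]),
(0,[],[]),
(0,[],[]),
(0,[],[]),
(0,[],[]),
(0,[],[]),
(0,[],[]),
(0,[],[]),
(4,[4149,11759,12374,12370,12372,12376,12378,12380,12382,12384,12386,12388,12390,12392,12394],[11693,3673,3671,11067,11716]),
(2,[4160,4162,4164],[4223,4221]),
(0,[],[]),
(0,[],[]),
(0,[],[]),
(0,[],[]),
(0,[],[]),
(0,[],[]),
(0,[],[]),
(0,[],[]),
(0,[],[]),
(0,[],[]),
(4,[4159,4170,716,4201,4199,6134,12400,12402,12404,12406,12408,12410,12412,12414,12416,12418],[4223,4221,12399,4166]),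
(0,[],[]),
(0,[],[]),
(0,[],[]),
(0,[],[]),
(0,[],[]),
(0,[],[]),
(0,[],[]),
(0,[],[]),
(0,[],[]),
(0,[],[]),
(0,[],[]),
(0,[],[]),
(4,[6104,12367,12422,12424,12426,12428,12430,12432,12434,12436,12438,12440,12442,12444],[4161,4223,4221,4219,4217,4215]),
(0,[],[]),
(0,[],[]),
(0,[],[]),
(0,[],[]),
(0,[],[]),
(0,[],[]),
(0,[],[]),
(0,[],[]),
(0,[],[]),
(0,[],[]),
(0,[],[]),
(0,[],[]),
(0,[],[]),
(0,[],[]),
(5,[4165,5054,12448,12450,12458,12460,12462,12464,12466,12468,12470,12472,12474],[4166,4168]),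
(0,[],[]),
(0,[],[]),
(0,[],[]),
(0,[],[]),
(0,[],[]),
(0,[],[]),
(0,[],[]),
(0,[],[]),
(0,[],[]),
(0,[],[]),
(5,[12421,12456,12478,12480,12482,12484,12486,12488,12490,12492,12494,12496],[4167,12398,4219])]
theorem ok24 : data.stepsOK st24 6000 = true := by decide +kernel
def st25 : List Step := [(0,[],[]),
(0,[],[]),
(0,[],[]),
(0,[],[]),
(0,[],[]),
(3,[12477,12500,12502,12504,12506,12508],[4169,4167,12398,4219,4217]),
(2,[4206,4208,5860],[5518,5575]),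
(0,[],[]),
(0,[],[]),
(0,[],[]),
(0,[],[]),
(0,[],[]),
(0,[],[]),
(0,[],[]),
(0,[],[]),
(0,[],[]),
(0,[],[]),
(0,[],[]),
(0,[],[]),
(4,[5512,11845,12514,12516,12518,12520,12522,12524,12526,12528,12530,12532,12534,12536],[4207,5518,5575,5573,5571,5569]),
(0,[],[]),
(0,[],[]),
(0,[],[]),
(0,[],[]),
(0,[],[]),
(0,[],[]),
(0,[],[]),
(0,[],[]),
(0,[],[]),
(0,[],[]),
(0,[],[]),
(5,[4209,5512,5480,5482,12546,12548,12550,12552,12554,12556,12558,12560],[4210,4212,12447]),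
(0,[],[]),
(0,[],[]),
(0,[],[]),
(0,[],[]),
(0,[],[]),
(0,[],[]),
(0,[],[]),
(0,[],[]),
(0,[],[]),
(0,[],[]),
(4,[4210,4212,4214,12511,12509,12564,12566,12568,12570,12572,12574,12576,12578,12580,12582],[4209,4207,5518,5520,5522]),
(2,[4212,4214,4216,12499],[12540]),
(0,[],[]),
(0,[],[]),
(0,[],[]),
(0,[],[]),
(0,[],[]),
(0,[],[]),
(0,[],[]),
(0,[],[]),
(0,[],[]),
(4,[4211,5860,12512,5573,12590,12592,12594,12596,12598,12600,12602,12604],[12540,12587,12498,4218,12399,4165,5054,12448]),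
(0,[],[]),
(0,[],[]),
(0,[],[]),
(0,[],[]),
(0,[],[]),
(0,[],[]),
(0,[],[]),
(0,[],[]),
(0,[],[]),
(0,[],[]),
(0,[],[]),
(0,[],[]),
(0,[],[]),
(4,[12511,12509,12564,12610,12612,12614,12616,12618,12620,12622,12624,12626,12628,12630,12632],[4215,4213,12540,12542,12588]),
(0,[],[]),
(0,[],[]),
(0,[],[]),
(0,[],[]),
(0,[],[]),
(0,[],[]),
(0,[],[]),
(0,[],[]),
(0,[],[]),
(0,[],[]),
(4,[4219,12499,12586,12542,12544,12636,12638,12640,12642,12644,12646,12648,12650,12652,12654],[12399,4165,4163,6104,6106]),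
(0,[],[]),
(0,[],[]),
(0,[],[]),
(0,[],[]),
(0,[],[]),
(0,[],[]),
(2,[4744,12662],[4244,4457,4633]),
(0,[],[]),
(0,[],[]),
(0,[],[]),
(0,[],[]),
(0,[],[]),
(0,[],[]),
(0,[],[]),
(4,[4246,474,476,478,480,482,4774,4801,4859,12672,12674,12676,12678,12680,12682,12684],[4457,4633,12671,12664]),
(0,[],[]),
(0,[],[]),
(0,[],[]),
(0,[],[]),
(0,[],[]),
(0,[],[]),
(0,[],[]),
(0,[],[]),
(0,[],[]),
(0,[],[]),
(0,[],[]),
(0,[],[]),
(4,[4267,4396,4398,12688,12690,12692,12694,12696,12698,12700,12702,12704,12706,12708,12710],[4311,4309,373,4307,4336]),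
(0,[],[]),
(2,[4634,4778],[4280,4458,4773]),
(0,[],[]),
(0,[],[]),
(0,[],[]),
(0,[],[]),
(0,[],[]),
(0,[],[]),
(4,[4282,410,472,4247,4245,4744,12662,12664,12666,12668,12718,12720,12722,12724,12726,12728],[4458,4773,12717,4780]),
(6,[4282,410,412,390,392,277,7,5,132,134,298,2638,2669,2728,3895,3893,10356,12020,12022,12024],[4458,4773,12717,4780]),
(1,[12732],[]),
(1,[12735,12026],[]),
(1,[4783,12736],[]),
(1,[12735,12025],[]),
(1,[12730,12740],[]),
(1,[12739],[]),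
(1,[12745,12028],[]),
(1,[4785,12746],[]),
(1,[12742],[]),
(1,[12751,12730],[]),
(1,[12751,12729],[]),
(1,[12054,12754],[]),
(1,[12749],[]),
(1,[12759,12030],[]),
(1,[4787,12760],[]),
(1,[12757],[]),
(1,[12765,12727],[]),
(1,[12763],[]),
(1,[12769,12032],[]),
(1,[4789,12770],[]),
(1,[12773],[]),
(1,[12775,12034],[]),
(1,[4791,12776],[]),
(1,[12779],[]),
(1,[12781,12036],[]),
(0,[],[]),
(0,[],[]),
(0,[],[]),
(0,[],[]),
(0,[],[]),
(0,[],[]),
(0,[],[]),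
(0,[],[]),
(0,[],[]),
(0,[],[]),
(0,[],[]),
(0,[],[]),
(0,[],[]),
(0,[],[]),
(0,[],[]),
(5,[4367,4365,12796,12798,12800,12802,12804,12806,12808,12810,12812],[4302,4348,4350,4352]),
(0,[],[]),
(0,[],[]),
(0,[],[]),
(0,[],[]),
(0,[],[]),
(2,[4348,12784],[4304,4336,12713]),
(0,[],[]),
(0,[],[]),
(0,[],[]),
(0,[],[]),
(0,[],[]),
(0,[],[]),
(0,[],[]),
(0,[],[]),
(0,[],[]),
(0,[],[]),
(4,[4306,372,4308,4335,4395,4742,12828,12830,12832,12834,12836,12838,12840,12842,12844,12846],[4336,12713,12827,12786]),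
(0,[],[]),
(0,[],[]),
(0,[],[]),
(0,[],[]),
(0,[],[]),
(0,[],[]),
(0,[],[]),
(0,[],[]),
(0,[],[]),
(5,[12792,12794,12850,12852,12854,12856,12858,12860,12862,12864,12866],[4351,12784,12786,12788]),
(0,[],[]),
(0,[],[]),
(0,[],[]),
(0,[],[]),
(0,[],[]),
(3,[12815,12870,12872,12874,12876,12878],[4353,4351,12784,12786,12849]),
(0,[],[]),
(2,[10209,10226,12882],[4420,11025]),
(0,[],[]),
(0,[],[]),
(0,[],[]),
(0,[],[]),
(0,[],[]),
(0,[],[]),
(0,[],[]),
(0,[],[]),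
(4,[4419,2652,2910,2912,2914,2916,10696,10725,10795,12886,12888,12890,12892,12894,12896,12898,12900],[4420,11025,12885]),
(6,[4419,2652,2654,2656,2658,2660,2662,2664,3907,3905,10342,10388,12069,9982,9984,9986,9988,9990,9992,9994,11321,11319],[4420,11025]),
(1,[12904],[]),
(1,[12907,11318],[]),
(1,[12884,12908],[]),
(1,[12910],[]),
(1,[12913,12903],[]),
(1,[11321,12914],[]),
(1,[12913,12884],[]),
(1,[12917],[]),
(1,[12921,12901],[]),
(1,[9994,12922],[]),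
(1,[12925],[]),
(1,[12927,12899],[]),
(0,[],[]),
(0,[],[]),
(0,[],[]),
(0,[],[]),
(0,[],[]),
(0,[],[]),
(3,[4422,10258,10260,12930,12932,12934,12936,12938,12940],[11025,11023]),
(0,[],[]),
(0,[],[]),
(0,[],[]),
(0,[],[]),
(0,[],[]),
(0,[],[]),
(0,[],[]),
(0,[],[]),
(0,[],[]),
(0,[],[]),
(0,[],[]),
(5,[10843,12946,12948,12950,12952,12954,12956,12958,12960,12962,12964],[4445,9700,9702,9704]),
(0,[],[]),
(0,[],[]),
(0,[],[]),
(0,[],[]),
(0,[],[]),
(3,[9655,12968,12970,12972,12974,12976],[4447,4445,9700,9702,9737]),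
(0,[],[]),
(0,[],[]),
(0,[],[]),
(0,[],[]),
(0,[],[]),
(0,[],[]),
(2,[4566,11247,11296,11298],[4572]),
(0,[],[]),
(0,[],[]),
(0,[],[])]
theorem ok25 : data.stepsOK st25 6250 = true := by decide +kernel
def st26 : List Step := [(0,[],[]),
(0,[],[]),
(0,[],[]),
(0,[],[]),
(4,[4565,4563,4501,4499,4497,12982,12984,12986,12988,12990,12994,12996,12998,13000,13002,13004,13006],[4572,12993,11299]),
(0,[],[]),
(0,[],[]),
(0,[],[]),
(0,[],[]),
(0,[],[]),
(0,[],[]),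
(3,[4574,4576,4578,13012,13014,13016,13018,13020],[12993,11300,11302]),
(0,[],[]),
(0,[],[]),
(0,[],[]),
(0,[],[]),
(0,[],[]),
(0,[],[]),
(0,[],[]),
(0,[],[]),
(0,[],[]),
(0,[],[]),
(0,[],[]),
(0,[],[]),
(0,[],[]),
(0,[],[]),
(0,[],[]),
(0,[],[]),
(5,[5291,5289,13038,13040,13042,13044,13046,13048,13050,13052,13054],[4662,5258,5260,5262]),
(0,[],[]),
(0,[],[]),
(0,[],[]),
(0,[],[]),
(2,[5258,13058],[4664,4693,5033]),
(0,[],[]),
(0,[],[]),
(0,[],[]),
(0,[],[]),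
(0,[],[]),
(0,[],[]),
(0,[],[]),
(4,[4666,570,572,574,576,578,5320,5347,5399,13068,13070,13072,13074,13076,13078,13080],[4693,5033,13067,13060]),
(0,[],[]),
(2,[5034,5324],[4678,4694,5317]),
(0,[],[]),
(0,[],[]),
(0,[],[]),
(0,[],[]),
(0,[],[]),
(0,[],[]),
(4,[4680,496,568,4667,4665,5258,13058,13060,13062,13064,13088,13090,13092,13094,13096,13098],[4694,5317,13087,5326]),
(6,[4680,496,498,448,450,274,11,358,360,362,364,366,368,370,4307,4305,4348,12784,12786,12788,12869,12867],[4694,5317]),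
(1,[13102],[]),
(1,[13105,12866],[]),
(1,[13086,13106],[]),
(1,[13109],[]),
(1,[13111,12868],[]),
(1,[5327,13112],[]),
(1,[13115],[]),
(1,[13117,12790],[]),
(1,[5329,13118],[]),
(1,[13117,12789],[]),
(1,[13100,13122],[]),
(1,[13121],[]),
(1,[13127,12816],[]),
(1,[5331,13128],[]),
(1,[13124],[]),
(1,[13133,13100],[]),
(1,[13131],[]),
(1,[13137,12818],[]),
(1,[5333,13138],[]),
(1,[13141],[]),
(1,[13143,12820],[]),
(1,[5335,13144],[]),
(1,[13147],[]),
(1,[13149,12822],[]),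
(1,[5337,13150],[]),
(1,[13153],[]),
(1,[13155,12824],[]),
(0,[],[]),
(0,[],[]),
(0,[],[]),
(0,[],[]),
(0,[],[]),
(0,[],[]),
(0,[],[]),
(0,[],[]),
(5,[4688,4690,5033,5031,5029,13162,13164,13166,13168,13170,13172],[4687,5220,5222,5224]),
(0,[],[]),
(0,[],[]),
(0,[],[]),
(0,[],[]),
(0,[],[]),
(0,[],[]),
(0,[],[]),
(0,[],[]),
(0,[],[]),
(0,[],[]),
(0,[],[]),
(4,[4691,4689,5201,5199,5197,13178,13180,13182,13184,13186,13188,13190,13192,13194,13196],[5033,13067,13059,5260,13034]),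
(0,[],[]),
(0,[],[]),
(0,[],[]),
(0,[],[]),
(0,[],[]),
(0,[],[]),
(0,[],[]),
(0,[],[]),
(5,[12658,12660,13200,13202,13204,13206,13208,13210,13212,13214],[4747,12662,12664,12666,13030]),
(2,[4782,4784,12714],[12753,12055,12053]),
(1,[13218],[]),
(1,[13221,12715],[]),
(0,[],[]),
(0,[],[]),
(2,[4788,4790,4792,13226],[13224]),
(0,[],[]),
(0,[],[]),
(0,[],[]),
(0,[],[]),
(0,[],[]),
(0,[],[]),
(0,[],[]),
(0,[],[]),
(0,[],[]),
(0,[],[]),
(0,[],[]),
(0,[],[]),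
(4,[4787,13223,12052,12766,13230,13232,13234,13236,13238,13240,13242,13244,13246,13248,13250,13252],[13224,13229,13227,4794]),
(0,[],[]),
(0,[],[]),
(0,[],[]),
(0,[],[]),
(0,[],[]),
(0,[],[]),
(0,[],[]),
(0,[],[]),
(0,[],[]),
(0,[],[]),
(0,[],[]),
(5,[4793,12782,13256,13258,13266,13268,13270,13272,13274,13276],[4794,4796,4897,4895,4893]),
(2,[4796,4798,4859,12672,13024],[13255]),
(1,[13281],[]),
(1,[13283,13260],[]),
(1,[13027,13284],[]),
(1,[13283,13254],[]),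
(1,[13283,13253],[]),
(1,[13024,13290],[]),
(1,[13287],[]),
(1,[13295,13262],[]),
(1,[13029,13296],[]),
(1,[13293],[]),
(1,[13301,13251],[]),
(1,[12675,13302],[]),
(1,[13299],[]),
(1,[13307,13264],[]),
(1,[13305],[]),
(1,[13311,13249],[]),
(0,[],[]),
(0,[],[]),
(0,[],[]),
(0,[],[]),
(6,[4800,4776,4645,4860,4862,11929,4637,3984,3986,3988,3990,12131,12128,12153,12151,12149],[4799,4797,13289,13026,13314,13316,13318]),
(2,[4806,5012,5014],[4838,4963]),
(0,[],[]),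
(0,[],[]),
(0,[],[]),
(0,[],[]),
(0,[],[]),
(0,[],[]),
(0,[],[]),
(0,[],[]),
(0,[],[]),
(0,[],[]),
(4,[4805,4803,486,4827,4825,4898,13326,13328,13330,13332,13334,13336,13338,13340,13342,13344],[4838,4963,13325,5016]),
(0,[],[]),
(0,[],[]),
(0,[],[]),
(0,[],[]),
(0,[],[]),
(0,[],[]),
(0,[],[]),
(2,[13350,13356,13358,13360],[4816]),
(0,[],[]),
(0,[],[]),
(0,[],[]),
(0,[],[]),
(0,[],[]),
(3,[4818,4820,4822,4898,4900,13364,13366,13368,13370,13372],[13363]),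
(0,[],[]),
(0,[],[]),
(0,[],[]),
(0,[],[]),
(0,[],[]),
(0,[],[]),
(0,[],[]),
(0,[],[]),
(0,[],[]),
(0,[],[]),
(5,[13363,13375,13376,13378,13380,13382,13384,13386,13388,13390,13392,13394],[4818,13352,13354]),
(0,[],[]),
(0,[],[]),
(0,[],[]),
(0,[],[]),
(0,[],[]),
(0,[],[]),
(0,[],[]),
(0,[],[]),
(0,[],[]),
(0,[],[]),
(0,[],[]),
(0,[],[]),
(0,[],[]),
(5,[4933,4931,13406,13408,13410,13412,13414,13416,13418,13420,13422],[4822,4898,4900,4902]),
(0,[],[]),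
(0,[],[]),
(0,[],[]),
(0,[],[]),
(2,[4898,13326],[4824,4886,5279,5277]),
(1,[13434],[]),
(1,[13437,13328],[]),
(1,[5274,13438],[]),
(1,[13437,13327],[]),
(1,[13441],[]),
(1,[13445,13330],[]),
(0,[],[]),
(0,[],[]),
(0,[],[]),
(0,[],[]),
(0,[],[]),
(0,[],[]),
(0,[],[]),
(0,[],[]),
(0,[],[]),
(0,[],[]),
(0,[],[]),
(0,[],[]),
(4,[4823,4821,13352,13354,13397,13448,13450,13452,13454,13456,13458,13460,13462,13464,13466,13468,13470],[4824,4886,5279]),
(0,[],[]),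
(0,[],[]),
(0,[],[]),
(0,[],[]),
(0,[],[]),
(0,[],[]),
(3,[4888,4934,4936,13474,13476,13478,13480,13482,13484],[5279,13473]),
(0,[],[]),
(0,[],[]),
(0,[],[]),
(0,[],[]),
(0,[],[]),
(0,[],[])]
theorem ok26 : data.stepsOK st26 6500 = true := by decide +kernel
def st27 : List Step := [(0,[],[]),
(0,[],[]),
(0,[],[]),
(0,[],[]),
(4,[4888,4890,13279,13277,13275,13488,13490,13492,13494,13496,13498,13500,13502,13504,13506],[5279,5277,13442,4900,13364]),
(0,[],[]),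
(0,[],[]),
(2,[4890,13279,13510,13512],[4934]),
(0,[],[]),
(0,[],[]),
(0,[],[]),
(0,[],[]),
(0,[],[]),
(0,[],[]),
(0,[],[]),
(4,[4889,4887,4825,4823,4821,13352,13398,13400,13402,13404,13516,13518,13520,13522,13524,13526,13528],[4934,13515,13513]),
(0,[],[]),
(0,[],[]),
(0,[],[]),
(0,[],[]),
(0,[],[]),
(0,[],[]),
(0,[],[]),
(0,[],[]),
(0,[],[]),
(0,[],[]),
(0,[],[]),
(0,[],[]),
(0,[],[]),
(0,[],[]),
(0,[],[]),
(4,[4892,13320,13532,13534,13536,13538,13540,13542,13544,13546,13548,13550,13552,13554,13556,13558,13560],[4891,4934,13515]),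
(0,[],[]),
(2,[13320,13532,13564],[4894,13032]),
(0,[],[]),
(0,[],[]),
(6,[4896,4798,4800,4776,4646,4611,479,4598,407,4538,3148,3207,399,3202,3182,3184,3448,10020,10022,10024,11364,11521],[13032,13567]),
(1,[13573],[]),
(1,[13575,13565],[]),
(1,[11521,13576],[]),
(1,[13579],[]),
(1,[13581,13534],[]),
(1,[11364,13582],[]),
(1,[13585],[]),
(1,[13587,13536],[]),
(1,[10027,13588],[]),
(1,[13591],[]),
(1,[13593,13538],[]),
(1,[11193,13594],[]),
(1,[13597],[]),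
(1,[13599,13540],[]),
(0,[],[]),
(0,[],[]),
(0,[],[]),
(0,[],[]),
(0,[],[]),
(0,[],[]),
(0,[],[]),
(0,[],[]),
(4,[4900,4902,4904,13602,13604,13606,13608,13610,13612,13614,13616],[4899,4824,4886,4888,4934,13515,13563,13561,13559]),
(2,[4902,4904,4906],[13364,13509]),
(0,[],[]),
(0,[],[]),
(0,[],[]),
(0,[],[]),
(0,[],[]),
(0,[],[]),
(0,[],[]),
(0,[],[]),
(0,[],[]),
(0,[],[]),
(0,[],[]),
(4,[4901,13443,5276,13473,13487,13622,13624,13626,13628,13630,13632,13634,13636,13638,13640,13642],[13364,13509,13621,4908]),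
(0,[],[]),
(0,[],[]),
(0,[],[]),
(0,[],[]),
(0,[],[]),
(0,[],[]),
(0,[],[]),
(0,[],[]),
(0,[],[]),
(0,[],[]),
(0,[],[]),
(0,[],[]),
(0,[],[]),
(5,[4905,13425,13646,13648,13654,13656,13658,13660,13662,13664,13666,13668,13670],[13602,13604]),
(0,[],[]),
(0,[],[]),
(0,[],[]),
(0,[],[]),
(0,[],[]),
(3,[4908,13645,13674,13676,13678,13680,13682],[4907,13602,13604,13673]),
(0,[],[]),
(0,[],[]),
(0,[],[]),
(0,[],[]),
(0,[],[]),
(0,[],[]),
(0,[],[]),
(0,[],[]),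
(0,[],[]),
(5,[4907,13602,13650,13652,13686,13688,13690,13692,13694,13696,13698,13700,13702],[4908,4910]),
(0,[],[]),
(2,[4910,4912,13706],[13645,13643]),
(0,[],[]),
(0,[],[]),
(0,[],[]),
(0,[],[]),
(0,[],[]),
(0,[],[]),
(0,[],[]),
(0,[],[]),
(0,[],[]),
(0,[],[]),
(0,[],[]),
(0,[],[]),
(0,[],[]),
(4,[4909,13620,13508,13366,13368,13712,13714,13716,13718,13720,13722,13724,13726,13728,13730,13732,13734],[13645,13643,13709]),
(0,[],[]),
(0,[],[]),
(0,[],[]),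
(0,[],[]),
(0,[],[]),
(0,[],[]),
(0,[],[]),
(0,[],[]),
(0,[],[]),
(0,[],[]),
(0,[],[]),
(0,[],[]),
(0,[],[]),
(0,[],[]),
(0,[],[]),
(4,[4914,4916,4918,13744,13746,13748,13750,13752,13754,13756,13758,13760,13762,13764,13766],[4913,4911,13645,13674,13710]),
(0,[],[]),
(0,[],[]),
(0,[],[]),
(0,[],[]),
(0,[],[]),
(0,[],[]),
(0,[],[]),
(0,[],[]),
(0,[],[]),
(0,[],[]),
(5,[13740,13742,13770,13772,13774,13776,13778,13780,13782,13784,13786,13788],[4915,13706,13737]),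
(0,[],[]),
(0,[],[]),
(0,[],[]),
(0,[],[]),
(0,[],[]),
(0,[],[]),
(0,[],[]),
(0,[],[]),
(0,[],[]),
(0,[],[]),
(0,[],[]),
(4,[5010,5318,13796,13798,13800,13802,13804,13806,13808,13810,13812],[5047,5323,5321,580,5348,5377,5469,5467,5465]),
(2,[5018,5020,13348],[13347,13345]),
(0,[],[]),
(2,[5024,5026,5028,13176],[13818]),
(0,[],[]),
(0,[],[]),
(0,[],[]),
(0,[],[]),
(0,[],[]),
(0,[],[]),
(0,[],[]),
(4,[5023,13348,13816,13343,13822,13824,13826,13828,13830,13832,13834],[13818,13821,13177,5030,13067,13059,5260,13034,13199]),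
(0,[],[]),
(0,[],[]),
(0,[],[]),
(0,[],[]),
(0,[],[]),
(0,[],[]),
(0,[],[]),
(0,[],[]),
(3,[5093,5091,5226,13846,13848,13850,13852],[5051,5069,5106,5719]),
(0,[],[]),
(2,[5056,5058,5060],[12448,12607,12605]),
(1,[13859],[]),
(1,[13861,12603],[]),
(1,[5063,13862],[]),
(1,[13865],[]),
(1,[13867,12601],[]),
(2,[5064,5066,5106,5108,5110],[13868]),
(1,[13871],[]),
(1,[13873,13869],[]),
(1,[13873,12599],[]),
(1,[5110,13876],[]),
(1,[13879],[]),
(1,[13881,12597],[]),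
(1,[5565,13882],[]),
(1,[13885],[]),
(1,[13887,12595],[]),
(0,[],[]),
(0,[],[]),
(0,[],[]),
(0,[],[]),
(0,[],[]),
(0,[],[]),
(0,[],[]),
(0,[],[]),
(0,[],[]),
(0,[],[]),
(0,[],[]),
(0,[],[]),
(4,[5731,5729,13890,13892,13894,13896,13898,13900,13902,13904,13906,13908,13910,13912],[5065,13875,5111,5564,13888,12593]),
(0,[],[]),
(0,[],[]),
(0,[],[]),
(0,[],[]),
(0,[],[]),
(0,[],[]),
(0,[],[]),
(0,[],[]),
(5,[5109,5719,13855,13853,13916,13918,13920,13922,13924,13926,13928,13930],[5564,5566,12539]),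
(0,[],[]),
(0,[],[]),
(0,[],[]),
(0,[],[]),
(0,[],[]),
(0,[],[]),
(0,[],[]),
(0,[],[]),
(0,[],[]),
(0,[],[]),
(0,[],[]),
(0,[],[]),
(4,[5564,5566,5568,13934,13936,13938,13940,13942,13944,13946,13948,13950,13952,13954,13956],[5109,5107,5067,5731,13856]),
(0,[],[]),
(0,[],[]),
(0,[],[]),
(0,[],[]),
(2,[5804,5806,13966],[5126,11827]),
(0,[],[]),
(0,[],[]),
(0,[],[]),
(0,[],[]),
(0,[],[]),
(0,[],[]),
(4,[5128,5828,5830,5883,5902,5904,11882,11040,11042,11044,13970,13972,13974,13976,13978,13980],[11827,13969,13967,5808]),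
(0,[],[]),
(0,[],[]),
(0,[],[]),
(0,[],[]),
(0,[],[]),
(0,[],[]),
(3,[13175,13986,13988,13990,13992,13994],[5225,5223,11788,11815,11813]),
(0,[],[])]
theorem ok27 : data.stepsOK st27 6750 = true := by decide +kernel
def st28 : List Step := [(0,[],[]),
(0,[],[]),
(0,[],[]),
(2,[5262,5264,5266],[13034,13199,13837]),
(1,[14007],[]),
(1,[14009,13835],[]),
(1,[5269,14010],[]),
(1,[14009,13836],[]),
(1,[14013],[]),
(1,[14017,13833],[]),
(0,[],[]),
(0,[],[]),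
(0,[],[]),
(0,[],[]),
(0,[],[]),
(0,[],[]),
(0,[],[]),
(0,[],[]),
(5,[13034,13036,14020,14022,14024,14026,14028,14030,14032,14034],[5261,13058,13060,13062,13838]),
(0,[],[]),
(0,[],[]),
(0,[],[]),
(0,[],[]),
(3,[13057,14038,14040,14042,14044],[5263,5261,13058,13060,13083,13840]),
(0,[],[]),
(0,[],[]),
(0,[],[]),
(0,[],[]),
(2,[5270,5272,13446,13332,13426],[14018]),
(1,[14057],[]),
(1,[14059,14048],[]),
(1,[13429,14060],[]),
(1,[14059,14019],[]),
(1,[14059,13831],[]),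
(1,[13426,14066],[]),
(1,[14063],[]),
(1,[14071,14050],[]),
(1,[13431,14072],[]),
(1,[14069],[]),
(1,[14077,13829],[]),
(1,[13335,14078],[]),
(1,[14075],[]),
(1,[14083,14052],[]),
(1,[14081],[]),
(1,[14087,13827],[]),
(0,[],[]),
(0,[],[]),
(0,[],[]),
(0,[],[]),
(0,[],[]),
(0,[],[]),
(4,[5274,5276,5278,4888,4890,13279,13510,13531,13568,13570,14092,14094,14096,14098,14100],[5273,5271,14065,13428,14090]),
(2,[5328,5330,13084],[13135,12849,12847]),
(1,[14104],[]),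
(1,[14107,13085],[]),
(0,[],[]),
(0,[],[]),
(0,[],[]),
(0,[],[]),
(2,[5334,5336,5338,14116],[14110]),
(0,[],[]),
(0,[],[]),
(0,[],[]),
(0,[],[]),
(0,[],[]),
(0,[],[]),
(0,[],[]),
(0,[],[]),
(0,[],[]),
(0,[],[]),
(0,[],[]),
(4,[5333,14109,12846,12881,12879,14120,14122,14124,14126,14128,14130,14132,14134,14136,14138,14140],[14110,14119,14117,5340]),
(0,[],[]),
(0,[],[]),
(0,[],[]),
(0,[],[]),
(0,[],[]),
(0,[],[]),
(0,[],[]),
(0,[],[]),
(5,[5339,13156,14144,14146,14148,14150,14152,14154,14156,14158],[5340,5342,5437,5435,5433]),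
(2,[5342,5344,5399,13068,13794],[14143]),
(1,[14163],[]),
(1,[14165,14142],[]),
(1,[14165,14141],[]),
(1,[13794,14168],[]),
(1,[14171],[]),
(1,[14173,14139],[]),
(1,[13071,14174],[]),
(1,[14177],[]),
(1,[14179,14137],[]),
(0,[],[]),
(0,[],[]),
(0,[],[]),
(0,[],[]),
(0,[],[]),
(0,[],[]),
(0,[],[]),
(0,[],[]),
(0,[],[]),
(0,[],[]),
(4,[5341,14116,14118,14112,14114,14182,14184,14186,14188,14190,14192,14194,14196,14198,14200],[14167,13795,13069,5397,13842]),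
(0,[],[]),
(0,[],[]),
(0,[],[]),
(0,[],[]),
(0,[],[]),
(0,[],[]),
(0,[],[]),
(0,[],[]),
(2,[14208,14214,14216,14218],[5362]),
(0,[],[]),
(0,[],[]),
(0,[],[]),
(0,[],[]),
(0,[],[]),
(3,[5364,5366,5368,5438,5440,14222,14224,14226,14228,14230],[14221]),
(0,[],[]),
(0,[],[]),
(0,[],[]),
(0,[],[]),
(0,[],[]),
(0,[],[]),
(0,[],[]),
(0,[],[]),
(0,[],[]),
(0,[],[]),
(5,[14221,14233,14234,14236,14238,14240,14242,14244,14246,14248,14250,14252],[5364,14210,14212]),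
(2,[5438,14206],[5370,5426,5901,5899]),
(1,[14256],[]),
(1,[14259,14207],[]),
(0,[],[]),
(0,[],[]),
(0,[],[]),
(0,[],[]),
(0,[],[]),
(0,[],[]),
(0,[],[]),
(0,[],[]),
(0,[],[]),
(0,[],[]),
(0,[],[]),
(0,[],[]),
(4,[5369,5367,14210,14212,14255,14262,14264,14266,14268,14270,14272,14274,14276,14278,14280,14282,14284],[5370,5426,5901]),
(0,[],[]),
(0,[],[]),
(0,[],[]),
(0,[],[]),
(0,[],[]),
(0,[],[]),
(0,[],[]),
(0,[],[]),
(0,[],[]),
(0,[],[]),
(0,[],[]),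
(2,[14300,14302],[5394,13842,14203]),
(0,[],[]),
(0,[],[]),
(0,[],[]),
(0,[],[]),
(0,[],[]),
(0,[],[]),
(3,[5428,5470,5472,14312,14314,14316,14318,14320,14322],[5901,14287]),
(0,[],[]),
(0,[],[]),
(0,[],[]),
(0,[],[]),
(0,[],[]),
(0,[],[]),
(0,[],[]),
(0,[],[]),
(0,[],[]),
(0,[],[]),
(4,[5428,5430,14161,14159,14157,14326,14328,14330,14332,14334,14336,14338,14340,14342,14344],[5901,5899,14260,5440,14222]),
(0,[],[]),
(0,[],[]),
(0,[],[]),
(2,[14204,14348,14352],[5434,13844]),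
(0,[],[]),
(0,[],[]),
(0,[],[]),
(0,[],[]),
(0,[],[]),
(0,[],[]),
(4,[5436,5344,5399,5397,5395,14300,14302,14304,14306,14308,14356,14358,14360,14362,14364,14366],[13844,14355,14353,14350]),
(6,[5436,5344,5346,5322,5046,5009,575,4982,493,4834,4836,4803,485,4774,4801,4859,12672,13024,13026,13028,13308],[13844,14355,14353]),
(1,[14371],[]),
(1,[14373,14350],[]),
(1,[13308,14374],[]),
(1,[14377],[]),
(1,[14379,14369],[]),
(1,[13028,14380],[]),
(1,[14383],[]),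
(1,[14385,14367],[]),
(1,[13315,14386],[]),
(1,[14389],[]),
(1,[14391,14365],[]),
(1,[13317,14392],[]),
(1,[14395],[]),
(1,[14397,14363],[]),
(1,[13319,14398],[]),
(1,[14401],[]),
(1,[14403,14361],[]),
(1,[13322,14404],[]),
(1,[14407],[]),
(1,[14409,14359],[]),
(1,[12149,14410],[]),
(1,[14413],[]),
(1,[14415,14357],[]),
(1,[12151,14416],[]),
(1,[14419],[]),
(1,[14421,14309],[]),
(1,[12153,14422],[]),
(1,[14425],[]),
(1,[14427,14307],[]),
(1,[12094,14428],[]),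
(1,[14431],[]),
(1,[14433,14305],[]),
(1,[12162,14434],[]),
(1,[14437],[]),
(1,[14439,14310],[]),
(1,[12160,14440],[]),
(1,[14443],[]),
(1,[14445,14202],[]),
(0,[],[]),
(2,[5442,5444,5446],[14222,14347]),
(0,[],[]),
(0,[],[]),
(0,[],[]),
(0,[],[]),
(0,[],[]),
(0,[],[]),
(0,[],[]),
(0,[],[]),
(0,[],[]),
(0,[],[]),
(0,[],[]),
(4,[5441,14261,5898,14287,14325,14452,14454,14456,14458,14460,14462,14464,14466,14468,14470,14472],[14222,14347,14451,5448]),
(0,[],[]),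
(0,[],[]),
(0,[],[]),
(0,[],[]),
(0,[],[]),
(0,[],[]),
(0,[],[]),
(0,[],[]),
(0,[],[]),
(0,[],[]),
(0,[],[]),
(5,[5447,14448,14476,14478,14480,14482,14484,14486,14488,14490,14492,14494,14496],[5448,5450])]
theorem ok28 : data.stepsOK st28 7000 = true := by decide +kernel
def st29 : List Step := [(0,[],[]),
(2,[5450,5452,14500],[14475,14473]),
(0,[],[]),
(0,[],[]),
(0,[],[]),
(0,[],[]),
(0,[],[]),
(0,[],[]),
(0,[],[]),
(0,[],[]),
(0,[],[]),
(0,[],[]),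
(0,[],[]),
(0,[],[]),
(5,[5453,14499,14504,14506,14510,14512,14514,14516,14518,14520,14522,14524,14526],[5454,5456]),
(0,[],[]),
(0,[],[]),
(0,[],[]),
(2,[5456,5458,5460,14534],[14508]),
(0,[],[]),
(0,[],[]),
(0,[],[]),
(0,[],[]),
(0,[],[]),
(0,[],[]),
(0,[],[]),
(0,[],[]),
(0,[],[]),
(0,[],[]),
(0,[],[]),
(4,[5455,14500,14502,14471,14538,14540,14542,14544,14546,14548,14550,14552,14554,14556,14558],[14508,14537,14535,5462,13815]),
(0,[],[]),
(0,[],[]),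
(0,[],[]),
(0,[],[]),
(0,[],[]),
(0,[],[]),
(0,[],[]),
(0,[],[]),
(0,[],[]),
(0,[],[]),
(0,[],[]),
(5,[5459,14529,14562,14564,14566,14568,14570,14572,14574,14576,14578,14580,14582],[14530,14532]),
(0,[],[]),
(0,[],[]),
(0,[],[]),
(0,[],[]),
(3,[5462,13815,13813,14586,14588,14590,14592],[5461,14530,14532,14585]),
(2,[5464,5466,5539,14288,14290],[13815]),
(1,[14596],[]),
(1,[14599,14292],[]),
(1,[13812,14600],[]),
(1,[14599,14291],[]),
(1,[14560,14604],[]),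
(1,[14603],[]),
(1,[14609,14294],[]),
(1,[14587,14610],[]),
(1,[14606],[]),
(1,[14615,14559],[]),
(1,[14299,14616],[]),
(1,[14615,14560],[]),
(1,[14612],[]),
(1,[14623,14588],[]),
(1,[14623,14587],[]),
(1,[14619],[]),
(1,[14629,14557],[]),
(0,[],[]),
(2,[11845,12514,14632],[5480,14296]),
(0,[],[]),
(0,[],[]),
(0,[],[]),
(0,[],[]),
(0,[],[]),
(0,[],[]),
(0,[],[]),
(0,[],[]),
(0,[],[]),
(0,[],[]),
(0,[],[]),
(4,[5513,4208,5860,5862,5864,5866,14636,14638,14640,14642,14644,14646,14648,14650,14652,14654,14656],[5480,14296,14635]),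
(0,[],[]),
(0,[],[]),
(0,[],[]),
(3,[5520,5522,5524,14660,14662,14664],[5575,5573,12590,13915,13913]),
(0,[],[]),
(0,[],[]),
(0,[],[]),
(0,[],[]),
(0,[],[]),
(0,[],[]),
(0,[],[]),
(0,[],[]),
(5,[5575,5573,5571,13934,14668,14670,14672,14674,14676,14678,14680,14682],[5520,11853,11851]),
(0,[],[]),
(0,[],[]),
(0,[],[]),
(0,[],[]),
(2,[11853,14686,14692],[5522,12585]),
(0,[],[]),
(0,[],[]),
(0,[],[]),
(0,[],[]),
(0,[],[]),
(0,[],[]),
(0,[],[]),
(0,[],[]),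
(0,[],[]),
(4,[5521,5519,4206,5512,11845,12514,14632,14659,14696,14698,14700,14702,14704,14706,14708,14710,14712],[5522,12585,14695]),
(6,[5521,5519,4205,5492,590,592,594,546,20,22,24,720,745,855,853,851,6248,6312,6314,6316],[5522,12585,14695,14715]),
(1,[14717],[]),
(1,[14719,14714],[]),
(0,[],[]),
(0,[],[]),
(0,[],[]),
(0,[],[]),
(0,[],[]),
(0,[],[]),
(0,[],[]),
(0,[],[]),
(0,[],[]),
(0,[],[]),
(0,[],[]),
(0,[],[]),
(0,[],[]),
(0,[],[]),
(0,[],[]),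
(4,[5524,14660,14724,14726,14728,14730,14732,14734,14736,14738,14740,14742,14744,14746,14748,14750],[12585,14695,14693,14688]),
(0,[],[]),
(0,[],[]),
(2,[14660,14724,14754,14756],[5526]),
(0,[],[]),
(0,[],[]),
(0,[],[]),
(0,[],[]),
(0,[],[]),
(0,[],[]),
(0,[],[]),
(0,[],[]),
(0,[],[]),
(0,[],[]),
(0,[],[]),
(0,[],[]),
(4,[5525,5523,11853,11851,14685,14760,14762,14764,14766,14768,14770,14772,14774,14776,14778,14780,14782],[5526,14759,14757]),
(0,[],[]),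
(0,[],[]),
(0,[],[]),
(0,[],[]),
(0,[],[]),
(0,[],[]),
(0,[],[]),
(0,[],[]),
(0,[],[]),
(0,[],[]),
(0,[],[]),
(0,[],[]),
(0,[],[]),
(0,[],[]),
(4,[5528,14722,14786,14788,14790,14792,14794,14796,14798,14800,14802,14804,14806,14808,14810,14812],[14759,14757,14755,14726]),
(0,[],[]),
(0,[],[]),
(0,[],[]),
(0,[],[]),
(0,[],[]),
(0,[],[]),
(0,[],[]),
(0,[],[]),
(0,[],[]),
(0,[],[]),
(0,[],[]),
(0,[],[]),
(0,[],[]),
(4,[12539,13933,14818,14820,14822,14824,14826,14828,14830,14832,14834,14836,14838,14840],[5567,13888,12593,13915,13913,13911]),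
(0,[],[]),
(0,[],[]),
(0,[],[]),
(0,[],[]),
(2,[5834,5836,14848,14850],[5626]),
(0,[],[]),
(0,[],[]),
(0,[],[]),
(0,[],[]),
(3,[5628,5630,663,5632,5634,5689,14854,14856,14858,14860],[14853]),
(0,[],[]),
(0,[],[]),
(0,[],[]),
(0,[],[]),
(0,[],[]),
(0,[],[]),
(0,[],[]),
(0,[],[]),
(0,[],[]),
(5,[14853,14863,14864,14866,14868,14870,14872,14874,14876,14878,14880],[5628,5690,5732,5734]),
(0,[],[]),
(0,[],[]),
(0,[],[]),
(0,[],[]),
(0,[],[]),
(0,[],[]),
(0,[],[]),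
(0,[],[]),
(4,[5732,5734,5736,14884,14886,14888,14890,14892,14894,14896,14898],[5691,5630,664,666,5561,5833,5883,5881,5879]),
(0,[],[]),
(0,[],[]),
(0,[],[]),
(0,[],[]),
(0,[],[]),
(3,[5694,5771,14902,14904,14906,14908,14910],[5693,5732,5734,14883]),
(0,[],[]),
(0,[],[]),
(0,[],[]),
(0,[],[]),
(0,[],[]),
(0,[],[]),
(0,[],[]),
(0,[],[]),
(0,[],[]),
(5,[5693,5732,5827,14844,14914,14916,14918,14920,14922,14924,14926,14928,14930],[5694,5696]),
(6,[5694,5696,14933,14931],[5693,5691,5630,663,661,611,725,723,721,26,28,30,32,893,891,919,917,6395,6450]),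
(0,[],[]),
(2,[13890,13960],[5728,13856,13959]),
(6,[5730,5066,5068,5050,5052,549,501,17,15,414,446,448,543,726,3704,4711,6146,11792,11794,11796,13984],[13856,13959,14939]),
(1,[14940],[]),
(1,[14943,13985],[]),
(1,[13963,14944],[]),
(1,[14946],[]),
(1,[14949,13963],[]),
(2,[5734,5736,5738],[5827,5825]),
(0,[],[]),
(0,[],[]),
(0,[],[]),
(0,[],[]),
(0,[],[]),
(0,[],[]),
(0,[],[]),
(0,[],[]),
(0,[],[]),
(0,[],[]),
(0,[],[]),
(4,[5733,5692,5742,5787,5785,14954,14956,14958,14960,14962,14964,14966,14968,14970,14972,14974],[5827,5825,14953,5740]),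
(0,[],[]),
(0,[],[]),
(0,[],[]),
(0,[],[]),
(0,[],[]),
(0,[],[]),
(0,[],[]),
(0,[],[]),
(0,[],[]),
(0,[],[]),
(5,[5737,14883,14913,14911,14980,14982,14984,14986,14988,14990,14992,14994,14996],[14884,14886])]
theorem ok29 : data.stepsOK st29 7250 = true := by decide +kernel
def st30 : List Step := [(0,[],[]),
(0,[],[]),
(0,[],[]),
(0,[],[]),
(0,[],[]),
(0,[],[]),
(0,[],[]),
(0,[],[]),
(0,[],[]),
(0,[],[]),
(0,[],[]),
(0,[],[]),
(4,[14884,14886,14888,15000,15002,15004,15006,15008,15010,15012,15014,15016,15018,15020,15022],[5737,5735,5827,14844,14914]),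
(0,[],[]),
(0,[],[]),
(0,[],[]),
(0,[],[]),
(0,[],[]),
(0,[],[]),
(0,[],[]),
(0,[],[]),
(0,[],[]),
(0,[],[]),
(0,[],[]),
(5,[14977,15026,15028,15030,15032,15034,15036,15038,15040,15042,15044,15046],[5741,14952,5823]),
(0,[],[]),
(0,[],[]),
(2,[5810,5812,13964],[13983,13981]),
(0,[],[]),
(2,[5816,5818,5820,15049],[15056]),
(0,[],[]),
(0,[],[]),
(0,[],[]),
(0,[],[]),
(0,[],[]),
(0,[],[]),
(0,[],[]),
(0,[],[]),
(4,[5815,13964,15054,13979,15060,15062,15064,15066,15068,15070,15072,15074],[15056,15059,15048,5822,14953,5739,14884,14978]),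
(0,[],[]),
(0,[],[]),
(0,[],[]),
(0,[],[]),
(0,[],[]),
(0,[],[]),
(0,[],[]),
(0,[],[]),
(0,[],[]),
(0,[],[]),
(0,[],[]),
(0,[],[]),
(4,[14844,14846,15050,15080,15082,15084,15086,15088,15090,15092,15094,15096,15098,15100],[5825,14953,5739,14884,14978,15077]),
(2,[5878,5880,5902,5904,11882,12980],[]),
(1,[15104],[]),
(1,[15107,12981],[]),
(1,[14900,15108],[]),
(1,[15110],[]),
(1,[15113,14899],[]),
(1,[11041,15114],[]),
(1,[15117],[]),
(1,[15119,14897],[]),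
(0,[],[]),
(0,[],[]),
(0,[],[]),
(0,[],[]),
(0,[],[]),
(0,[],[]),
(0,[],[]),
(0,[],[]),
(0,[],[]),
(0,[],[]),
(0,[],[]),
(0,[],[]),
(4,[6012,6014,6132,15122,15124,15126,15128,15130,15132,15134,15136,15138,15140,15142,15144],[6047,6045,713,6034,6082]),
(2,[6036,6038,6040],[6082,15147]),
(0,[],[]),
(0,[],[]),
(0,[],[]),
(0,[],[]),
(0,[],[]),
(0,[],[]),
(0,[],[]),
(0,[],[]),
(0,[],[]),
(0,[],[]),
(0,[],[]),
(4,[6035,712,6044,6081,6131,15150,15152,15154,15156,15158,15160,15162,15164,15166,15168,15170],[6082,15147,15149,6042]),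
(0,[],[]),
(0,[],[]),
(0,[],[]),
(0,[],[]),
(0,[],[]),
(0,[],[]),
(0,[],[]),
(0,[],[]),
(0,[],[]),
(0,[],[]),
(0,[],[]),
(0,[],[]),
(0,[],[]),
(5,[15173,15176,15180,15182,15184,15186,15188,15190,15192,15194,15196,15198],[6043,15148,15145]),
(0,[],[]),
(0,[],[]),
(0,[],[]),
(0,[],[]),
(0,[],[]),
(0,[],[]),
(2,[12367,12422,15212],[6106,12657]),
(6,[6105,4162,5054,5056,5058,5060,5062,5064,5731,5729,13890,13960,14951,11798,11800,11802,11804,11806,11808,11810,13997,13995],[6106,12657]),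
(1,[15216],[]),
(1,[15219,13993],[]),
(1,[12654,15220],[]),
(1,[15219,13994],[]),
(1,[15214,15224],[]),
(1,[15223],[]),
(1,[15229,13991],[]),
(1,[12652,15230],[]),
(1,[15226],[]),
(1,[15235,15214],[]),
(1,[15235,15213],[]),
(1,[15233],[]),
(1,[15241,13989],[]),
(1,[15175,15242],[]),
(1,[15244],[]),
(1,[15247,15175],[]),
(0,[],[]),
(0,[],[]),
(0,[],[]),
(0,[],[]),
(0,[],[]),
(0,[],[]),
(3,[6108,12452,12454,15250,15252,15254,15256,15258,15260],[12657,12655]),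
(0,[],[]),
(0,[],[]),
(0,[],[]),
(0,[],[]),
(0,[],[]),
(0,[],[]),
(4,[6108,6110,6101,6099,6097,15202,15204,15206,15208,15210,15264,15266,15268,15270,15272,15274],[12657,15237,15238,12424]),
(0,[],[]),
(0,[],[]),
(0,[],[]),
(0,[],[]),
(0,[],[]),
(0,[],[]),
(0,[],[]),
(0,[],[]),
(0,[],[]),
(0,[],[]),
(0,[],[]),
(0,[],[]),
(0,[],[]),
(0,[],[]),
(0,[],[]),
(0,[],[]),
(0,[],[]),
(5,[6219,6339,6337,15292,15294,15296,15298,15300,15302,15304,15306,15308,15310],[15278,15286]),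
(3,[6222,6319,6314,6316,14720,14693,14688,14690],[6221,15278,15286,15313]),
(1,[15315],[]),
(1,[15317,15312],[]),
(6,[1,120,235,233,2406,2796,2798,2800,9759,9757,10490],[2,4,211,265,263,342,344,4065,4063,4085,4083,11727,12266]),
(1,[15321],[]),
(1,[15323,12268],[]),
(1,[10493,15324],[]),
(1,[15323,12267],[]),
(1,[15327],[]),
(1,[15331,12270],[]),
(6,[6,8,10,12,414,446,499,568,4667,4665,5258,13058,13060,13062,13838,14037],[211,209,177,173,387,2405,2934,9719]),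
(1,[15334],[]),
(1,[15337,14036],[]),
(1,[9716,15338],[]),
(1,[15341],[]),
(1,[15343,13839],[]),
(1,[9703,15344],[]),
(1,[15347],[]),
(1,[15349,13063],[]),
(1,[9736,15350],[]),
(1,[15353],[]),
(1,[15355,13061],[]),
(1,[12978,15356],[]),
(1,[15355,13083],[]),
(1,[9734,15360],[]),
(1,[15359],[]),
(1,[15365,13066],[]),
(1,[12976,15366],[]),
(1,[15365,13059],[]),
(1,[15363],[]),
(1,[15373,13840],[]),
(1,[9732,15374],[]),
(1,[15373,13081],[]),
(1,[15368],[]),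
(1,[15381,12976],[]),
(1,[15377],[]),
(1,[15385,14047],[]),
(6,[264,210,6,8,358,388,413,472,4247,4245,4744,12662,12664,12666,13030,13217],[263,261,3607,2958,3632,3634,3636,10917]),
(1,[15388],[]),
(1,[15391,13216],[]),
(1,[11670,15392],[]),
(1,[15395],[]),
(1,[15397,13031],[]),
(1,[11690,15398],[]),
(1,[15401],[]),
(1,[15403,12668],[]),
(1,[12167,15404],[]),
(1,[15403,12667],[]),
(1,[11688,15408],[]),
(1,[15407],[]),
(1,[15413,12718],[]),
(1,[15411],[]),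
(1,[15417,12687],[]),
(1,[11686,15418],[]),
(1,[15421],[]),
(1,[15423,12685],[]),
(6,[351,349,347,345,3037,3664,3666,3668,11067,11065,11728],[352,719,717,715,713,6034,6082,15147,15149,6042,15173,15176,15180]),
(1,[15427],[]),
(1,[15429,15182],[]),
(1,[11731,15430],[]),
(1,[15429,15181],[]),
(1,[15433],[]),
(1,[15437,15184],[]),
(6,[589,5374,5469,5539,14288,14620,13813,14627,14624],[5493,4203,3717,671,669,667,5745,5743,5693,5732,5827,14844,14914,15025]),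
(6,[3832,3834,11897,11895,11932,12074,12076,12078],[3831,3829,3827,3825,571,4667,4693,5033,15382,12978,9735,9733,9731,9729,9727,9725]),
(1,[15442],[]),
(1,[15445,12080],[]),
(1,[2863,15446],[]),
(1,[15449],[]),
(1,[15451,12082],[]),
(1,[2865,15452],[]),
(1,[15455],[]),
(1,[15457,12084],[]),
(1,[2867,15458],[]),
(1,[15461],[]),
(1,[15463,12086],[]),
(1,[2869,15464],[]),
(1,[15467],[]),
(1,[15469,12088],[]),
(1,[10619,15470],[]),
(1,[15473],[]),
(1,[15475,12090],[]),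
(1,[10668,15476],[]),
(1,[15479],[]),
(1,[15481,12092],[]),
(1,[10694,15482],[]),
(1,[15485],[]),
(1,[15487,12163],[]),
(1,[10692,15488],[]),
(1,[15491],[]),
(1,[15493,12161],[]),
(1,[10690,15494],[]),
(1,[15497],[])]
theorem ok30 : data.stepsOK st30 7500 = true := by decide +kernel
def st31 : List Step := [(1,[15499,14446],[]),
(6,[5396,13068,13070,13072,13074,13076,13078,15379,9733,15386],[13842,15501,10690,10692,10694,10668,10619,2869,2867,2865,2863,9724,10614,10813]),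
(1,[15502],[]),
(1,[15505,15387],[]),
(1,[10810,15506],[]),
(1,[15508],[]),
(1,[15511,10809],[]),
(1,[9733,15512],[]),
(1,[15515],[]),
(1,[15517,10807],[]),
(1,[15379,15518],[]),
(1,[15520],[]),
(1,[15523,13079],[]),
(1,[15523,15379],[]),
(2,[6472],[6392,6450,14935,14930,14936]),
(1,[15529],[]),
(1,[15531,14937],[]),
(2,[6414,6416,6418,6593,6602],[]),
(2,[7156],[6490,7154,7303,7301]),
(2,[6970,6972,6974],[7043,7041]),
(2,[7018,7020,7022],[7077,7075]),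
(2,[7060,7062,7824],[7556,7603]),
(2,[7130,7194,7196],[7152,7185]),
(2,[7978,7980,7982],[8532,8505,8503]),
(1,[15547],[]),
(1,[15549,8501],[]),
(1,[7985,15550],[]),
(1,[15549,8502],[]),
(1,[15553],[]),
(1,[15557,8499],[]),
(2,[7986,7988,8021,8108],[15558,8497]),
(1,[15561],[]),
(1,[15563,8495],[]),
(1,[8111,15564],[]),
(1,[15563,8496],[]),
(1,[15567],[]),
(1,[15571,8493],[]),
(2,[8782],[8576,8780,8897,8895]),
(2,[8756,8820,8822],[8778,8811]),
(2,[9354,9356,9358,9591,9598],[]),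
(2,[9704,9706,9708],[9737,9735,15527]),
(1,[15581],[]),
(1,[15583,15524],[]),
(1,[9711,15584],[]),
(1,[15587],[]),
(1,[15589,13077],[]),
(2,[9712,9714],[15590,13075,13073,14180]),
(1,[15593],[]),
(1,[15595,14135],[]),
(1,[9714,15596],[]),
(1,[15599],[]),
(1,[15601,14133],[]),
(1,[9712,15602],[]),
(1,[15605],[]),
(1,[15607,14131],[]),
(1,[9710,15608],[]),
(1,[15611],[]),
(1,[15613,14129],[]),
(1,[9708,15614],[]),
(1,[15617],[]),
(1,[15619,14127],[]),
(1,[9706,15620],[]),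
(1,[15623],[]),
(1,[15625,14125],[]),
(1,[12966,15626],[]),
(1,[15629],[]),
(1,[15631,14123],[]),
(2,[10490,15328,11725,12324],[9756,10168]),
(1,[15634],[]),
(1,[15637,12326],[]),
(1,[10171,15638],[]),
(1,[15637,12325],[]),
(1,[11570,15642],[]),
(1,[15641],[]),
(1,[15647,12328],[]),
(1,[10173,15648],[]),
(1,[15645],[]),
(1,[15653,11723],[]),
(1,[11568,15654],[]),
(1,[15653,11724],[]),
(1,[15651],[]),
(1,[15661,12330],[]),
(1,[10164,15662],[]),
(1,[15657],[]),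
(1,[15667,12303],[]),
(1,[15667,11721],[]),
(1,[11566,15670],[]),
(1,[15665],[]),
(1,[15675,12332],[]),
(1,[15673],[]),
(1,[15679,11719],[]),
(2,[9994,9996,10014,10016,10018],[12928]),
(1,[15683],[]),
(1,[15685,12929],[]),
(2,[10024,10026,11192,13600],[11173,11171]),
(1,[15688],[]),
(1,[15691,13542],[]),
(1,[11168,15692],[]),
(1,[15695],[]),
(1,[15697,13544],[]),
(2,[10508,10510,10512,11191,11522],[]),
(2,[10894,11004,11006],[10932,11003]),
(2,[11028,11866,13158],[11030,11051]),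
(2,[11042,11044,11046],[15120,14895]),
(2,[11728,15434,15178],[11064,11716,12397]),
(1,[15708],[]),
(1,[15711,15179],[]),
(2,[11162,11164,11166,15698,13546],[]),
(2,[11500,11550,11552],[11504,11549]),
(2,[11686,11688,12166,12168],[15424]),
(2,[11848,14685,14760,14762],[11854]),
(2,[12426,12428,12430],[15277,15275]),
(2,[12440,12442,12444,12563,12608],[]),
(2,[12544,12636,12638],[12588,12635]),
(2,[12676,12678,12680],[13312,13247,13245]),
(1,[15729],[]),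
(1,[15731,13243],[]),
(1,[12683,15732],[]),
(1,[15735],[]),
(1,[15737,13241],[]),
(1,[15718,15738],[]),
(1,[15741],[]),
(1,[15743,13239],[]),
(1,[12168,15744],[]),
(1,[15747],[]),
(1,[15749,13237],[]),
(1,[15415,15750],[]),
(1,[15753],[]),
(1,[15755,13235],[]),
(2,[13972,13974,13976,15060,15062,15064],[]),
(1,[15758],[]),
(1,[15761,15066],[]),
(1,[13970,15762],[]),
(1,[15765],[]),
(1,[15767,15068],[]),
(1,[11047,15768],[]),
(1,[15771],[]),
(1,[15773,15070],[]),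
(1,[15707,15774],[]),
(1,[15777],[]),
(1,[15779,15072],[]),
(1,[14892,15780],[]),
(1,[15783],[]),
(1,[15785,15074],[]),
(2,[15440,15024,14915,14846,15050,15052],[]),
(1,[15788],[]),
(1,[15791,15053],[]),
(1,[14591,15792],[]),
(1,[15795],[]),
(1,[15797,15080],[]),
(1,[14593,15798],[]),
(1,[15801],[]),
(1,[15803,15082],[]),
(1,[14595,15804],[]),
(1,[15807],[]),
(1,[15809,15084],[]),
(1,[14582,15810],[]),
(1,[15813],[]),
(1,[15815,15086],[]),
(2,[14728,14730,14732],[14815,14813]),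
(0,[],[]),
(0,[],[]),
(0,[],[]),
(0,[],[]),
(2,[6396,15826],[6236,6384,6627]),
(0,[],[]),
(0,[],[]),
(0,[],[]),
(0,[],[]),
(0,[],[]),
(0,[],[]),
(3,[6386,6422,6424,15830,15832,15834,15836,15838,15840],[6627,6625]),
(0,[],[]),
(0,[],[]),
(0,[],[]),
(0,[],[]),
(0,[],[]),
(0,[],[]),
(0,[],[]),
(0,[],[]),
(0,[],[]),
(0,[],[]),
(4,[6386,6388,6471,6469,6467,15844,15846,15848,15850,15852,15854,15856,15858,15860,15862],[6627,15829,15827,6398,15820]),
(0,[],[]),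
(0,[],[]),
(0,[],[]),
(2,[6400,6402,6404],[15820,15865]),
(0,[],[]),
(0,[],[]),
(0,[],[]),
(0,[],[]),
(0,[],[]),
(0,[],[]),
(0,[],[]),
(0,[],[]),
(0,[],[]),
(0,[],[]),
(0,[],[]),
(0,[],[]),
(4,[6399,15826,15828,6625,15843,15876,15878,15880,15882,15884,15886,15888,15890,15892,15894,15896],[15820,15865,15873,6406]),
(0,[],[]),
(0,[],[]),
(0,[],[]),
(0,[],[]),
(0,[],[]),
(0,[],[]),
(0,[],[]),
(0,[],[]),
(0,[],[]),
(0,[],[]),
(0,[],[]),
(0,[],[]),
(4,[15866,15868,15870,15900,15902,15904,15906,15908,15910,15912,15914,15916,15918,15920,15922],[6403,6401,15820,15822,15874]),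
(0,[],[]),
(2,[6408,6410,15926],[15899,15897]),
(0,[],[]),
(0,[],[]),
(0,[],[]),
(0,[],[]),
(0,[],[]),
(0,[],[]),
(0,[],[]),
(0,[],[]),
(0,[],[]),
(0,[],[]),
(0,[],[]),
(0,[],[]),
(4,[6407,15872,15864,15822,15824,15930,15932,15934,15936,15938,15940,15942,15944,15946,15948,15950,15952],[15899,15897,15929]),
(0,[],[]),
(0,[],[]),
(0,[],[]),
(0,[],[]),
(0,[],[]),
(0,[],[]),
(0,[],[]),
(0,[],[]),
(0,[],[]),
(0,[],[]),
(5,[15535,6604,15956,15958,15960,15962,15964,15966,15968,15970,15972,15974],[6413,15926,15955]),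
(0,[],[]),
(0,[],[]),
(0,[],[]),
(0,[],[]),
(0,[],[]),
(0,[],[]),
(0,[],[]),
(0,[],[]),
(0,[],[]),
(0,[],[]),
(0,[],[])]
theorem ok31 : data.stepsOK st31 7750 = true := by decide +kernel
def st32 : List Step := [(3,[6712,6714,1091,6716,6718,6755,15992,15994,15996,15998],[7281]),
(0,[],[]),
(0,[],[]),
(0,[],[]),
(0,[],[]),
(0,[],[]),
(0,[],[]),
(0,[],[]),
(0,[],[]),
(0,[],[]),
(5,[7281,16001,16002,16004,16006,16008,16010,16012,16014,16016,16018],[6712,6756,6852,6854]),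
(0,[],[]),
(0,[],[]),
(0,[],[]),
(0,[],[]),
(0,[],[]),
(0,[],[]),
(5,[6817,16022,16024,16026,16028,16030,16032],[6818,6820,6851,6849,6847,6966,6968,6970]),
(0,[],[]),
(0,[],[]),
(0,[],[]),
(0,[],[]),
(0,[],[]),
(0,[],[]),
(0,[],[]),
(0,[],[]),
(0,[],[]),
(0,[],[]),
(0,[],[]),
(4,[16021,16019,16036,16038,16040,16042,16044,16046,16048,16050,16052,16054,16056],[6855,6887,6885,6883,6881,6879,7767]),
(0,[],[]),
(0,[],[]),
(0,[],[]),
(0,[],[]),
(0,[],[]),
(0,[],[]),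
(0,[],[]),
(0,[],[]),
(0,[],[]),
(5,[7554,16060,16062,16064,16066,16068,16070,16072,16074,16076],[6875,7056,7058,7060,7550]),
(0,[],[]),
(0,[],[]),
(0,[],[]),
(3,[7767,16059,16080,16082,16084],[6877,6875,7056,7058,7556,7558]),
(0,[],[]),
(2,[7100,7250,15988,16088],[6928]),
(6,[6927,1220,1222,1172,1099,48,50,52,54,1163,1274,1306,1341,1409,1407,7405,7792,7794,7847,7848],[6928,16091,16089,15990]),
(1,[16093],[]),
(1,[16095,15991],[]),
(0,[],[]),
(0,[],[]),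
(0,[],[]),
(0,[],[]),
(0,[],[]),
(0,[],[]),
(0,[],[]),
(3,[6930,6932,6934,16098,16100,16102,16104,16106,16108,16110],[16091]),
(0,[],[]),
(6,[6968,6970,16035,16033],[6967,6845,1154,1156,1158,1160,1162,56,58,60,1354,1356,1358,1569,7663,7683,7681,8296,8298]),
(0,[],[]),
(0,[],[]),
(0,[],[]),
(0,[],[]),
(0,[],[]),
(3,[16035,16118,16120,16122,16124,16126],[6971,6969,6980,7011,7009]),
(0,[],[]),
(0,[],[]),
(0,[],[]),
(0,[],[]),
(0,[],[]),
(0,[],[]),
(0,[],[]),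
(0,[],[]),
(0,[],[]),
(0,[],[]),
(4,[16035,16033,16116,8300,16130,16132,16134,16136,16138,16140,16142,16144,16146,16148],[6971,7043,7041,7039,7037,7035]),
(0,[],[]),
(0,[],[]),
(0,[],[]),
(0,[],[]),
(0,[],[]),
(0,[],[]),
(3,[16114,16152,16154,16156,16158,16160,16162],[6973,16035,16033,16031]),
(0,[],[]),
(0,[],[]),
(0,[],[]),
(0,[],[]),
(0,[],[]),
(0,[],[]),
(0,[],[]),
(0,[],[]),
(0,[],[]),
(5,[6975,16114,16152,16154,16166,16168,16170,16172,16174,16176,16178,16180,16182],[6976,6978]),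
(0,[],[]),
(0,[],[]),
(0,[],[]),
(0,[],[]),
(0,[],[]),
(3,[16185,16186,16188,16190,16192,16194],[6979,6977,15538,7039,7037]),
(0,[],[]),
(0,[],[]),
(0,[],[]),
(0,[],[]),
(0,[],[]),
(0,[],[]),
(0,[],[]),
(0,[],[]),
(0,[],[]),
(0,[],[]),
(0,[],[]),
(4,[7017,7044,1452,7055,7053,8022,16200,16202,16204,16206,16208,16210,16212,16214,16216,16218],[7077,7075,15541,7024]),
(0,[],[]),
(0,[],[]),
(0,[],[]),
(0,[],[]),
(0,[],[]),
(0,[],[]),
(0,[],[]),
(0,[],[]),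
(0,[],[]),
(0,[],[]),
(0,[],[]),
(0,[],[]),
(0,[],[]),
(5,[7023,7366,16222,16224,16230,16232,16234,16236,16238,16240,16242,16244,16246],[7024,7026]),
(0,[],[]),
(0,[],[]),
(0,[],[]),
(0,[],[]),
(0,[],[]),
(0,[],[]),
(0,[],[]),
(0,[],[]),
(0,[],[]),
(0,[],[]),
(5,[16221,16226,16250,16252,16254,16256,16258,16260,16262,16264,16266,16268],[7025,15540,7073]),
(0,[],[]),
(0,[],[]),
(0,[],[]),
(0,[],[]),
(0,[],[]),
(3,[16249,16272,16274,16276,16278,16280],[7027,7025,15540,7073,7071]),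
(0,[],[]),
(0,[],[]),
(0,[],[]),
(0,[],[]),
(0,[],[]),
(0,[],[]),
(0,[],[]),
(0,[],[]),
(5,[7029,16249,16272,16274,16284,16286,16288,16290,16292,16294,16296,16298],[7030,7032,16151]),
(0,[],[]),
(0,[],[]),
(0,[],[]),
(0,[],[]),
(0,[],[]),
(0,[],[]),
(0,[],[]),
(0,[],[]),
(0,[],[]),
(0,[],[]),
(4,[7030,7032,7034,16197,16195,16302,16304,16306,16308,16310,16312,16314,16316,16318,16320],[7029,7027,16221,16226,16250]),
(0,[],[]),
(0,[],[]),
(0,[],[]),
(0,[],[]),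
(0,[],[]),
(0,[],[]),
(0,[],[]),
(0,[],[]),
(0,[],[]),
(0,[],[]),
(0,[],[]),
(0,[],[]),
(0,[],[]),
(4,[7064,7066,7068,16283,16281,16330,16332,16334,16336,16338,16340,16342,16344,16346,16348],[7063,7061,7556,7558,7560]),
(2,[7066,7068,7070,16271],[16328]),
(0,[],[]),
(0,[],[]),
(0,[],[]),
(0,[],[]),
(2,[7282,16360],[7094,7109,7215]),
(0,[],[]),
(0,[],[]),
(0,[],[]),
(0,[],[]),
(0,[],[]),
(0,[],[]),
(0,[],[]),
(0,[],[]),
(0,[],[]),
(0,[],[]),
(0,[],[]),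
(4,[7107,7105,7249,7247,7245,16366,16368,16370,16372,16374,16376,16378,16380,16382,16384],[7215,16363,16361,7284,16354]),
(0,[],[]),
(0,[],[]),
(0,[],[]),
(0,[],[]),
(0,[],[]),
(0,[],[]),
(4,[7129,6310,1178,6493,6491,7156,15536,7299,15982,15984,16388,16390,16392,16394,16396,16398],[7152,7185,15545,7198]),
(0,[],[]),
(0,[],[]),
(0,[],[]),
(0,[],[]),
(0,[],[]),
(0,[],[]),
(0,[],[]),
(0,[],[]),
(0,[],[]),
(0,[],[]),
(5,[15978,15980,16404,16406,16408,16410,16412,16414,16416,16418,16420],[7159,15536,7299,15982]),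
(2,[7200,7202,16402],[16401,16399]),
(0,[],[]),
(2,[7206,7208,7210,16364],[16426]),
(0,[],[]),
(0,[],[]),
(0,[],[]),
(0,[],[]),
(0,[],[]),
(0,[],[]),
(0,[],[]),
(4,[7205,16402,16424,16397,16430,16432,16434,16436,16438,16440,16442],[16426,16429,16365,7212,16363,16361,7284,16354,16387]),
(0,[],[]),
(0,[],[]),
(0,[],[]),
(2,[7286,7288,7290],[16354,16387,16445]),
(1,[16453],[]),
(1,[16455,16443],[]),
(1,[7293,16456],[]),
(1,[16455,16444],[]),
(1,[16459],[]),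
(1,[16463,16441],[]),
(0,[],[]),
(0,[],[]),
(0,[],[]),
(0,[],[]),
(0,[],[]),
(0,[],[]),
(0,[],[]),
(0,[],[]),
(0,[],[]),
(0,[],[]),
(0,[],[]),
(0,[],[]),
(0,[],[]),
(4,[16446,16448,16450,16468,16470,16472,16474,16476,16478,16480,16482,16484,16486,16488,16490],[7289,7287,16354,16356,16466]),
(2,[7294,7296,15982,15984,15986],[16464]),
(1,[16495],[]),
(1,[16497,16465],[])]
theorem ok32 : data.stepsOK st32 8000 = true := by decide +kernel
def st33 : List Step := [(0,[],[]),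
(0,[],[]),
(0,[],[]),
(0,[],[]),
(0,[],[]),
(0,[],[]),
(0,[],[]),
(0,[],[]),
(0,[],[]),
(0,[],[]),
(0,[],[]),
(4,[7293,16460,16386,16356,16358,16500,16502,16504,16506,16508,16510,16512,16514,16516,16518,16520],[16499,15987,15985,16423]),
(6,[7299,15982,16423,16421],[15537,7157,6490,6492,1179,1177,1175,921,842,844,846,848,850,6145,6225,6223,6221,15278,15280]),
(0,[],[]),
(0,[],[]),
(0,[],[]),
(0,[],[]),
(2,[16079,16326,16532],[7520,16530]),
(0,[],[]),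
(0,[],[]),
(0,[],[]),
(0,[],[]),
(0,[],[]),
(0,[],[]),
(0,[],[]),
(0,[],[]),
(0,[],[]),
(0,[],[]),
(0,[],[]),
(4,[7551,7062,7824,7826,7828,7830,16536,16538,16540,16542,16544,16546,16548,16550,16552,16554,16556],[7520,16530,16535]),
(0,[],[]),
(0,[],[]),
(0,[],[]),
(0,[],[]),
(0,[],[]),
(2,[16087,16562,16568],[7560,16351]),
(0,[],[]),
(0,[],[]),
(0,[],[]),
(0,[],[]),
(0,[],[]),
(0,[],[]),
(0,[],[]),
(0,[],[]),
(0,[],[]),
(4,[7559,7557,7060,7550,16079,16326,16532,16559,16572,16574,16576,16578,16580,16582,16584,16586,16588],[7560,16351,16571]),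
(6,[7559,7557,7059,7530,1336,1338,1340,1308,60,62,64,1456,1481,1591,1589,1587,8340,8404,8406,8408],[7560,16351,16571,16591]),
(1,[16593],[]),
(1,[16595,16590],[]),
(0,[],[]),
(0,[],[]),
(0,[],[]),
(0,[],[]),
(0,[],[]),
(0,[],[]),
(0,[],[]),
(0,[],[]),
(0,[],[]),
(0,[],[]),
(0,[],[]),
(0,[],[]),
(0,[],[]),
(0,[],[]),
(0,[],[]),
(4,[7562,16560,16600,16602,16604,16606,16608,16610,16612,16614,16616,16618,16620,16622,16624,16626],[16351,16571,16569,16564]),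
(0,[],[]),
(0,[],[]),
(2,[16560,16600,16630,16632],[7564]),
(0,[],[]),
(0,[],[]),
(0,[],[]),
(0,[],[]),
(0,[],[]),
(0,[],[]),
(0,[],[]),
(0,[],[]),
(0,[],[]),
(0,[],[]),
(0,[],[]),
(0,[],[]),
(0,[],[]),
(0,[],[]),
(4,[7566,16598,16636,16638,16640,16642,16644,16646,16648,16650,16652,16654,16656,16658,16660,16662],[16635,16633,16631,16602]),
(0,[],[]),
(0,[],[]),
(0,[],[]),
(0,[],[]),
(0,[],[]),
(2,[16666,16670,16672,16674],[7648]),
(0,[],[]),
(0,[],[]),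
(0,[],[]),
(0,[],[]),
(3,[7650,7652,7654,7700,7708,7791,16678,16680,16682,16684],[16677]),
(0,[],[]),
(0,[],[]),
(0,[],[]),
(0,[],[]),
(0,[],[]),
(0,[],[]),
(0,[],[]),
(0,[],[]),
(0,[],[]),
(0,[],[]),
(5,[16677,16687,16688,16690,16692,16694,16696,16698,16700,16702,16704,16706],[7650,7798,16668]),
(0,[],[]),
(0,[],[]),
(0,[],[]),
(0,[],[]),
(0,[],[]),
(0,[],[]),
(0,[],[]),
(0,[],[]),
(0,[],[]),
(4,[7655,7653,7798,16668,16709,16710,16712,16714,16716,16718,16720,16722,16724,16726],[7656,1400,7735,7751,7752,8331]),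
(0,[],[]),
(0,[],[]),
(0,[],[]),
(0,[],[]),
(0,[],[]),
(0,[],[]),
(0,[],[]),
(0,[],[]),
(2,[7692,8315,16742,16744],[8295]),
(0,[],[]),
(0,[],[]),
(0,[],[]),
(0,[],[]),
(0,[],[]),
(0,[],[]),
(0,[],[]),
(0,[],[]),
(4,[7694,8266,8219,1559,8206,8208,8146,8174,8176,16748,16750,16752,16754,16756,16758,16760,16762],[7693,8295,16747]),
(0,[],[]),
(0,[],[]),
(0,[],[]),
(0,[],[]),
(0,[],[]),
(0,[],[]),
(0,[],[]),
(0,[],[]),
(0,[],[]),
(0,[],[]),
(5,[7703,7708,7791,16678,16768,16770,16772,16774,16776,16778,16780,16782,16784],[7704,7706]),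
(6,[7704,7706,16787,16785],[7703,7701,7656,1399,1397,1357,1461,1459,1457,66,68,70,72,1667,1665,1693,1691,8467,8478]),
(0,[],[]),
(0,[],[]),
(0,[],[]),
(0,[],[]),
(3,[16787,16790,16792,16794,16796],[7707,7705,7732,7751,7752,7754]),
(0,[],[]),
(0,[],[]),
(0,[],[]),
(0,[],[]),
(0,[],[]),
(0,[],[]),
(0,[],[]),
(0,[],[]),
(0,[],[]),
(0,[],[]),
(5,[8331,16729,16727,16802,16804,16806,16808,16810,16812,16814,16816,16818],[7754,16799,16797]),
(0,[],[]),
(0,[],[]),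
(0,[],[]),
(0,[],[]),
(0,[],[]),
(0,[],[]),
(5,[7795,7823,7821,16526,16826,16828,16830,16832],[7847,7848,16096,16088,16113,16111,16109]),
(0,[],[]),
(0,[],[]),
(0,[],[]),
(6,[970,972,6421,6593,6602,15534,6413,15926,15955,15977],[969,967,1087,1148,1150,1152,1154,6985,6983,7011,7009,16129,16198]),
(2,[8534],[8464,8478,16789,16784,16790]),
(1,[16845],[]),
(1,[16847,16792],[]),
(1,[8537,16848],[]),
(1,[16847,16791],[]),
(1,[16851],[]),
(1,[16855,16794],[]),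
(1,[8539,16856],[]),
(1,[16855,16800],[]),
(1,[16859],[]),
(1,[16863,16821],[]),
(1,[8541,16864],[]),
(1,[16867],[]),
(1,[16869,16822],[]),
(1,[8543,16870],[]),
(1,[16873],[]),
(1,[16875,16824],[]),
(2,[8538,8540,8542,16876],[16860]),
(2,[15286,15288,15290],[15280,16525,16420]),
(1,[16881],[]),
(1,[16883,16523],[]),
(1,[15290,16884],[]),
(1,[16887],[]),
(1,[16889,16521],[]),
(1,[15288,16890],[]),
(1,[16893],[]),
(1,[16895,16519],[]),
(1,[15318,16896],[]),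
(1,[16899],[]),
(1,[16901,16517],[]),
(1,[14690,16902],[]),
(1,[16905],[]),
(1,[16907,16515],[]),
(1,[14752,16908],[]),
(1,[16911],[]),
(1,[16913,16513],[]),
(1,[14750,16914],[]),
(1,[16917],[]),
(1,[16919,16511],[]),
(1,[14748,16920],[]),
(1,[16923],[]),
(1,[16925,16509],[]),
(1,[14746,16926],[]),
(1,[16929],[]),
(1,[16931,16507],[]),
(1,[14744,16932],[]),
(1,[16935],[]),
(1,[16937,16505],[]),
(2,[15824,15930,15932],[15874,15925]),
(2,[15950,15952,15977,16842,16199,16127],[]),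
(1,[16942],[]),
(1,[16945,16125],[]),
(1,[15948,16946],[]),
(1,[16949],[]),
(1,[16951,16123],[]),
(1,[15946,16952],[]),
(1,[16955],[]),
(1,[16957,16121],[]),
(2,[16144,16146,16148,16301,16324],[]),
(2,[16358,16500,16502],[16466,16493]),
(6,[16357,16355,7285,16360,16362,7214,7107,7105,7103,7250,15988,16088,16113,16111,16109,16835],[16466,16493,16963,16939,14743,14741,14739,14737]),
(1,[16964],[]),
(1,[16967,16833],[]),
(1,[14734,16968],[]),
(1,[16971],[]),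
(1,[16973,16831],[]),
(1,[15819,16974],[]),
(1,[16977],[]),
(1,[16979,16829],[]),
(1,[14810,16980],[]),
(1,[16983],[]),
(1,[16985,16827],[]),
(2,[16528,16836,16838],[16987,14809,14807]),
(1,[16988],[]),
(1,[16991,16840],[]),
(6,[16527,7820,7822,7794,7796,7588,1403,1401,1399,7658,7660,7662,1567,7697,7695,8315,16742,16744,16765,16766],[16987,14809,14807,16992]),
(1,[16995],[]),
(1,[16997,16993],[])]
theorem ok33 : data.stepsOK st33 8250 = true := by decide +kernel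
def st34 : List Step := [(2,[16604,16606,16608],[16665,16663]),
(0,[],[]),
(0,[],[]),
(0,[],[]),
(0,[],[]),
(0,[],[]),
(0,[],[]),
(0,[],[]),
(0,[],[]),
(0,[],[]),
(0,[],[]),
(0,[],[]),
(0,[],[]),
(0,[],[]),
(0,[],[]),
(0,[],[]),
(5,[7975,8455,8477,8475,17014,17016,17018,17020,17022,17024,17026,17028,17030],[7976,7978]),
(0,[],[]),
(0,[],[]),
(0,[],[]),
(0,[],[]),
(0,[],[]),
(0,[],[]),
(0,[],[]),
(0,[],[]),
(0,[],[]),
(0,[],[]),
(0,[],[]),
(0,[],[]),
(0,[],[]),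
(0,[],[]),
(0,[],[]),
(0,[],[]),
(0,[],[]),
(5,[7981,17033,17044,17046,17050,17052,17054,17056,17058,17060,17062,17064,17066],[17034,17036]),
(0,[],[]),
(0,[],[]),
(0,[],[]),
(0,[],[]),
(0,[],[]),
(0,[],[]),
(0,[],[]),
(0,[],[]),
(0,[],[]),
(0,[],[]),
(0,[],[]),
(0,[],[]),
(4,[17034,17036,17038,17070,17072,17074,17076,17078,17080,17082,17084,17086,17088,17090,17092],[7981,7979,8532,17010,17042]),
(0,[],[]),
(0,[],[]),
(0,[],[]),
(3,[7984,15558,17006,17008,17096,17098,17100],[7983,17034,17036,17069]),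
(0,[],[]),
(0,[],[]),
(0,[],[]),
(0,[],[]),
(0,[],[]),
(0,[],[]),
(0,[],[]),
(0,[],[]),
(0,[],[]),
(0,[],[]),
(5,[15558,17006,17104,17106,17108,17110,17112,17114,17116,17118,17120,17122],[7985,15554,8559]),
(0,[],[]),
(0,[],[]),
(0,[],[]),
(0,[],[]),
(0,[],[]),
(0,[],[]),
(0,[],[]),
(0,[],[]),
(0,[],[]),
(0,[],[]),
(4,[7985,15554,8504,17010,17012,17126,17128,17130,17132,17134,17136,17138,17140,17142,17144],[15558,15569,8109,8019,8432]),
(0,[],[]),
(0,[],[]),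
(0,[],[]),
(0,[],[]),
(0,[],[]),
(2,[17148,17152],[8016,8432,17147]),
(0,[],[]),
(0,[],[]),
(0,[],[]),
(0,[],[]),
(0,[],[]),
(0,[],[]),
(0,[],[]),
(0,[],[]),
(0,[],[]),
(0,[],[]),
(0,[],[]),
(0,[],[]),
(0,[],[]),
(0,[],[]),
(0,[],[]),
(5,[8079,8431,8429,17170,17172,17174,17176,17178,17180,17182,17184,17186,17188],[17160,17164]),
(3,[8082,8411,8406,8408,16596,16569,16564,16566],[8081,17160,17164,17191]),
(1,[17193],[]),
(1,[17195,17190],[]),
(0,[],[]),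
(0,[],[]),
(0,[],[]),
(0,[],[]),
(0,[],[]),
(0,[],[]),
(0,[],[]),
(0,[],[]),
(5,[15572,17150,17198,17200,17202,17204,17206,17208,17210,17212],[8111,15568,17006,17008,17096]),
(0,[],[]),
(0,[],[]),
(0,[],[]),
(0,[],[]),
(0,[],[]),
(0,[],[]),
(0,[],[]),
(2,[17218,17224,17226,17228],[8162]),
(0,[],[]),
(0,[],[]),
(0,[],[]),
(0,[],[]),
(0,[],[]),
(3,[8164,8166,8168,17002,17004,17232,17234,17236,17238,17240],[17231]),
(0,[],[]),
(0,[],[]),
(0,[],[]),
(0,[],[]),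
(0,[],[]),
(0,[],[]),
(0,[],[]),
(0,[],[]),
(0,[],[]),
(0,[],[]),
(5,[17231,17243,17244,17246,17248,17250,17252,17254,17256,17258,17260,17262],[8164,17220,17222]),
(0,[],[]),
(2,[17002,17216,17266],[8170,8185]),
(0,[],[]),
(0,[],[]),
(0,[],[]),
(0,[],[]),
(0,[],[]),
(0,[],[]),
(0,[],[]),
(0,[],[]),
(0,[],[]),
(0,[],[]),
(0,[],[]),
(0,[],[]),
(4,[8169,8167,17220,17222,17265,17270,17272,17274,17276,17278,17280,17282,17284,17286,17288,17290,17292],[8170,8185,17269]),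
(0,[],[]),
(2,[8176,16748,17296],[8210,8265]),
(0,[],[]),
(0,[],[]),
(0,[],[]),
(0,[],[]),
(0,[],[]),
(0,[],[]),
(0,[],[]),
(0,[],[]),
(0,[],[]),
(0,[],[]),
(0,[],[]),
(4,[8175,8148,1554,8205,8203,8216,17300,17302,17304,17306,17308,17310,17312,17314,17316,17318,17320],[8210,8265,17299]),
(6,[8175,8148,1553,8124,1658,1660,1545,1434,1436,1438,1440,7968,7991,8021,8019,8017,17148,17152,17154,17156],[8210,8265,17299,17323]),
(1,[17325],[]),
(1,[17327,17322],[]),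
(0,[],[]),
(0,[],[]),
(0,[],[]),
(0,[],[]),
(0,[],[]),
(0,[],[]),
(5,[8180,8182,17269,17295,17293,17330,17332,17334,17336,17338,17340],[8179,16748,16750,16752]),
(0,[],[]),
(0,[],[]),
(0,[],[]),
(0,[],[]),
(0,[],[]),
(0,[],[]),
(0,[],[]),
(0,[],[]),
(0,[],[]),
(5,[16117,16031,16165,16163,17346,17348,17350,17352,17354,17356,17358,17360],[8300,16130,16730]),
(0,[],[]),
(0,[],[]),
(0,[],[]),
(0,[],[]),
(0,[],[]),
(0,[],[]),
(0,[],[]),
(0,[],[]),
(4,[8300,16130,16132,17364,17366,17368,17370,17372,17374,17376,17378],[16117,16032,16118,16959,15945,15943,15941,15939,15937]),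
(0,[],[]),
(2,[16130,16132,16134,17382],[8302]),
(0,[],[]),
(0,[],[]),
(0,[],[]),
(0,[],[]),
(0,[],[]),
(0,[],[]),
(0,[],[]),
(0,[],[]),
(0,[],[]),
(0,[],[]),
(0,[],[]),
(0,[],[]),
(0,[],[]),
(0,[],[]),
(4,[8304,17344,17386,17388,17390,17392,17394,17396,17398,17400,17402,17404,17406,17408,17410,17412],[17385,17383,16135,17364]),
(0,[],[]),
(0,[],[]),
(2,[17344,17386,17416,17418],[8306]),
(0,[],[]),
(0,[],[]),
(0,[],[]),
(0,[],[]),
(0,[],[]),
(0,[],[]),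
(0,[],[]),
(0,[],[]),
(0,[],[]),
(0,[],[]),
(0,[],[]),
(0,[],[]),
(4,[8305,8303,16130,16730,17363,17422,17424,17426,17428,17430,17432,17434,17436,17438,17440,17442,17444],[8306,17421,17419]),
(0,[],[]),
(0,[],[]),
(0,[],[]),
(0,[],[]),
(0,[],[]),
(0,[],[]),
(0,[],[]),
(0,[],[]),
(0,[],[]),
(0,[],[]),
(4,[8308,16732,16734,16736,16738,16740,17448,17450,17452,17454,17456,17458,17460,17462,17464,17466],[17421,17419,17417,17388]),
(0,[],[]),
(0,[],[]),
(0,[],[]),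
(6,[17006,17008,17096,17215],[15569,8109,8020,7990,7969,1442,7992,7999,7997,1450,7045,7016,7077,7075,15541,7024,16221,16226,16250,16323]),
(1,[17476],[]),
(1,[17479,17214],[]),
(0,[],[]),
(0,[],[]),
(0,[],[]),
(0,[],[]),
(0,[],[]),
(0,[],[]),
(0,[],[]),
(0,[],[]),
(0,[],[])]
theorem ok34 : data.stepsOK st34 8500 = true := by decide +kernel
def st35 : List Step := [(0,[],[]),
(0,[],[]),
(0,[],[]),
(0,[],[]),
(4,[17010,17012,17126,17484,17486,17488,17490,17492,17494,17496,17498,17500,17502,17504,17506],[8505,15555,7983,17034,17048]),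
(0,[],[]),
(0,[],[]),
(0,[],[]),
(0,[],[]),
(0,[],[]),
(0,[],[]),
(0,[],[]),
(0,[],[]),
(0,[],[]),
(0,[],[]),
(4,[8537,16852,16785,16783,16781,17474,17510,17512,17514,17516,17518,17520,17522,17524,17526,17528],[16860,16879,16877,8544]),
(0,[],[]),
(2,[8546,8548,17532],[17531,17529]),
(0,[],[]),
(2,[8552,8554,8556,17125,17482],[17536]),
(1,[17539],[]),
(1,[17541,17537],[]),
(0,[],[]),
(0,[],[]),
(0,[],[]),
(0,[],[]),
(0,[],[]),
(0,[],[]),
(0,[],[]),
(4,[8551,17532,17534,17527,17544,17546,17548,17550,17552,17554,17556],[17543,17483,17124,8558,15555,7983,17034,17048,17509]),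
(0,[],[]),
(0,[],[]),
(0,[],[]),
(0,[],[]),
(0,[],[]),
(0,[],[]),
(0,[],[]),
(0,[],[]),
(2,[8744,8874,17570,17574],[8678]),
(6,[8677,1978,1980,1930,1869,88,90,92,94,1921,2028,2060,2095,2167,2165,8973,9212,9214,9267,9268],[8678,17577,17575,17572]),
(1,[17579],[]),
(1,[17581,17573],[]),
(0,[],[]),
(0,[],[]),
(0,[],[]),
(0,[],[]),
(0,[],[]),
(0,[],[]),
(0,[],[]),
(3,[8680,8682,8684,17584,17586,17588,17590,17592,17594,17596],[17577]),
(0,[],[]),
(0,[],[]),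
(0,[],[]),
(0,[],[]),
(2,[8876,17606],[8740,8753,8841]),
(0,[],[]),
(0,[],[]),
(0,[],[]),
(0,[],[]),
(0,[],[]),
(0,[],[]),
(0,[],[]),
(0,[],[]),
(0,[],[]),
(0,[],[]),
(0,[],[]),
(4,[8751,8749,8873,8871,8869,17612,17614,17616,17618,17620,17622,17624,17626,17628,17630],[8841,17609,17607,8878,17600]),
(0,[],[]),
(0,[],[]),
(0,[],[]),
(0,[],[]),
(0,[],[]),
(0,[],[]),
(4,[8755,8402,1936,8579,8577,8782,15574,8893,17564,17566,17634,17636,17638,17640,17642,17644],[8778,8811,15577,8824]),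
(0,[],[]),
(0,[],[]),
(0,[],[]),
(0,[],[]),
(0,[],[]),
(0,[],[]),
(0,[],[]),
(0,[],[]),
(0,[],[]),
(0,[],[]),
(5,[17560,17562,17650,17652,17654,17656,17658,17660,17662,17664,17666],[8785,15574,8893,17564]),
(2,[8826,8828,17648],[17647,17645]),
(0,[],[]),
(2,[8832,8834,8836,17610],[17672]),
(0,[],[]),
(0,[],[]),
(0,[],[]),
(0,[],[]),
(0,[],[]),
(0,[],[]),
(0,[],[]),
(4,[8831,17648,17670,17643,17676,17678,17680,17682,17684,17686,17688],[17672,17675,17611,8838,17609,17607,8878,17600,17633]),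
(0,[],[]),
(0,[],[]),
(0,[],[]),
(2,[8880,8882,8884],[17600,17633,17691]),
(1,[17699],[]),
(1,[17701,17689],[]),
(1,[8887,17702],[]),
(1,[17701,17690],[]),
(1,[17705],[]),
(1,[17709,17687],[]),
(0,[],[]),
(0,[],[]),
(0,[],[]),
(0,[],[]),
(0,[],[]),
(0,[],[]),
(0,[],[]),
(0,[],[]),
(0,[],[]),
(0,[],[]),
(0,[],[]),
(0,[],[]),
(0,[],[]),
(4,[17692,17694,17696,17714,17716,17718,17720,17722,17724,17726,17728,17730,17732,17734,17736],[8883,8881,17600,17602,17712]),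
(2,[8888,8890,17564,17566,17568],[17710]),
(1,[17741],[]),
(1,[17743,17711],[]),
(0,[],[]),
(0,[],[]),
(0,[],[]),
(0,[],[]),
(0,[],[]),
(0,[],[]),
(0,[],[]),
(0,[],[]),
(0,[],[]),
(0,[],[]),
(0,[],[]),
(4,[8887,17706,17632,17602,17604,17746,17748,17750,17752,17754,17756,17758,17760,17762,17764,17766],[17745,17569,17567,17669]),
(6,[8893,17564,17669,17667],[15575,8783,8576,8578,1937,1935,1933,1695,1578,1580,1582,1584,1586,8033,8085,8083,8081,17160,17162]),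
(0,[],[]),
(0,[],[]),
(0,[],[]),
(0,[],[]),
(0,[],[]),
(0,[],[]),
(2,[9130,9541,17780,17782],[9521]),
(0,[],[]),
(0,[],[]),
(0,[],[]),
(0,[],[]),
(0,[],[]),
(0,[],[]),
(0,[],[]),
(0,[],[]),
(4,[9132,9492,9449,2291,9418,9420,9332,9386,9388,17786,17788,17790,17792,17794,17796,17798,17800],[9131,9521,17785]),
(0,[],[]),
(2,[9468,9470,9472,17804],[9138]),
(0,[],[]),
(0,[],[]),
(0,[],[]),
(0,[],[]),
(0,[],[]),
(0,[],[]),
(0,[],[]),
(0,[],[]),
(4,[9137,2296,9135,9133,9541,17780,17782,17803,17808,17810,17812,17814,17816,17818,17820,17822],[9138,17807,17805,9474]),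
(6,[6386,6388,6390,6472,15532,14931,14929,14927,14925,14923],[6627,15829,15827,6398,15820,15822,15874,15925,16941,15934,17381,17379,17377,17375]),
(1,[17827],[]),
(1,[17829,17373],[]),
(1,[14920,17830],[]),
(1,[17833],[]),
(1,[17835,17371],[]),
(2,[15078],[14918,17836,17369,17367,17415]),
(1,[17839],[]),
(1,[17841,17413],[]),
(1,[15078,17842],[]),
(1,[17845],[]),
(1,[17847,17411],[]),
(1,[14916,17848],[]),
(1,[17851],[]),
(1,[17853,17409],[]),
(1,[15024,17854],[]),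
(1,[17857],[]),
(1,[17859,17407],[]),
(1,[15440,17860],[]),
(1,[17863],[]),
(1,[17865,17405],[]),
(1,[14591,17866],[]),
(1,[17869],[]),
(1,[17871,17403],[]),
(1,[14593,17872],[]),
(1,[17875],[]),
(1,[17877,17401],[]),
(2,[],[15817,14582,14595,17878,17399]),
(2,[16228],[16250,16323,17480,17098]),
(3,[17343],[16753,16751,17296,17329,17157,17155,17158,17145,17143,17470]),
(2,[17012,17126,17128],[17042,17095]),
(2,[17036,17038,17040],[17048,17509,17559]),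
(1,[17889],[]),
(1,[17891,17558],[]),
(2,[17164,17166,17168],[17162,17771,17666]),
(1,[17895],[]),
(1,[17897,17769],[]),
(1,[17168,17898],[]),
(1,[17901],[]),
(1,[17903,17767],[]),
(1,[17166,17904],[]),
(1,[17907],[]),
(1,[17909,17765],[]),
(1,[17196,17910],[]),
(1,[17913],[]),
(1,[17915,17763],[]),
(1,[16566,17916],[]),
(1,[17919],[]),
(1,[17921,17761],[]),
(1,[16628,17922],[]),
(1,[17925],[]),
(1,[17927,17759],[]),
(1,[16626,17928],[]),
(1,[17931],[]),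
(1,[17933,17757],[]),
(1,[16624,17934],[]),
(1,[17937],[]),
(1,[17939,17755],[]),
(1,[16622,17940],[]),
(1,[17943],[]),
(1,[17945,17753],[]),
(1,[16620,17946],[]),
(1,[17949],[]),
(1,[17951,17751],[]),
(2,[17390,17392,17394],[17469,17467]),
(2,[17604,17746,17748],[17712,17739]),
(6,[17603,17601,8879,17606,17608,8840,8751,8749,8747,8874,17570,17574,17599,17597,17595],[17712,17739,17957,17953,16619,16617,16615,16613]),
(5,[],[17773,9240,9242,9214,9267,9268,17582,17574,17599,17597,17595,17958,16611,17000,16661]),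
(6,[17773,9240,9242,9214,9216,9042,2161,2159,2157,9096,9098,9100,2299,9135,9133,9541,17780,17782,17803,17808],[17960,16659,16657]),
(0,[],[]),
(0,[],[]),
(0,[],[]),
(0,[],[]),
(0,[],[]),
(0,[],[]),
(0,[],[]),
(0,[],[]),
(4,[17774,17776,17778,17964,17966,17968,17970,17972,17974,17976,17978],[9187,9184,9126,9128,9521,17785,17803,17801,17799]),
(0,[],[]),
(0,[],[]),
(0,[],[]),
(0,[],[]),
(0,[],[]),
(0,[],[]),
(0,[],[]),
(0,[],[]),
(0,[],[])]
theorem ok35 : data.stepsOK st35 8750 = true := by decide +kernel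
end

end Cube
end HN
end H23
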