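import Mathlib
import Cfsg.Agent.H23.HN.Cube.Data

/-!
A derivation that a word fixes the first coset (generated data).
-/

set_option autoImplicit false
set_option maxRecDepth 100000
set_option linter.all false
set_option Elab.async false

namespace H23
namespace HN
namespace Cube

open H93.CosetI

noncomputable section

def st36 : List Step := [(0,[],[]),
(0,[],[]),
(0,[],[]),
(0,[],[]),
(0,[],[]),
(0,[],[]),
(0,[],[]),
(0,[],[]),
(0,[],[]),
(4,[9594,9596,17990,17994,17996,17998,18000,18002,18004,18006,18008,18010,18012,18014,18016],[9357,9355,15579,9600,17992]),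
(0,[],[]),
(0,[],[]),
(0,[],[]),
(0,[],[]),
(0,[],[]),
(0,[],[]),
(0,[],[]),
(2,[18022,18028,18030,18032],[9374]),
(0,[],[]),
(0,[],[]),
(0,[],[]),
(0,[],[]),
(0,[],[]),
(3,[9376,9378,9380,17984,17986,18036,18038,18040,18042,18044],[18035]),
(0,[],[]),
(0,[],[]),
(0,[],[]),
(0,[],[]),
(0,[],[]),
(0,[],[]),
(0,[],[]),
(0,[],[]),
(0,[],[]),
(0,[],[]),
(5,[18035,18047,18048,18050,18052,18054,18056,18058,18060,18062,18064,18066],[9376,18024,18026]),
(0,[],[]),
(2,[17984,18020,18070],[9382,9397]),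
(0,[],[]),
(0,[],[]),
(0,[],[]),
(0,[],[]),
(0,[],[]),
(0,[],[]),
(0,[],[]),
(0,[],[]),
(0,[],[]),
(0,[],[]),
(0,[],[]),
(0,[],[]),
(4,[9381,9379,18024,18026,18069,18074,18076,18078,18080,18082,18084,18086,18088,18090,18092,18094,18096],[9382,9397,18073]),
(0,[],[]),
(2,[9388,17786,18100],[9422,9491]),
(0,[],[]),
(0,[],[]),
(0,[],[]),
(0,[],[]),
(0,[],[]),
(0,[],[]),
(5,[9392,9394,18073,18099,18097,18104,18106,18108,18110,18112,18114],[9391,17786,17788,17790]),
(0,[],[]),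
(0,[],[]),
(0,[],[]),
(0,[],[]),
(0,[],[]),
(0,[],[]),
(3,[9424,9426,9428,18118,18120,18122,18124,18126,18128],[9491,9489]),
(0,[],[]),
(0,[],[]),
(0,[],[]),
(0,[],[]),
(0,[],[]),
(0,[],[]),
(0,[],[]),
(0,[],[]),
(0,[],[]),
(0,[],[]),
(0,[],[]),
(0,[],[]),
(0,[],[]),
(0,[],[]),
(4,[9424,17988,18132,18134,18136,18138,18140,18142,18144,18146,18148,18150,18152,18154,18156,18158],[9491,18103,18101,17788]),
(0,[],[]),
(0,[],[]),
(0,[],[]),
(0,[],[]),
(0,[],[]),
(2,[18118,18162,18168,18170],[9430]),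
(0,[],[]),
(2,[9476,9478,18174],[17825,17823]),
(0,[],[]),
(2,[9482,9484,9486,18131],[18178]),
(0,[],[]),
(0,[],[]),
(0,[],[]),
(0,[],[]),
(0,[],[]),
(0,[],[]),
(0,[],[]),
(4,[9481,18174,18176,17821,18182,18184,18186,18188,18190,18192,18194],[18178,18181,18130,9488,18103,18101,17788,18161,18159]),
(2,[9602,9604,9606],[17992,18019]),
(0,[],[]),
(0,[],[]),
(2,[9616,9618,9620,18202],[18200]),
(0,[],[]),
(0,[],[]),
(0,[],[]),
(0,[],[]),
(0,[],[]),
(0,[],[]),
(0,[],[]),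
(0,[],[]),
(0,[],[]),
(0,[],[]),
(0,[],[]),
(0,[],[]),
(0,[],[]),
(0,[],[]),
(0,[],[]),
(5,[9707,12967,15632,18214,18220,18222,18224,18226,18228,18230,18232,18234],[10212,10214,10763]),
(0,[],[]),
(0,[],[]),
(0,[],[]),
(0,[],[]),
(0,[],[]),
(0,[],[]),
(0,[],[]),
(0,[],[]),
(0,[],[]),
(0,[],[]),
(0,[],[]),
(0,[],[]),
(4,[10484,10486,10488,18238,18240,18242,18244,18246,18248,18250,18252,18254,18256,18258,18260],[9723,9721,9697,12944,18208]),
(0,[],[]),
(0,[],[]),
(0,[],[]),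
(0,[],[]),
(0,[],[]),
(0,[],[]),
(0,[],[]),
(0,[],[]),
(0,[],[]),
(2,[18264,18268,18278,18280],[9748]),
(0,[],[]),
(0,[],[]),
(0,[],[]),
(0,[],[]),
(0,[],[]),
(0,[],[]),
(0,[],[]),
(0,[],[]),
(0,[],[]),
(0,[],[]),
(0,[],[]),
(0,[],[]),
(0,[],[]),
(0,[],[]),
(4,[9750,18266,18284,18286,18288,18290,18292,18294,18296,18298,18300,18302,18304,18306,18308,18310],[18283,18281,18279,18270]),
(0,[],[]),
(2,[18266,18284,18314],[9752,10529]),
(0,[],[]),
(0,[],[]),
(0,[],[]),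
(0,[],[]),
(0,[],[]),
(0,[],[]),
(4,[9754,10490,15328,11726,4082,10870,10872,10874,10876,10878,18318,18320,18322,18324,18326,18328],[10529,18317,18315,18286]),
(0,[],[]),
(2,[10133,11572,18332],[9826,11441]),
(0,[],[]),
(0,[],[]),
(0,[],[]),
(0,[],[]),
(0,[],[]),
(0,[],[]),
(0,[],[]),
(0,[],[]),
(0,[],[]),
(0,[],[]),
(0,[],[]),
(4,[9857,3472,11412,11405,10098,10100,18336,18338,18340,18342,18344,18346,18348,18350,18352,18354,18356],[9826,11441,18335]),
(6,[9857,3472,3474,3476,3478,3480,3482,3484,3496,3498,11600,11602,11635,11280,11282,11284,11286,11288,11290,11292],[9826,11441,18335,18359]),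
(1,[18361],[]),
(1,[18363,18358],[]),
(0,[],[]),
(2,[10143,11442,18366],[9866,11599]),
(0,[],[]),
(0,[],[]),
(0,[],[]),
(0,[],[]),
(0,[],[]),
(0,[],[]),
(0,[],[]),
(4,[9865,3246,9859,9856,10133,11572,18332,18365,11294,13010,18370,18372,18374,18376,18378,18380,18382],[9866,11599,18369]),
(0,[],[]),
(0,[],[]),
(0,[],[]),
(0,[],[]),
(0,[],[]),
(0,[],[]),
(0,[],[]),
(0,[],[]),
(0,[],[]),
(0,[],[]),
(0,[],[]),
(0,[],[]),
(0,[],[]),
(0,[],[]),
(5,[10037,10064,10066,10068,18398,18400,18402,18404,18406,18408,18410,18412],[10038,10040,18386]),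
(6,[10038,10040,18386,18415],[10037,10035,2548,2550,2552,2436,127,125,123,235,2394,2396,2442,9683,9681,9699,9697,12944,18208,18263]),
(1,[18416],[]),
(1,[18419,18414],[]),
(0,[],[]),
(0,[],[]),
(0,[],[]),
(0,[],[]),
(0,[],[]),
(0,[],[]),
(0,[],[]),
(0,[],[]),
(0,[],[]),
(4,[18386,18421,18262,18210,18212,18422,18424,18426,18428,18430,18432,18434,18436,18438],[10041,10115,10113,10111,10109,10107]),
(2,[10098,10100,18336],[11418,11455]),
(0,[],[]),
(0,[],[]),
(0,[],[]),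
(0,[],[]),
(0,[],[]),
(0,[],[]),
(0,[],[]),
(4,[11404,11379,3244,9864,10143,11442,18366,18385,18388,18444,18446,18448,18450,18452,18454,18456],[11418,11455,18443,18338]),
(0,[],[]),
(0,[],[]),
(0,[],[]),
(0,[],[]),
(0,[],[]),
(0,[],[]),
(0,[],[]),
(0,[],[]),
(5,[10101,11416,11386,11388,18460,18462,18464,18466,18468,18470,18472,18474],[10102,10104,18441]),
(0,[],[]),
(0,[],[]),
(0,[],[]),
(0,[],[]),
(3,[18441,18439,18478,18480,18482,18484],[10105,10103,18336,18338,18459]),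
(0,[],[]),
(0,[],[]),
(0,[],[]),
(0,[],[]),
(0,[],[]),
(0,[],[])]
theorem ok36 : data.stepsOK st36 9000 = true := by decide +kernel
def st37 : List Step := [(0,[],[]),
(0,[],[]),
(0,[],[]),
(2,[15676,18206],[10164,10173,10530]),
(0,[],[]),
(0,[],[]),
(0,[],[]),
(0,[],[]),
(0,[],[]),
(4,[10170,10172,10165,10163,10161,18494,18498,18500,18502,18504,18508,18510,18512,18514,18516],[11571,15658,15329,10492,15332]),
(0,[],[]),
(0,[],[]),
(0,[],[]),
(0,[],[]),
(0,[],[]),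
(4,[10171,10169,9757,9755,9753,18266,18284,18286,18288,18290,18520,18522,18524,18526,18528],[10530,18507,18207,12334,18496]),
(0,[],[]),
(0,[],[]),
(0,[],[]),
(0,[],[]),
(0,[],[]),
(0,[],[]),
(0,[],[]),
(0,[],[]),
(0,[],[]),
(0,[],[]),
(0,[],[]),
(0,[],[]),
(4,[10221,10796,10798,18216,18218,18536,18538,18540,18542,18544,18546,18548,18550,18552,18554],[10699,10697,2917,10285,10726]),
(0,[],[]),
(0,[],[]),
(0,[],[]),
(0,[],[]),
(0,[],[]),
(0,[],[]),
(0,[],[]),
(0,[],[]),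
(0,[],[]),
(0,[],[]),
(2,[10738,18572],[10282,10726,18557]),
(0,[],[]),
(0,[],[]),
(0,[],[]),
(0,[],[]),
(0,[],[]),
(0,[],[]),
(0,[],[]),
(0,[],[]),
(0,[],[]),
(0,[],[]),
(0,[],[]),
(0,[],[]),
(0,[],[]),
(4,[10928,10894,11004,18582,18584,18586,18588,18590,18592,18594,18596,18598,18600,18602,18604],[10289,10287,2971,10737,10954]),
(0,[],[]),
(6,[2849,2646,2648,2650,2652,2910,2912,2914,10285,10283,10738,18572,18574,18576],[2850,4413,10581,2982,10584,11026,11030,11051,15705,13160]),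
(1,[18610],[]),
(1,[18613,18577],[]),
(6,[3235,2956,2958,2960,2962,4036,4038,4040,10951,10949,12184],[3630,3581,11375,3242,11378,11405,11418,11455,18443,18338,18459,18487]),
(6,[10434,12040,12042,12044,12046,12048,12050,12052,12766,13230,13232,15757,15415,12168,12170,12172,12174,12176,12178,12180,12247,12245],[18608]),
(2,[10494,10496,10498],[15332,18519]),
(2,[10896,10898],[10734,10954,18607]),
(2,[10756,10758,10760,18237,18532],[]),
(2,[12184,18616,18485],[10948,11760]),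
(2,[11016,11018,11020,12943,18558,18560],[]),
(1,[18628],[]),
(1,[18631,18562],[]),
(1,[11014,18632],[]),
(1,[18631,18561],[]),
(1,[18635],[]),
(1,[18639,18564],[]),
(2,[12336,12338,18492],[18496,18531]),
(2,[17790,17792,17794],[18161,18159,18197]),
(1,[18645],[]),
(1,[18647,18195],[]),
(1,[17797,18648],[]),
(1,[18651],[]),
(1,[18653,18193],[]),
(1,[17980,18654],[]),
(1,[18657],[]),
(1,[18659,18191],[]),
(2,[17798,17800,17808,17810,17982],[17981]),
(1,[18662],[]),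
(1,[18665,17983],[]),
(1,[18661,18666],[]),
(1,[18668],[]),
(1,[18671,18661],[]),
(2,[18272,18274,18276],[18313,18311]),
(2,[18288,18290,18292],[18331,18329]),
(2,[18434,18436,18438,18477,18488],[]),
(0,[],[]),
(0,[],[]),
(0,[],[]),
(0,[],[]),
(0,[],[]),
(2,[18680,18688],[10432,18608,18619,12244]),
(1,[18690],[]),
(1,[18693,18689],[]),
(0,[],[]),
(0,[],[]),
(0,[],[]),
(0,[],[]),
(0,[],[]),
(0,[],[]),
(0,[],[]),
(0,[],[]),
(0,[],[]),
(0,[],[]),
(0,[],[]),
(4,[10493,15328,15659,11569,15668,18696,18698,18700,18702,18704,18706,18708,18710,18712,18714,18716],[15332,18519,18621,10500]),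
(0,[],[]),
(2,[10502,10504,18720],[18719,18717]),
(0,[],[]),
(0,[],[]),
(0,[],[]),
(0,[],[]),
(0,[],[]),
(4,[10507,18720,18722,18715,18724,18726,18728,18730,18732],[15701,11523,11190,10514,3453,11363,11498,11504,11549,15717,11554]),
(0,[],[]),
(0,[],[]),
(0,[],[]),
(0,[],[]),
(0,[],[]),
(0,[],[]),
(3,[10728,10768,10770,18736,18738,18740,18742,18744,18746],[18557,18555]),
(0,[],[]),
(0,[],[]),
(0,[],[]),
(0,[],[]),
(0,[],[]),
(0,[],[]),
(0,[],[]),
(0,[],[]),
(0,[],[]),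
(0,[],[]),
(4,[10728,10730,10977,10975,10973,18750,18752,18754,18756,18758,18760,18762,18764,18766,18768],[18557,18579,18573,10740,18566]),
(0,[],[]),
(0,[],[]),
(0,[],[]),
(2,[10742,10744,10746],[18566,18771]),
(0,[],[]),
(0,[],[]),
(5,[18566,18568,18780,18782],[10741,18572,18574,18615,13161,15704,11049,15706,14893,15786,15103]),
(0,[],[]),
(0,[],[]),
(0,[],[]),
(0,[],[]),
(0,[],[]),
(0,[],[]),
(0,[],[]),
(0,[],[]),
(0,[],[]),
(0,[],[]),
(0,[],[]),
(4,[10741,18572,18578,18555,18749,18786,18788,18790,18792,18794,18796,18798,18800,18802,18804,18806],[18566,18771,18779,10748]),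
(0,[],[]),
(0,[],[]),
(0,[],[]),
(0,[],[]),
(0,[],[]),
(0,[],[]),
(0,[],[]),
(0,[],[]),
(0,[],[]),
(0,[],[]),
(0,[],[]),
(0,[],[]),
(4,[18772,18774,18776,18810,18812,18814,18816,18818,18820,18822,18824,18826,18828,18830,18832],[10745,10743,18566,18568,18780]),
(0,[],[]),
(2,[10750,10752,18836],[18809,18807]),
(0,[],[]),
(0,[],[]),
(0,[],[]),
(0,[],[]),
(0,[],[]),
(0,[],[]),
(0,[],[]),
(0,[],[]),
(0,[],[]),
(0,[],[]),
(0,[],[]),
(0,[],[]),
(4,[10749,18778,18770,18568,18570,18840,18842,18844,18846,18848,18850,18852,18854,18856,18858,18860,18862],[18809,18807,18839]),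
(0,[],[]),
(0,[],[]),
(0,[],[]),
(0,[],[]),
(0,[],[]),
(0,[],[]),
(0,[],[]),
(0,[],[]),
(0,[],[]),
(0,[],[]),
(5,[18625,18534,18866,18868,18870,18872,18874,18876,18878,18880,18882,18884],[10755,18836,18865]),
(6,[10755,18836,18865,18887],[18625,18533,18236,10762,10215,10213,9707,9705,9737,12979,15370,5260,13034,13199,14015,5268,14065,13428,14090,14103]),
(1,[18888],[]),
(1,[18891,18886],[]),
(0,[],[]),
(0,[],[]),
(0,[],[]),
(0,[],[]),
(0,[],[]),
(0,[],[]),
(0,[],[]),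
(0,[],[]),
(0,[],[]),
(5,[12165,11644,12183,12247,18694,18682,18684,18686,18904,18906,18908,18910],[10883,12212,12349]),
(0,[],[]),
(0,[],[]),
(0,[],[]),
(0,[],[]),
(0,[],[]),
(0,[],[]),
(0,[],[]),
(0,[],[]),
(0,[],[]),
(0,[],[]),
(0,[],[]),
(0,[],[]),
(3,[10934,10936,10938,18926,18928,18930,18932,18934,18936],[11003,11001]),
(0,[],[]),
(0,[],[]),
(0,[],[]),
(0,[],[]),
(0,[],[]),
(0,[],[]),
(0,[],[]),
(0,[],[]),
(0,[],[]),
(0,[],[]),
(0,[],[]),
(0,[],[]),
(0,[],[]),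
(0,[],[]),
(4,[10934,18580,18940,18942,18944,18946,18948,18950,18952,18954,18956,18958,18960,18962,18964,18966],[11003,15703,11007,18582]),
(0,[],[]),
(0,[],[]),
(0,[],[]),
(0,[],[]),
(0,[],[]),
(0,[],[]),
(0,[],[]),
(0,[],[]),
(0,[],[]),
(0,[],[]),
(0,[],[]),
(0,[],[]),
(0,[],[]),
(0,[],[]),
(0,[],[])]
theorem ok37 : data.stepsOK st37 9250 = true := by decide +kernel
def st38 : List Step := [(0,[],[]),
(4,[10956,10958,18924,18978,18980,18982,18984,18986,18988,18990,18992,18994,18996,18998,19000],[18607,18623,10899,10978,18922]),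
(2,[10980,10982,10984],[18922,19003]),
(0,[],[]),
(0,[],[]),
(0,[],[]),
(0,[],[]),
(0,[],[]),
(0,[],[]),
(0,[],[]),
(0,[],[]),
(0,[],[]),
(0,[],[]),
(4,[10979,10898,18622,18605,18894,18896,19006,19008,19010,19012,19014,19016,19018,19020,19022,19024],[18922,19003,19005,10986]),
(0,[],[]),
(2,[10988,10990,19028],[19027,19025]),
(0,[],[]),
(2,[10994,10996,10998,18939],[19032]),
(0,[],[]),
(0,[],[]),
(0,[],[]),
(0,[],[]),
(0,[],[]),
(0,[],[]),
(0,[],[]),
(4,[10993,19028,19030,19023,19036,19038,19040,19042,19044,19046,19048],[19032,19035,18938,11000,15703,11007,18582,18969,18967]),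
(0,[],[]),
(0,[],[]),
(0,[],[]),
(0,[],[]),
(0,[],[]),
(0,[],[]),
(0,[],[]),
(0,[],[]),
(0,[],[]),
(0,[],[]),
(5,[18636,19052,19054,19056,19058,19060,19062,19064,19066,19068,19070],[11015,18640,18916,18918]),
(0,[],[]),
(2,[13430,13432],[14090,14103,18892,18863]),
(1,[19077],[]),
(1,[19079,18861],[]),
(1,[13432,19080],[]),
(1,[19083],[]),
(1,[19085,18859],[]),
(1,[14085,19086],[]),
(1,[19089],[]),
(1,[19091,18857],[]),
(1,[14055,19092],[]),
(1,[19095],[]),
(1,[19097,18855],[]),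
(2,[18570,18840,18842],[18780,18835]),
(2,[18584,18586,18588],[18969,18967,19051]),
(1,[19103],[]),
(1,[19105,19050],[]),
(0,[],[]),
(0,[],[]),
(0,[],[]),
(0,[],[]),
(0,[],[]),
(0,[],[]),
(0,[],[]),
(0,[],[]),
(0,[],[]),
(0,[],[]),
(0,[],[]),
(0,[],[]),
(4,[18390,18392,18394,19108,19110,19112,19114,19116,19118,19120,19122,19124,19126,19128,19130],[11165,11163,15715,13548,18396]),
(0,[],[]),
(0,[],[]),
(0,[],[]),
(0,[],[]),
(0,[],[]),
(0,[],[]),
(0,[],[]),
(0,[],[]),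
(0,[],[]),
(5,[11299,13009,13007,19134,19136,19138,19140,19142,19144,19146,19148,19150],[11300,11302,13023]),
(0,[],[]),
(0,[],[]),
(0,[],[]),
(0,[],[]),
(0,[],[]),
(0,[],[]),
(0,[],[]),
(3,[11306,19156,19158,19160,19162,19164,19166],[11305,13023,19153,19151]),
(0,[],[]),
(0,[],[]),
(0,[],[]),
(0,[],[]),
(0,[],[]),
(0,[],[]),
(0,[],[]),
(4,[11560,11562,11564,15680,11717,11065,11728,11730,11732,11734,19174,19176,19178,19180,19182],[11559,11557,18735,19170,19172]),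
(6,[3210,4571,4569,11247,11296,11298,11300,11302,13023,19153,19154],[3233,11159,10021,3450,11363,11498,11504,11549,15717,11554,18735,19170,19172]),
(1,[19187],[]),
(1,[19189,19185],[]),
(1,[19154,19190],[]),
(1,[19193],[]),
(1,[19195,19183],[]),
(1,[19150,19196],[]),
(1,[19199],[]),
(1,[19201,19181],[]),
(1,[19168,19202],[]),
(1,[19205],[]),
(1,[19207,19179],[]),
(2,[13550,13552,13554],[18396,19133]),
(6,[13549,15714,11161,10018,15686,9994,11321,12918,11023,12943,18558,18637,11015,18640,18916,18918,18920],[18396,19133,19211,13556,13619,13617,13615]),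
(1,[19212],[]),
(1,[19215,18921],[]),
(1,[13612,19216],[]),
(1,[19219],[]),
(1,[19221,19073],[]),
(1,[13610,19222],[]),
(1,[19221,18919],[]),
(1,[19225],[]),
(1,[19229,19071],[]),
(2,[13604,13606,13608,19230],[13650]),
(6,[13603,4906,4908,4910,4912,13706,13737,13791,13789,13787],[13650,19233,19231,13610,19226,18917,18641,11013,11011,11009,11007,18582,18969,18967]),
(1,[19235],[]),
(1,[19237,19107],[]),
(1,[13787,19238],[]),
(1,[19241],[]),
(1,[19243,18589],[]),
(0,[],[]),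
(0,[],[]),
(0,[],[]),
(0,[],[]),
(0,[],[]),
(0,[],[]),
(0,[],[]),
(0,[],[]),
(0,[],[]),
(0,[],[]),
(4,[19174,19176,19209,19167,19165,19246,19248,19250,19252,19254,19256,19258,19260,19262,19264],[11735,11733,15438,15186,15188]),
(0,[],[]),
(0,[],[]),
(0,[],[]),
(0,[],[]),
(0,[],[]),
(0,[],[]),
(0,[],[]),
(0,[],[]),
(3,[11856,11858,11860,19274,19276,19278,19280,19282],[15721,14764,14766]),
(2,[19074,19268,19270],[15188,19267]),
(6,[15187,15439,11731,15434,15713,12396,15681,11566,11568,11570,10169,9757,9755,9753,9751,9749,18264,18268,18270,18272],[15188,19267,19287,19272]),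
(1,[19289],[]),
(1,[19291,19273],[]),
(0,[],[]),
(0,[],[]),
(0,[],[]),
(0,[],[]),
(0,[],[]),
(0,[],[]),
(0,[],[]),
(0,[],[]),
(0,[],[]),
(0,[],[]),
(0,[],[]),
(0,[],[]),
(0,[],[]),
(4,[18898,18900,18914,19296,19298,19300,19302,19304,19306,19308,19310,19312,19314,19316,19318],[12215,12213,10881,18318,18902]),
(0,[],[]),
(2,[12342,12344,12346,18913,19294],[19322]),
(1,[19325],[]),
(1,[19327,19323],[]),
(0,[],[]),
(0,[],[]),
(0,[],[]),
(0,[],[]),
(0,[],[]),
(0,[],[]),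
(0,[],[]),
(4,[12341,18492,18642,18529,19330,19332,19334,19336,19338,19340,19342],[19329,19295,18912,12348,12213,10881,18318,18902,19321]),
(0,[],[]),
(0,[],[]),
(0,[],[]),
(0,[],[]),
(0,[],[]),
(0,[],[]),
(0,[],[]),
(0,[],[]),
(0,[],[]),
(0,[],[]),
(0,[],[]),
(0,[],[]),
(0,[],[]),
(0,[],[]),
(0,[],[]),
(4,[12425,15239,15236,12655,15263,19354,19356,19358,19360,19362,19364,19366,19368,19370,19372,19374],[15277,15275,15723,12432]),
(0,[],[]),
(0,[],[]),
(0,[],[]),
(0,[],[]),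
(0,[],[]),
(0,[],[]),
(0,[],[]),
(0,[],[]),
(0,[],[]),
(0,[],[]),
(0,[],[]),
(0,[],[]),
(4,[19348,19350,19352,19378,19380,19382,19384,19386,19388,19390,19392,19394,19396,19398,19400],[12429,12427,15277,15282,15284]),
(0,[],[]),
(2,[12434,12436,19404],[19377,19375]),
(0,[],[]),
(0,[],[]),
(0,[],[]),
(0,[],[]),
(0,[],[]),
(0,[],[]),
(0,[],[]),
(0,[],[]),
(0,[],[]),
(0,[],[]),
(0,[],[]),
(0,[],[]),
(4,[12433,15722,15274,15282,19346,19408,19410,19412,19414,19416,19418,19420,19422,19424,19426,19428,19430],[19377,19375,19407]),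
(0,[],[]),
(0,[],[]),
(0,[],[]),
(0,[],[]),
(0,[],[]),
(4,[12439,19404,19406,19373,19434,19436,19438,19440,19442],[15725,12609,12562,12446,4213,12540,12542,12588,12635,15727,12640]),
(0,[],[]),
(0,[],[]),
(0,[],[]),
(0,[],[]),
(2,[12642,12644,19446],[19445,19443]),
(2,[12648,12650,12652,15263,19354,19356],[]),
(1,[19456],[]),
(1,[19459,19358],[]),
(1,[12646,19460],[]),
(1,[19463],[]),
(1,[19465,19360],[]),
(1,[19447,19466],[]),
(1,[19468],[]),
(1,[19471,19454],[]),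
(1,[19363,19472],[]),
(1,[19475],[]),
(1,[19477,19441],[]),
(1,[19365,19478],[]),
(1,[19477,19442],[]),
(1,[19481],[]),
(1,[19485,19439],[]),
(2,[19346,19408,19410],[15284,19403]),
(2,[18320,18322,18324],[18902,19321,19345]),
(1,[19491],[]),
(1,[19493,19344],[]),
(0,[],[]),
(0,[],[])]
theorem ok38 : data.stepsOK st38 9500 = true := by decide +kernel
def st39 : List Step := [(0,[],[]),
(0,[],[]),
(0,[],[]),
(4,[12646,12648,12650,15249,13987,13173,13998,14000,14002,14004,19496,19498,19500,19502,19504],[12645,12643,19445,19448,19450]),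
(6,[5520,11853,11851,14685,14760,14762,14764,14766,19285],[5575,12513,5861,4210,12540,12542,12588,12635,15727,12640,19445,19448,19450,19507]),
(2,[19282,19508,19506,19451,19452],[]),
(0,[],[]),
(0,[],[]),
(0,[],[]),
(0,[],[]),
(0,[],[]),
(0,[],[]),
(0,[],[]),
(0,[],[]),
(0,[],[]),
(5,[14088,19512,19514,19516,19518,19520,19522,19524,19526,19528],[13335,13426,13428,13430,14084]),
(0,[],[]),
(0,[],[]),
(0,[],[]),
(0,[],[]),
(0,[],[]),
(0,[],[]),
(0,[],[]),
(0,[],[]),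
(0,[],[]),
(0,[],[]),
(0,[],[]),
(5,[13639,19536,19538,19540,19542,19544,19546,19548,19550,19552],[13640,13642,13674,13676,13678]),
(0,[],[]),
(0,[],[]),
(0,[],[]),
(0,[],[]),
(0,[],[]),
(0,[],[]),
(0,[],[]),
(2,[13676,19556,19568],[13710,13769]),
(0,[],[]),
(0,[],[]),
(0,[],[]),
(0,[],[]),
(0,[],[]),
(0,[],[]),
(0,[],[]),
(0,[],[]),
(0,[],[]),
(0,[],[]),
(0,[],[]),
(4,[13675,13644,4910,13705,13703,13738,19572,19574,19576,19578,19580,19582,19584,19586,19588,19590,19592],[13710,13769,19571]),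
(0,[],[]),
(0,[],[]),
(0,[],[]),
(0,[],[]),
(0,[],[]),
(0,[],[]),
(0,[],[]),
(0,[],[]),
(0,[],[]),
(0,[],[]),
(0,[],[]),
(0,[],[]),
(4,[13678,19555,19596,19598,19600,19602,19604,19606,19608,19610,19612,19614,19616,19618],[13677,13710,13769,13767,13765,13763]),
(0,[],[]),
(2,[19555,19596,19622],[13680,19534]),
(0,[],[]),
(0,[],[]),
(0,[],[]),
(0,[],[]),
(0,[],[]),
(0,[],[]),
(0,[],[]),
(0,[],[]),
(0,[],[]),
(0,[],[]),
(0,[],[]),
(0,[],[]),
(0,[],[]),
(4,[13679,19556,19568,19595,19626,19628,19630,19632,19634,19636,19638,19640,19642,19644,19646,19648,19650],[13680,19534,19625]),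
(0,[],[]),
(0,[],[]),
(0,[],[]),
(0,[],[]),
(0,[],[]),
(0,[],[]),
(4,[13682,13684,13671,13669,13667,19558,19560,19562,19564,19566,19654,19656,19658,19660,19662,19664],[19534,19625,19623,19598]),
(0,[],[]),
(0,[],[]),
(0,[],[]),
(0,[],[]),
(0,[],[]),
(0,[],[]),
(0,[],[]),
(0,[],[]),
(0,[],[]),
(0,[],[]),
(0,[],[]),
(0,[],[]),
(0,[],[]),
(5,[13751,13792,19672,19674,19676,19678,19680,19682,19684,19686,19688,19690,19692],[13752,13754]),
(0,[],[]),
(0,[],[]),
(0,[],[]),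
(0,[],[]),
(0,[],[]),
(0,[],[]),
(0,[],[]),
(0,[],[]),
(0,[],[]),
(0,[],[]),
(5,[13757,19695,19696,19698,19700,19702,19704,19706,19708,19710,19712,19714],[13758,13760,19621]),
(0,[],[]),
(0,[],[]),
(0,[],[]),
(0,[],[]),
(0,[],[]),
(0,[],[]),
(0,[],[]),
(0,[],[]),
(0,[],[]),
(5,[14621,14298,14630,14816,19724,19726,19728,19730,19732,19734],[13813,14627,14624,15440,15023]),
(0,[],[]),
(0,[],[]),
(0,[],[]),
(0,[],[]),
(0,[],[]),
(0,[],[]),
(5,[13911,14843,14841,19738,19740,19742,19744,19746,19748],[14667,14665,14663,14724,14726,14728]),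
(6,[4901,13443,5275,13446,13332,13426,13428,13430,14084,19531,19532],[13364,13509,13621,4908,13645,13674,13710,13769,19571,19595,19593,19720,19722]),
(1,[19753],[]),
(1,[19755,19723],[]),
(2,[19531,19532,19756],[14054,19098,18853]),
(1,[19758],[]),
(1,[19761,19721],[]),
(1,[18850,19762],[]),
(1,[19765],[]),
(1,[19767,19592],[]),
(2,[18846,18848,19768,19626,19628,19630],[]),
(1,[19770],[]),
(1,[19773,19632],[]),
(1,[18844,19774],[]),
(1,[19777],[]),
(1,[19779,19634],[]),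
(1,[19101,19780],[]),
(1,[19783],[]),
(1,[19785,19636],[]),
(1,[18835,19786],[]),
(1,[19789],[]),
(1,[19791,19638],[]),
(1,[18783,19792],[]),
(1,[19795],[]),
(1,[19797,19640],[]),
(2,[19600,19602,19604],[19667,19665]),
(2,[19614,19616,19618,19717,19718],[]),
(2,[19642,19644],[19799,18784,15101,15099]),
(1,[19804],[]),
(1,[19807,19646],[]),
(0,[],[]),
(0,[],[]),
(0,[],[]),
(0,[],[]),
(0,[],[]),
(0,[],[]),
(0,[],[]),
(0,[],[]),
(0,[],[]),
(0,[],[]),
(0,[],[]),
(0,[],[]),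
(0,[],[]),
(0,[],[]),
(0,[],[]),
(4,[14593,14591,15440,15023,19737,19820,19822,19824,19826,19828,19830,19832,19834,19836,19838],[17878,17399,17881,15088,19816]),
(0,[],[]),
(0,[],[]),
(0,[],[]),
(0,[],[]),
(0,[],[]),
(3,[19751,19842,19844,19846,19848,19850],[14729,14727,14754,14785,14783]),
(0,[],[]),
(0,[],[]),
(4,[19751,19749,19854,19856],[14729,14815,14813,14811,14809,14807,16999,16767,16763,16761,16759,16757,16755,17343,17884,17472]),
(6,[14778,14780,19853,19851],[14777,14775,14773,14771,14769,19285,19283,19511,19453,19449,19483,19364,19486,19437,19435,19372,19407,19433,19431,19429]),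
(1,[19860],[]),
(1,[19863,19849],[]),
(1,[19426,19864],[]),
(1,[19867],[]),
(1,[19869,19847],[]),
(1,[19424,19870],[]),
(1,[19873],[]),
(1,[19875,19845],[]),
(2,[15090,15092,19812],[19816,19841]),
(0,[],[]),
(0,[],[]),
(0,[],[]),
(0,[],[]),
(0,[],[]),
(0,[],[]),
(0,[],[]),
(0,[],[]),
(0,[],[]),
(0,[],[]),
(0,[],[]),
(4,[14999,14997,19880,19882,19884,19886,19888,19890,19892,19894,19896,19898,19900],[14887,14978,15077,15103,15101,15099,19808]),
(0,[],[]),
(0,[],[]),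
(0,[],[]),
(0,[],[]),
(0,[],[]),
(0,[],[]),
(0,[],[]),
(0,[],[]),
(0,[],[]),
(0,[],[]),
(0,[],[]),
(4,[15089,17880,17398,19810,19818,19904,19906,19908,19910,19912,19914,19916,19918,19920,19922,19924],[19816,19841,19879,19814]),
(0,[],[]),
(0,[],[]),
(0,[],[]),
(0,[],[]),
(3,[19808,19903,19928,19930,19932,19934],[15097,15095,19812,19814,19927]),
(2,[19648,19650,19668,19670],[19903,19901]),
(1,[19939],[]),
(1,[19941,19900],[]),
(0,[],[]),
(0,[],[]),
(0,[],[]),
(0,[],[]),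
(0,[],[]),
(0,[],[]),
(2,[19944,19948,19952,19954],[15192]),
(0,[],[]),
(0,[],[]),
(0,[],[]),
(0,[],[]),
(0,[],[]),
(0,[],[]),
(0,[],[]),
(0,[],[]),
(0,[],[]),
(0,[],[]),
(0,[],[]),
(0,[],[]),
(0,[],[]),
(0,[],[]),
(4,[15194,19946,19958,19960,19962,19964,19966,19968,19970,19972,19974,19976,19978,19980,19982,19984],[19957,19955,19953,19950]),
(6,[15283,15276,12425,15239,15236,12656,6108,6110,6102,6038,6040,15148,15145,15201,15199,15197,19946,19958,19960,19962],[15284,19403,19489,19412]),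
(1,[19988],[]),
(1,[19991,19964],[]),
(1,[19415,19992],[]),
(1,[19995],[]),
(1,[19997,19966],[])]
theorem ok39 : data.stepsOK st39 9750 = true := by decide +kernel
def st40 : List Step := [(1,[19417,19998],[]),
(1,[20001],[]),
(1,[20003,19968],[]),
(1,[19419,20004],[]),
(1,[20007],[]),
(1,[20009,19970],[]),
(1,[19421,20010],[]),
(1,[20013],[]),
(1,[20015,19972],[]),
(1,[19423,20016],[]),
(1,[20019],[]),
(1,[20021,19974],[]),
(1,[19877,20022],[]),
(1,[20025],[]),
(1,[20027,19976],[]),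
(1,[19842,20028],[]),
(1,[20031],[]),
(1,[20033,19978],[]),
(1,[19748,20034],[]),
(1,[20037],[]),
(1,[20039,19980],[]),
(1,[19855,20040],[]),
(1,[20043],[]),
(1,[20045,19982],[]),
(1,[19857,20046],[]),
(1,[20049],[]),
(1,[20051,19984],[]),
(1,[19859,20052],[]),
(1,[20055],[]),
(1,[20057,19986],[]),
(1,[17472,20058],[]),
(1,[20061],[]),
(1,[20063,19951],[]),
(1,[17470,20064],[]),
(1,[20067],[]),
(1,[20069,19949],[]),
(1,[17140,20070],[]),
(1,[20073],[]),
(1,[20075,19945],[]),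
(1,[17138,20076],[]),
(1,[20078],[]),
(1,[20081,17137],[]),
(1,[15190,20082],[]),
(1,[20085],[]),
(1,[20087,17135],[]),
(1,[19266,20088],[]),
(1,[20090],[]),
(1,[20093,19287],[]),
(1,[17132,20094],[]),
(1,[20097],[]),
(1,[20099,19293],[]),
(1,[17130,20100],[]),
(1,[20103],[]),
(1,[20105,18274],[]),
(1,[17887,20106],[]),
(1,[20109],[]),
(1,[20111,18276],[]),
(1,[17095,20112],[]),
(1,[20115],[]),
(1,[20117,18674],[]),
(1,[17042,20118],[]),
(1,[20121],[]),
(1,[20123,18309],[]),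
(1,[17010,20124],[]),
(1,[20127],[]),
(1,[20129,18307],[]),
(1,[8504,20130],[]),
(1,[20133],[]),
(1,[20135,18305],[]),
(1,[15554,20136],[]),
(1,[20139],[]),
(1,[20141,18303],[]),
(1,[7982,20142],[]),
(1,[20145],[]),
(1,[20147,18301],[]),
(1,[17035,20148],[]),
(1,[20151],[]),
(1,[20153,18299],[]),
(1,[17049,20154],[]),
(1,[20157],[]),
(1,[20159,18297],[]),
(1,[17508,20160],[]),
(1,[20163],[]),
(1,[20165,18295],[]),
(1,[17506,20166],[]),
(1,[20169],[]),
(1,[20171,18676],[]),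
(6,[10951,10949,10947,10945,18970,18972,18974,18976],[4041,10887,10885,10883,10881,18318,18902,19321,19495,18326,20173,17506,17893,17041,17039,17069]),
(1,[20174],[]),
(1,[20177,18977],[]),
(1,[17102,20178],[]),
(1,[20181],[]),
(1,[20183,18975],[]),
(1,[17100,20184],[]),
(1,[20187],[]),
(1,[20189,18973],[]),
(1,[17882,20190],[]),
(1,[20193],[]),
(1,[20195,18971],[]),
(1,[16228,20196],[]),
(1,[20198],[]),
(1,[20201,16227],[]),
(1,[10942,20202],[]),
(1,[20205],[]),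
(1,[20207,16220],[]),
(1,[10940,20208],[]),
(1,[20210],[]),
(1,[20213,10939],[]),
(1,[7024,20214],[]),
(1,[20213,10940],[]),
(1,[20217],[]),
(1,[20221,10937],[]),
(1,[15541,20222],[]),
(1,[20225],[]),
(1,[20227,10935],[]),
(1,[7072,20228],[]),
(1,[20231],[]),
(1,[20233,10933],[]),
(1,[16270,20234],[]),
(1,[20236],[]),
(1,[20239,16352],[]),
(1,[10895,20240],[]),
(1,[20243],[]),
(1,[20245,16329],[]),
(1,[11005,20246],[]),
(1,[20248],[]),
(1,[20251,18582],[]),
(1,[7064,20252],[]),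
(1,[20255],[]),
(1,[20257,18584],[]),
(1,[7825,20258],[]),
(1,[20261],[]),
(1,[20263,18586],[]),
(1,[15543,20264],[]),
(1,[20267],[]),
(1,[20269,19245],[]),
(1,[7603,20270],[]),
(1,[20273],[]),
(1,[20275,13788],[]),
(1,[7559,20276],[]),
(1,[20279],[]),
(1,[20281,13790],[]),
(1,[7561,20282],[]),
(1,[20285],[]),
(1,[20287,13736],[]),
(1,[7563,20288],[]),
(1,[20291],[]),
(1,[20293,13708],[]),
(1,[16561,20294],[]),
(1,[20296],[]),
(1,[20299,16600],[]),
(1,[13643,20300],[]),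
(1,[20303],[]),
(1,[20305,16602],[]),
(1,[13675,20306],[]),
(1,[20309],[]),
(1,[20311,16665],[]),
(1,[13711,20312],[]),
(1,[20315],[]),
(1,[20317,16663],[]),
(1,[13768,20318],[]),
(1,[20321],[]),
(1,[20323,16661],[]),
(1,[13766,20324],[]),
(1,[20327],[]),
(1,[20329,16659],[]),
(1,[13764,20330],[]),
(1,[20333],[]),
(1,[20335,16657],[]),
(1,[13762,20336],[]),
(1,[20339],[]),
(1,[20341,17963],[]),
(1,[19620,20342],[]),
(1,[20344],[]),
(1,[20347,19717],[]),
(1,[17811,20348],[]),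
(1,[20351],[]),
(1,[20353,19718],[]),
(1,[18673,20354],[]),
(1,[20357],[]),
(1,[20359,19802],[]),
(1,[17981,20360],[]),
(1,[20363],[]),
(1,[20365,19613],[]),
(1,[17796,20366],[]),
(1,[20369],[]),
(1,[20371,19611],[]),
(1,[17794,20372],[]),
(1,[20375],[]),
(1,[20377,19609],[]),
(1,[17792,20378],[]),
(1,[20381],[]),
(1,[20383,19607],[]),
(1,[18116,20384],[]),
(1,[20387],[]),
(1,[20389,19800],[]),
(1,[18114,20390],[]),
(1,[20393],[]),
(1,[20395,19664],[]),
(6,[7030,7032,16151,16301,16324,16960,16143],[7029,7027,20218,10942,10944,10946,10948,11760,18627,18483,18481,18479,18437,18435,18679,18490]),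
(6,[9429,9427,9425,9423,9388,17786,17788,17790,18117,18115,20396,19666,19599,19622,19653,19668,19670,19942,19928,19930,19932],[9430,18173,18171]),
(1,[20400],[]),
(1,[20403,19934],[]),
(1,[18168,20404],[]),
(1,[20407],[]),
(1,[20409,19936],[]),
(1,[18165,20410],[]),
(1,[20413],[]),
(1,[20415,19926],[]),
(1,[18167,20416],[]),
(1,[20419],[]),
(1,[20421,19815],[]),
(6,[9437,9435,9433,9431,18118,18162,18164,18166,20422,19878,19840,19817,15089,17880,17397,17954,17466,17468,17389,17416,17447],[9438,9627,9625]),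
(1,[20424],[]),
(1,[20427,17446],[]),
(1,[9622,20428],[]),
(1,[20431],[]),
(1,[20433,17418],[]),
(1,[18203,20434],[]),
(1,[20436],[]),
(1,[20439,18204],[]),
(1,[17421,20440],[]),
(1,[20443],[]),
(1,[20445,18201],[]),
(1,[8306,20446],[]),
(1,[20449],[]),
(1,[20451,9615],[]),
(1,[8304,20452],[]),
(1,[20455],[]),
(1,[20457,9613],[]),
(1,[17384,20458],[]),
(1,[20460],[]),
(1,[20463,17383],[]),
(1,[9610,20464],[]),
(1,[20467],[]),
(1,[20469,16136],[]),
(1,[9608,20470],[]),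
(1,[20473],[]),
(1,[20475,16138],[]),
(1,[18199,20476],[]),
(1,[20478],[]),
(1,[20481,18018],[]),
(1,[16141,20482],[]),
(1,[20485],[]),
(1,[20487,17993],[]),
(1,[20399,20488],[]),
(1,[20490],[]),
(1,[20493,18491],[]),
(1,[9600,20494],[]),
(1,[20497],[])]
theorem ok40 : data.stepsOK st40 10000 = true := by decide +kernel
def st41 : List Step := [(1,[20499,18489],[]),
(1,[9598,20500],[]),
(1,[20503],[]),
(1,[20505,18476],[]),
(1,[9591,20506],[]),
(1,[20509],[]),
(1,[20511,18440],[]),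
(1,[9361,20512],[]),
(1,[20515],[]),
(1,[20517,10106],[]),
(1,[2385,20518],[]),
(1,[20521],[]),
(1,[20523,10108],[]),
(1,[2387,20524],[]),
(1,[20527],[]),
(1,[20529,10110],[]),
(1,[2389,20530],[]),
(1,[20533],[]),
(1,[20535,10112],[]),
(1,[2391,20536],[]),
(1,[20539],[]),
(1,[20541,10114],[]),
(1,[2393,20542],[]),
(1,[20545],[]),
(1,[20547,10039],[]),
(1,[2276,20548],[]),
(1,[20551],[]),
(1,[20553,10072],[]),
(1,[2193,20554],[]),
(1,[20557],[]),
(1,[20559,9888],[]),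
(1,[2303,20560],[]),
(1,[20563],[]),
(1,[20565,2590],[]),
(1,[2305,20566],[]),
(1,[20569],[]),
(1,[20571,2550],[]),
(1,[111,20572],[]),
(1,[20575],[]),
(1,[20577,2552],[]),
(1,[113,20578],[]),
(1,[20581],[]),
(1,[20583,2436],[]),
(1,[115,20584],[]),
(1,[20587],[]),
(1,[20589,128],[]),
(1,[117,20590],[]),
(1,[20593],[]),
(1,[20595,130],[]),
(1,[119,20596],[]),
(1,[20598],[]),
(1,[20601,119],[])]
theorem ok41 : data.stepsOK st41 10250 = true := by decide +kernel
end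

end Cube
end HN
end H23
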